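import Cfsg.Agent.Mrg.Omega.NO3S.BetaFF.Act
import Cfsg.Agent.Mrg.Omega.NOne.Flat.Off
import Cfsg.Agent.Mrg.Omega.NO3S.Fld.LevBR
import Cfsg.Agent.Mrg.Omega.NO3b.Wc.Frame
import Cfsg.Agent.ZN.ChoiceSit
import Cfsg.Agent.Mrg.Omega.NOThreeL.VF.One

-- merged: Cfsg.Agent.Mrg.Omega.NO3S.SFive.WCBase
section

section


/-!
# GammaFF (S5), `k = 1` natural: THEOREM WC1 (helper879 #23006), the block analysis in adapted coordinates

`L = V_P` natural for `SL₂(K)`, `|K| ≥ 4`, `N : Crd K S P L`, `R = N.R` the root line; `F` a maximal bad subgroup of `V`,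
`E`, `W`; `B` (`BH V F B`) elementary abelian, `I = V ∩ B`.

* `BH_cj` : `BH V F B` is invariant under `N(V)`;
* `Rt N V F B R'` : `B` acts on `L` as the full root group, `R ∩ F = 1`, `R ≤ B`, `[V, B] ≤ R R'`;
* `rt_of` : this holds if `B ≤ S`, `|I : F| = |K|`, `L ≰ E`, `[E, B] ≤ R'`.
-/

set_option autoImplicit false
set_option linter.unusedSectionVars false
set_option linter.unusedVariables false

namespace Cfsg.Agent.Omega.NO3S.SFive.One

/- `WW`, `Hyp` are those of `NOne.Flat` in this namespace (and not those of `NO3S`). -/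
export Cfsg.Agent.Omega.NOne.Flat (WW Hyp)

open Subgroup Cfsg Cfsg.Agent.ZN Cfsg.Agent.ZN.ChoiceBase Cfsg.Agent.Omega.MinPar
open Cfsg.Agent.Omega.NOne.Flat (Hyp EE WW NN Cos card_mul_relIndex')
open Cfsg.Agent.Omega.NOne.NearFF (c c_def)
open Cfsg.Agent.Omega.NOThreeL.Low.Key (BH)
open Cfsg.Agent.Omega.NO3S.Fld (Crd)
open scoped Pointwise

universe u

variable {G : Type u} [Group G] [Finite G]

theorem cs_eq (m : G) (H : Subgroup G) : MulAut.conj m • H = cj m H := rfl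

/-- elements of a product -/
theorem sup_split {A B : Subgroup G} (hn : A ≤ normalizer (B : Set G)) {x : G} (hx : x ∈ A ⊔ B) :
    ∃ a ∈ A, ∃ b ∈ B, x = a * b := by
  have h1 : x ∈ ((A ⊔ B : Subgroup G) : Set G) := hx
  rw [coe_mul_of_left_le_normalizer_right A B hn] at h1
  obtain ⟨a, ha, b, hb, hab⟩ := h1
  exact ⟨a, ha, b, hb, hab.symm⟩

/-- subgroups of an abelian group normalise each other -/
theorem ab_norm {V A B : Subgroup G} (hV : V ≤ centralizer (V : Set G)) (hA : A ≤ V) (hB : B ≤ V) :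
    A ≤ normalizer (B : Set G) :=
  (hA.trans (hV.trans (centralizer_le hB))).trans (centralizer_le_normalizer _)

/-- `cj` of a commutator -/
theorem cj_c (g x y : G) : g * c x y * g⁻¹ = c (g * x * g⁻¹) (g * y * g⁻¹) := by
  simp only [c]; group

theorem mem_cj' {g x : G} {H : Subgroup G} (hx : x ∈ H) : g * x * g⁻¹ ∈ cj g H := by
  rw [mem_cj]
  have e : g⁻¹ * (g * x * g⁻¹) * g = x := by group
  rwa [e]

theorem EE_cj {V F : Subgroup G} {m : G} (hm : m ∈ normalizer (V : Set G)) : EE V (cj m F) = cj m (EE V F) := by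
  rw [← cs_eq m F, ← cs_eq m (EE V F)]
  exact (NOne.Flat.EE_conj hm).symm

theorem WW_cj {V F : Subgroup G} {m : G} (hm : m ∈ normalizer (V : Set G)) : WW V (cj m F) = cj m (WW V F) := by
  rw [← cs_eq m F, ← cs_eq m (WW V F)]
  exact (NOne.Flat.WW_conj hm).symm

theorem Hyp_cj {V F : Subgroup G} (h : Hyp V F) {m : G} (hm : m ∈ normalizer (V : Set G)) : Hyp V (cj m F) := by
  rw [← cs_eq m F]
  exact h.conj hm

/-- `BH` is invariant under `N(V)`. -/
theorem BH_cj {V F B : Subgroup G} (h : BH V F B) {m : G} (hm : m ∈ normalizer (V : Set G)) :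
    BH V (cj m F) (cj m B) := by
  have h0 := Hyp_cj h.toHyp hm
  have h1 : cj m B ≤ WW V (cj m F) := by
    rw [WW_cj hm]
    exact cj_mono m h.le_W
  have h2 : cj m B ≤ centralizer ((cj m B : Subgroup G) : Set G) := by
    rw [← cj_centralizer]
    exact cj_mono m h.abel
  have h3 : centralizer ((cj m F : Subgroup G) : Set G) ≤ normalizer ((cj m B : Subgroup G) : Set G) := by
    rw [← cj_centralizer, ← cj_normalizer]
    exact cj_mono m h.norm
  exact { toHyp := h0, le_W := h1, F_le := cj_mono m h.F_le, abel := h2, norm := h3 }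

variable {K : Type*} [Field K] {S P L V F B R' : Subgroup G}

/-- The output of the block analysis: `B` acts on `L` as the full root group. -/
structure Rt (N : Crd K S P L) (V F B R' : Subgroup G) : Prop where
  cen : B ≤ centralizer (N.R : Set G)
  full : ∀ a : K, ∃ b ∈ B, N.Act b (RingEquiv.refl K) a
  RF : N.R ⊓ F = ⊥
  RB : N.R ≤ B
  comm : ∀ v ∈ V, ∀ b ∈ B, c v b ∈ N.R ⊔ R'

section

variable [Finite K] [CharP K 2] (N : Crd K S P L) (bh : BH V F B) (hsq : ∀ b ∈ B, b ^ 2 = 1) (hBS : B ≤ S)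
  (hLV : L ≤ V)
include N bh hsq hBS hLV

/-- `c v b ∈ R` for `v ∈ L`, `b ∈ C_S(R)` -/
theorem c_mem_R {v b : G} (hb : b ∈ S) (hbR : b ∈ centralizer (N.R : Set G)) (hv : v ∈ L) : c v b ∈ N.R := by
  have h1 := N.comm_R hb hbR hv
  have h2 := inv_mem h1
  have e : (b * v * b⁻¹ * v⁻¹)⁻¹ = c v b := by rw [c]; group
  rwa [e] at h2

/-- no field automorphisms -/
theorem cen_of (h4 : 2 < F.relIndex (V ⊓ B)) (hLE : ¬ L ≤ EE V F) : B ≤ centralizer (N.R : Set G) := by
  by_contra hn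
  have hsq' : ∀ a ∈ B, a ^ 2 ∈ centralizer (N.R : Set G) := fun a ha => by
    rw [hsq a ha]; exact one_mem _
  obtain ⟨φ, h1, h2, h3⟩ := N.exists_phi hBS hsq' hn
  obtain ⟨f, hf, hfR⟩ := SetLike.not_le_iff_exists.1 hn
  obtain ⟨cf, hcf⟩ := h3 f hf hfR
  -- the elements of `C_B(R)` centralise `L`
  have key : ∀ d ∈ B, d ∈ centralizer (N.R : Set G) → d ∈ centralizer (L : Set G) := by
    intro d hd hdR
    obtain ⟨cd, hcd⟩ := N.exists_root (hBS hd) hdR
    obtain ⟨y, hy⟩ : ∃ y, φ y ≠ y := by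
      by_contra hcon
      push Not at hcon
      exact h1 (RingEquiv.ext hcon)
    rw [hcd.mem_centV]
    refine ⟨rfl, ?_⟩
    have h5 := bh.quad (hLV (N.e_mem ![0, y])) hf hd
    have h6 : c (N.e ![0, y]) f = N.e ![-(cf * φ y), y - φ y] := by
      have h7 := hcf ![0, y]
      have e : c (N.e ![0, y]) f = N.e ![0, y] * (f * N.e ![0, y] * f⁻¹)⁻¹ := by rw [c]; group
      rw [e, h7, ← N.e_neg, ← N.e_add]
      congr 1
      apply NatPair.ext2 <;> simp [sub_eq_add_neg]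
    rw [h6] at h5
    have h8 := hcd ![-(cf * φ y), y - φ y]
    rw [← h5, mul_inv_cancel_right] at h8
    have h9 := congrFun (N.e_inj h8) 0
    have h10 : cd * (y - φ y) = 0 := by
      have h11 : -(cf * φ y) = -(cf * φ y) + cd * (y - φ y) := by simpa using h9
      exact left_eq_add.1 h11
    rcases mul_eq_zero.1 h10 with h11 | h11
    · exact h11
    · exact absurd (sub_eq_zero.1 h11).symm hy
  obtain ⟨w, hw, hwE⟩ := SetLike.not_le_iff_exists.1 hLE
  refine absurd h4 (not_lt.2 (bh.relIndex_le_two (hLV hw) hwE fun b hb b' hb' hbw hbw' => ?_))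
  have hmv : ∀ b ∈ B, b * w * b⁻¹ ≠ w → b ∉ centralizer (N.R : Set G) := by
    intro b hb hbw hbR
    apply hbw
    have h5 := mem_centralizer_iff.1 (key b hb hbR) w hw
    rw [← h5, mul_inv_cancel_right]
  obtain ⟨c1, hc1⟩ := h3 b hb (hmv b hb hbw)
  obtain ⟨c2, hc2⟩ := h3 b' hb' (hmv b' hb' hbw')
  have h5 : b'⁻¹ * b ∈ centralizer (L : Set G) := by
    refine key _ (mul_mem (inv_mem hb') hb) ?_
    rw [(hc2.inv.mul hc1).mem_centR]
    ext x
    simp
  have h6 := mem_centralizer_iff.1 h5 w hw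
  calc b * w * b⁻¹ = b' * ((b'⁻¹ * b) * w) * b⁻¹ := by group
    _ = b' * (w * (b'⁻¹ * b)) * b⁻¹ := by rw [h6]
    _ = b' * w * b'⁻¹ := by group

/-- `R ∩ F = 1`, `R ≤ B`, `|I : F| = |K|` -/
theorem RF_of (hcen : B ≤ centralizer (N.R : Set G)) (hidx : Nat.card K ≤ F.relIndex (V ⊓ B))
    (hLE : ¬ L ≤ EE V F) : N.R ⊓ F = ⊥ ∧ N.R ≤ B ∧ F.relIndex (V ⊓ B) = Nat.card K := by
  obtain ⟨w, hw, hwE⟩ := SetLike.not_le_iff_exists.1 hLE
  have hF := bh.F_le_I
  -- `I = (R ∩ I) F`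
  have h1 : (N.R ⊓ (V ⊓ B)) ⊔ F = V ⊓ B := by
    apply le_antisymm (sup_le inf_le_right hF)
    intro y hy
    obtain ⟨b, hb, hbF⟩ := bh.surj (hLV hw) hwE hy
    have h2 := c_mem_R N bh hsq hBS hLV (hBS hb) (hcen hb) hw
    have e : y = c w b * ((c w b)⁻¹ * y) := by group
    rw [e]
    exact mul_mem (mem_sup_left ⟨h2, bh.c_memI (hLV hw) hb⟩) (mem_sup_right hbF)
  have hnF : (N.R ⊓ (V ⊓ B) : Subgroup G) ≤ normalizer (F : Set G) :=
    ab_norm bh.toHyp.comm (inf_le_right.trans inf_le_left) bh.toHyp.F_le_V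
  have h2 := NOne.Flat.Off.card_sup_mul_inf hnF
  rw [h1] at h2
  have h3 := card_mul_relIndex' hF
  have h4 : Nat.card ↥(N.R ⊓ (V ⊓ B) : Subgroup G) ≤ Nat.card K := by
    rw [← N.card_R]
    exact Subgroup.card_le_of_le inf_le_left
  have p1 : 0 < Nat.card F := Nat.card_pos
  have p2 : 0 < Nat.card K := Nat.card_pos
  rw [← h3] at h2
  have h5 : F.relIndex (V ⊓ B) * Nat.card ↥((N.R ⊓ (V ⊓ B)) ⊓ F : Subgroup G) =
      Nat.card ↥(N.R ⊓ (V ⊓ B) : Subgroup G) := by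
    have h6 : Nat.card F * (F.relIndex (V ⊓ B) * Nat.card ↥((N.R ⊓ (V ⊓ B)) ⊓ F : Subgroup G)) =
        Nat.card F * Nat.card ↥(N.R ⊓ (V ⊓ B) : Subgroup G) := by
      rw [← mul_assoc, h2, mul_comm]
    exact Nat.eq_of_mul_eq_mul_left p1 h6
  have h6 : Nat.card ↥((N.R ⊓ (V ⊓ B)) ⊓ F : Subgroup G) = 1 := by
    have p3 : 0 < Nat.card ↥((N.R ⊓ (V ⊓ B)) ⊓ F : Subgroup G) := Nat.card_pos
    by_contra hne
    have h7 : 2 ≤ Nat.card ↥((N.R ⊓ (V ⊓ B)) ⊓ F : Subgroup G) := by omega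
    have h8 := Nat.mul_le_mul hidx h7
    omega
  rw [h6, mul_one] at h5
  have h8 : F.relIndex (V ⊓ B) = Nat.card K := le_antisymm (by rw [h5]; exact h4) hidx
  have h7 : N.R ⊓ (V ⊓ B) = N.R := Subgroup.eq_of_le_of_card_ge inf_le_left (by rw [N.card_R, ← h5, h8])
  refine ⟨?_, (inf_eq_left.1 h7).trans inf_le_right, h8⟩
  rw [← h7]
  exact Subgroup.card_eq_one.1 h6

/-- The root group is full. -/
theorem full_of (hcen : B ≤ centralizer (N.R : Set G)) (hRF : N.R ⊓ F = ⊥) (hRB : N.R ≤ B) (hLE : ¬ L ≤ EE V F)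
    (a : K) : ∃ b ∈ B, N.Act b (RingEquiv.refl K) a := by
  obtain ⟨w, hw, hwE⟩ := SetLike.not_le_iff_exists.1 hLE
  obtain ⟨x, rfl⟩ := (N.mem_iff w).1 hw
  have hx : x 1 ≠ 0 := by
    intro h0
    apply hwE
    exact bh.I_le_E ⟨hLV hw, hRB (N.e_mem_R.2 h0)⟩
  have ht : N.e ![-(a * x 1), 0] ∈ V ⊓ B :=
    ⟨hLV (N.e_mem _), hRB ⟨_, rfl⟩⟩
  obtain ⟨b, hb, hbF⟩ := bh.surj (hLV hw) hwE ht
  have h2 := c_mem_R N bh hsq hBS hLV (hBS hb) (hcen hb) hw
  have h3 : (c (N.e x) b)⁻¹ * N.e ![-(a * x 1), 0] = 1 := by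
    have h4 : (c (N.e x) b)⁻¹ * N.e ![-(a * x 1), 0] ∈ N.R ⊓ F := ⟨N.R.mul_mem (N.R.inv_mem h2) ⟨_, rfl⟩, hbF⟩
    rw [hRF] at h4
    exact mem_bot.1 h4
  have h4 : c (N.e x) b = N.e ![-(a * x 1), 0] := (inv_mul_eq_one.1 h3)
  obtain ⟨cb, hcb⟩ := N.exists_root (hBS hb) (hcen hb)
  have h5 : c (N.e x) b = N.e ![-(cb * x 1), 0] := by
    have h7 := hcb x
    have e : c (N.e x) b = N.e x * (b * N.e x * b⁻¹)⁻¹ := by rw [c]; group
    rw [e, h7, ← N.e_neg, ← N.e_add]
    congr 1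
    apply NatPair.ext2 <;> simp
  rw [h5] at h4
  have h6 := congrFun (N.e_inj h4) 0
  have h7 : cb * x 1 = a * x 1 := by simpa using h6
  have h8 := mul_right_cancel₀ hx h7
  subst h8
  exact ⟨b, hb, hcb⟩

/-- `L ∩ E = R` -/
theorem inf_E (hcen : B ≤ centralizer (N.R : Set G)) (hRF : N.R ⊓ F = ⊥) (hRB : N.R ≤ B) (hLE : ¬ L ≤ EE V F) :
    L ⊓ EE V F = N.R := by
  have hfull := full_of N bh hsq hBS hLV hcen hRF hRB hLE
  have hRE : N.R ≤ EE V F := fun r hr => bh.I_le_E ⟨hLV (N.R_le hr), hRB hr⟩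
  refine le_antisymm ?_ (le_inf N.R_le hRE)
  rintro v ⟨hv, hvE⟩
  obtain ⟨x, rfl⟩ := (N.mem_iff v).1 hv
  rw [N.e_mem_R]
  by_contra hx
  obtain ⟨b, hb, hbc⟩ := hfull 1
  have h5 : c (N.e x) b ∈ N.R ⊓ F :=
    ⟨c_mem_R N bh hsq hBS hLV (hBS hb) (hcen hb) hv, bh.toHyp.comm_EW hvE (bh.le_W hb)⟩
  rw [hRF, mem_bot, NOne.Flat.Off.c_eq_one] at h5
  have h6 := hbc x
  rw [← h5, mul_inv_cancel_right] at h6
  have h7 := congrFun (N.e_inj h6) 0
  have h8 : x 0 = x 0 + x 1 := by simpa using h7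
  exact hx (left_eq_add.1 h8)

/-- **`|I : F| = |K| ≤ |V : E|`** at a bad line. -/
theorem idx_of (h4 : 4 ≤ Nat.card K) (hidx : Nat.card K ≤ F.relIndex (V ⊓ B)) (hLE : ¬ L ≤ EE V F) :
    F.relIndex (V ⊓ B) = Nat.card K ∧ F.relIndex (V ⊓ B) ≤ (EE V F).relIndex V := by
  have hcen := cen_of N bh hsq hBS hLV (by omega) hLE
  obtain ⟨hRF, hRB, hidx'⟩ := RF_of N bh hsq hBS hLV hcen hidx hLE
  refine ⟨hidx', ?_⟩
  rw [hidx']
  have h1 := inf_E N bh hsq hBS hLV hcen hRF hRB hLE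
  have h2 : (EE V F).relIndex L = Nat.card K := by
    rw [← inf_relIndex_right, inf_comm, h1]
    have h3 := card_mul_relIndex' N.R_le
    rw [N.card_R, N.card_V] at h3
    exact Nat.eq_of_mul_eq_mul_left Nat.card_pos h3
  rw [← h2]
  exact relIndex_le_of_le_right hLV index_ne_zero_of_finite

/-- **The block analysis.** -/
theorem rt_of (h4 : 4 ≤ Nat.card K) (hidx : F.relIndex (V ⊓ B) = Nat.card K) (hLE : ¬ L ≤ EE V F)
    (hρ : ∀ e ∈ EE V F, ∀ b ∈ B, c e b ∈ R') : Rt N V F B R' := by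
  have hcen := cen_of N bh hsq hBS hLV (by omega) hLE
  obtain ⟨hRF, hRB, -⟩ := RF_of N bh hsq hBS hLV hcen hidx.ge hLE
  have hfull := full_of N bh hsq hBS hLV hcen hRF hRB hLE
  refine ⟨hcen, hfull, hRF, hRB, ?_⟩
  have h1 := inf_E N bh hsq hBS hLV hcen hRF hRB hLE
  -- `V = L E`
  have hI : ¬ V ⊓ B ≤ F := fun h => by
    rw [relIndex_eq_one.2 h] at hidx
    omega
  have h2 : L ⊔ EE V F = V := by
    refine Subgroup.eq_of_le_of_card_ge (sup_le hLV inf_le_left) ?_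
    have hn : L ≤ normalizer (EE V F : Set G) := ab_norm bh.toHyp.comm hLV inf_le_left
    have h5 := NOne.Flat.Off.card_sup_mul_inf hn
    rw [h1, N.card_R, N.card_V] at h5
    have h6 := card_mul_relIndex' (inf_le_left : EE V F ≤ V)
    have h7 := bh.relIndex_V_le hI
    rw [hidx] at h7
    have p : 0 < Nat.card K := Nat.card_pos
    have h8 : Nat.card ↥(L ⊔ EE V F) = Nat.card K * Nat.card ↥(EE V F) := by
      have h9 : Nat.card K * Nat.card ↥(L ⊔ EE V F) = Nat.card K * (Nat.card K * Nat.card ↥(EE V F)) := by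
        rw [mul_comm, h5, mul_assoc]
      exact Nat.eq_of_mul_eq_mul_left p h9
    rw [h8, ← h6, mul_comm]
    exact Nat.mul_le_mul_right _ h7
  intro v hv b hb
  rw [← h2] at hv
  have hn : L ≤ normalizer (EE V F : Set G) := ab_norm bh.toHyp.comm hLV inf_le_left
  obtain ⟨l, hl, e, he, rfl⟩ := sup_split hn hv
  rw [bh.toHyp.c_mul_left (hLV hl) he.1 (bh.le_W hb)]
  exact mul_mem (mem_sup_left (c_mem_R N bh hsq hBS hLV (hBS hb) (hcen hb) hl)) (mem_sup_right (hρ e he b hb))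

end

end Cfsg.Agent.Omega.NO3S.SFive.One

end

section


/-!
# GammaFF (S5), `k = 1` natural: THEOREM WC1 (helper879 #23006 (3)), the end

`Wc S P V M F B N` : `W_F ≤ S` moves `L = V_P` (natural for `SL₂(K)`, `|K| ≥ 4`, coordinates `N : Crd K S P L`),
`B = B_F ≤ Q = O₂(P)`, `I = V ∩ B = L F`, `|I : F| ≤ |V : E|`; `B^m ≤ S` centralises `L` if `L ≤ E^m`.

* `Wc.WR`, `Wc.inf_F`, `Wc.W_full`, `Wc.idx`, `Wc.rho` : `W` acts on `L` as the full root group, `L ∩ F = R`, `|I : F| = |K|`,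
  `[E, B] ≤ R`;
* `Wc.rt` : `B^m ≤ S`, `L ≰ E^m`: `B^m` acts on `L` as the full root group, `R ∩ F^m = 1`, `[V, B^m] ≤ R R^m`;
* **`Wc.false`** : `Q ≤ S^g`, `Q^g ≤ S^a` (`g ∈ M`, `a ∈ P`), `L^g ≰ E` is impossible.
-/

set_option autoImplicit false
set_option linter.unusedSectionVars false
set_option linter.unusedVariables false

namespace Cfsg.Agent.Omega.NO3S.SFive.One

open Subgroup Cfsg Cfsg.Agent.ZN Cfsg.Agent.ZN.ChoiceBase Cfsg.Agent.Omega.MinPar
open Cfsg.Agent.Omega.NOne.Flat (Hyp EE WW NN Cos card_mul_relIndex')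
open Cfsg.Agent.Omega.NOne.NearFF (c c_def)
open Cfsg.Agent.Omega.NOThreeL.Low.Key (BH)
open Cfsg.Agent.Omega.NO3S.Fld (Crd)
open Cfsg.Agent.Omega.NO3S.BetaFF (Act)
open Cfsg.Agent.Omega.FFThm (StmtM)
open Cfsg.Agent.Omega.NatPair (ap ap_zero' ap_one' ap_one ap_mul ap_ap_inv ext2)
open Cfsg.Agent.Lib.SL2Mat
open scoped Pointwise

universe u

variable {G : Type u} [Group G] [Finite G]

theorem relIndex_cj (m : G) (A B : Subgroup G) : (cj m A).relIndex (cj m B) = A.relIndex B := by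
  rw [← cs_eq m A, ← cs_eq m B]
  exact relIndex_pointwise_smul (MulAut.conj m) A B

/-- **The situation of THEOREM WC1.** -/
structure Wc {K : Type*} [Field K] (S : Sylow 2 G) (P V M F B : Subgroup G)
    (N : Crd K (S : Subgroup G) P (zl (S : Subgroup G) P)) : Prop extends Act S P V F where
  four : 4 ≤ Nat.card K
  PM : P ≤ M
  MV : M ≤ normalizer (V : Set G)
  VS : V ≤ (S : Subgroup G)
  bh : BH V F B
  sq : ∀ b ∈ B, b ^ 2 = 1
  BQ : B ≤ o2 P
  LB : zl (S : Subgroup G) P ≤ B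
  IL : V ⊓ B ≤ zl (S : Subgroup G) P ⊔ F
  idxV : F.relIndex (V ⊓ B) ≤ (EE V F).relIndex V
  good : ∀ m ∈ M, cj m B ≤ (S : Subgroup G) → zl (S : Subgroup G) P ≤ cj m (EE V F) →
    cj m B ≤ centralizer (zl (S : Subgroup G) P : Set G)

/-- A 2-group `A` and a 2-group `C` of `H`: some Sylow group of `H` contains `A` and a conjugate of `C`. -/
theorem exists_syl_conj {H A C : Subgroup G} (hA : IsPGroup 2 A) (hAH : A ≤ H) (hC : IsPGroup 2 C) (hCH : C ≤ H) :
    ∃ T ≤ H, IsPGroup 2 T ∧ A ≤ T ∧ ∃ y ∈ H, cj y C ≤ T := by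
  have : Fact (Nat.Prime 2) := ⟨Nat.prime_two⟩
  have hA' : IsPGroup 2 (A.subgroupOf H) := hA.comap_of_injective H.subtype H.subtype_injective
  have hC' : IsPGroup 2 (C.subgroupOf H) := hC.comap_of_injective H.subtype H.subtype_injective
  obtain ⟨T, hT⟩ := hA'.exists_le_sylow
  obtain ⟨T', hT'⟩ := hC'.exists_le_sylow
  obtain ⟨y, hy⟩ := MulAction.exists_smul_eq H T' T
  refine ⟨(T : Subgroup H).map H.subtype, ?_, T.isPGroup'.map _, fun a ha => ?_, y, y.2, ?_⟩
  · rintro _ ⟨x, -, rfl⟩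
    exact x.2
  · exact ⟨⟨a, hAH ha⟩, hT (by rw [mem_subgroupOf]; exact ha), rfl⟩
  · intro x hx
    rw [mem_cj] at hx
    have h1 : (⟨(y : G)⁻¹ * x * y, hCH hx⟩ : H) ∈ (T' : Subgroup H) := hT' (by rw [mem_subgroupOf]; exact hx)
    have h2 : y * ⟨(y : G)⁻¹ * x * y, hCH hx⟩ * y⁻¹ ∈ ((y • T' : Sylow 2 H) : Subgroup H) := by
      rw [Sylow.coe_subgroup_smul, Subgroup.mem_pointwise_smul_iff_inv_smul_mem]
      have h3 : ∀ z : H, (MulAut.conj y)⁻¹ • (y * z * y⁻¹) = z := fun z => by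
        rw [MulAut.smul_def, MulAut.conj_inv_apply]
        group
      rw [h3]
      exact h1
    rw [hy] at h2
    refine ⟨_, h2, ?_⟩
    show (y : G) * ((y : G)⁻¹ * x * y) * (y : G)⁻¹ = x
    group

namespace Wc

variable {K : Type*} [Field K] {S : Sylow 2 G} {P V M F B : Subgroup G}
  {N : Crd K (S : Subgroup G) P (zl (S : Subgroup G) P)} (h : Wc S P V M F B N)
include h

theorem QS : o2 P ≤ (S : Subgroup G) := h.par.isLoc.o2_le S

theorem BS : B ≤ (S : Subgroup G) := h.BQ.trans h.QS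

theorem cjV {m : G} (hm : m ∈ M) : cj m V = V := cj_eq_of_mem_normalizer (h.MV hm)

theorem WR [Finite K] [CharP K 2] : WW V F ≤ centralizer (N.R : Set G) :=
  N.off_le_centR h.WS h.elemM h.offM.le

/-- `L ∩ F = R` -/
theorem inf_F [Finite K] [CharP K 2] : zl (S : Subgroup G) P ⊓ F = N.R := by
  apply le_antisymm
  · rintro v ⟨hv, hvF⟩
    obtain ⟨s, hs, hsL⟩ := SetLike.not_le_iff_exists.1 h.mov
    refine N.fix (h.WS hs) (h.WR hs) hsL hv ?_
    exact (Hyp.F_comm hvF (Hyp.W_le_X hs)).symm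
  · refine le_inf N.R_le ?_
    rw [← h.hyp.cent_VW]
    exact le_inf (N.R_le.trans h.LV) (le_centralizer_iff.1 h.WR)

theorem relF [Finite K] [CharP K 2] : F.relIndex (zl (S : Subgroup G) P) = Nat.card K := by
  rw [← inf_relIndex_right, inf_comm, h.inf_F]
  have h1 := card_mul_relIndex' N.R_le
  rw [N.card_R, N.card_V] at h1
  exact Nat.eq_of_mul_eq_mul_left Nat.card_pos h1

/-- `W` induces the full root group. -/
theorem W_full [Finite K] [CharP K 2] (hFF : StmtM.{u}) (a : K) : ∃ s ∈ WW V F, N.Act s (RingEquiv.refl K) a := by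
  have hD : WW V F ≤ N.B := le_inf h.WS h.WR
  have h1 := N.relIndex_eq hD
  rw [h.exact hFF, h.relIndex_F, h.relF] at h1
  have h2 : (N.rtHom hD).range = ⊤ := by
    apply Subgroup.eq_top_of_card_eq
    rw [← h1]
    rfl
  have h3 : Multiplicative.ofAdd a ∈ (N.rtHom hD).range := by rw [h2]; exact mem_top _
  obtain ⟨⟨s, hs⟩, hs'⟩ := h3
  refine ⟨s, hs, ?_⟩
  have h4 : N.rt s = a := congrArg Multiplicative.toAdd hs'
  rw [← h4]
  exact N.act_rt (h.WS hs) (h.WR hs)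

theorem I_eq : V ⊓ B = zl (S : Subgroup G) P ⊔ F :=
  le_antisymm h.IL (sup_le (le_inf h.LV h.LB) h.bh.F_le_I)

theorem idx [Finite K] [CharP K 2] : F.relIndex (V ⊓ B) = Nat.card K := by
  have hn : zl (S : Subgroup G) P ≤ normalizer (F : Set G) := ab_norm h.hyp.comm h.LV h.hyp.F_le_V
  have h1 := NOne.Flat.Off.card_sup_mul_inf hn
  rw [← h.I_eq, h.inf_F, N.card_R, N.card_V] at h1
  have h2 := card_mul_relIndex' h.bh.F_le_I
  rw [← h2] at h1
  have p1 : 0 < Nat.card F := Nat.card_pos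
  have p2 : 0 < Nat.card K := Nat.card_pos
  have h3 : (Nat.card F * Nat.card K) * F.relIndex (V ⊓ B) = (Nat.card F * Nat.card K) * Nat.card K := by
    calc _ = Nat.card F * F.relIndex (V ⊓ B) * Nat.card K := by ring
      _ = _ := by rw [h1]; ring
  exact Nat.eq_of_mul_eq_mul_left (Nat.mul_pos p1 p2) h3

theorem R_le_F [Finite K] [CharP K 2] : N.R ≤ F := by
  rw [← h.inf_F]; exact inf_le_right

theorem exists_b [Finite K] [CharP K 2] : ∃ b ∈ B, b ∉ NN V F := by
  refine h.bh.exists_not_mem_NN fun h1 => ?_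
  have h2 := h.idx
  rw [relIndex_eq_one.2 h1] at h2
  have := h.four
  omega

/-- `[E, B] ≤ R` -/
theorem rho [Finite K] [CharP K 2] : ∀ e ∈ EE V F, ∀ b ∈ B, c e b ∈ N.R := by
  intro e he b hb
  by_cases hbN : b ∈ NN V F
  · have h1 : c e b = 1 := by
      rw [NOne.Flat.Off.c_eq_one]
      exact mem_centralizer_iff.1 hbN.2 e he
    rw [h1]
    exact one_mem _
  · obtain ⟨r, hr, hrR⟩ := N.exists_ne_R
    have hrF : r ∉ F := fun h1 => hrR (by rw [← h.inf_F]; exact ⟨hr, h1⟩)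
    obtain ⟨s, hs, hsc⟩ := (h.bh.root h.idxV ⟨h.LV hr, h.LB hr⟩ hrF hb hbN (c e b)).2 ⟨e, he, rfl⟩
    rw [← hsc]
    have h1 := inv_mem (N.comm_R (h.WS hs) (h.WR hs) hr)
    have e1 : (s * r * s⁻¹ * r⁻¹)⁻¹ = c r s := by rw [c]; group
    rwa [e1] at h1

theorem cjI {m : G} (hm : m ∈ M) : V ⊓ cj m B = cj m (V ⊓ B) := by
  rw [cj_inf, h.cjV hm]

/-- **The block analysis** at the chamber `S^m`. -/
theorem rt [Finite K] [CharP K 2] {m : G} (hm : m ∈ M) (hmS : cj m B ≤ (S : Subgroup G))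
    (hE : ¬ zl (S : Subgroup G) P ≤ cj m (EE V F)) : Rt N V (cj m F) (cj m B) (cj m N.R) := by
  have hmV := h.MV hm
  have hEE : EE V (cj m F) = cj m (EE V F) := EE_cj hmV
  refine rt_of N (BH_cj h.bh hmV) (fun b hb => ?_) hmS h.LV h.four ?_ (by rw [hEE]; exact hE) ?_
  · rw [mem_cj] at hb
    have h1 := h.sq _ hb
    rw [pow_two] at h1 ⊢
    have e : b * b = m * (m⁻¹ * b * m * (m⁻¹ * b * m)) * m⁻¹ := by group
    rw [e, h1]; group
  · rw [h.cjI hm, ← h.idx]
    exact relIndex_cj m F (V ⊓ B)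
  · intro e he b hb
    rw [hEE, mem_cj] at he
    rw [mem_cj] at hb ⊢
    have h1 := h.rho _ he _ hb
    have h2 := cj_c m⁻¹ e b
    rw [inv_inv] at h2
    rw [h2]
    exact h1

/-- The computation `[w, q, b] = [[w, b], x]`, `q = α⁻¹ x`. -/
theorem key [Finite K] [CharP K 2] {g α x w b : G} (hg : g ∈ M) (hQg : o2 P ≤ cj g (S : Subgroup G))
    (rt1 : Rt N V (cj g⁻¹ F) (cj g⁻¹ B) (cj g⁻¹ N.R)) (hB1 : cj g⁻¹ B ≤ (S : Subgroup G))
    (hw : w ∈ cj g (zl (S : Subgroup G) P)) (hwE : w ∉ EE V F) (hb : b ∈ B)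
    (hbN : b ∉ NN V F) (hx : x ∈ WW V F) (hxL : x ∉ centralizer (zl (S : Subgroup G) P : Set G))
    (hα : α⁻¹ * x ∈ o2 P) (hαM : α ∈ M) (hcom : ∀ v ∈ V, α⁻¹ * v * α * v⁻¹ * b = b * (α⁻¹ * v * α * v⁻¹)) : False := by
  have hbW := h.bh.le_W hb
  have hwV : w ∈ V := by
    have h1 := cj_mono g h.LV hw
    rwa [h.cjV hg] at h1
  have hxM : x ∈ normalizer (V : Set G) := h.hyp.W_norm_V hx
  -- `D = [q, w] ∈ L^g`
  set q := α⁻¹ * x with hq
  have hD : q * w * q⁻¹ * w⁻¹ ∈ cj g (zl (S : Subgroup G) P) := by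
    rw [mem_cj]
    have h1 := hQg hα
    rw [mem_cj] at h1 hw
    have h2 := h.PL (h.SP h1)
    have h3 := mul_mem ((mem_normalizer_iff.1 h2 _).1 hw) (inv_mem hw)
    have e : g⁻¹ * q * g * (g⁻¹ * w * g) * (g⁻¹ * q * g)⁻¹ * (g⁻¹ * w * g)⁻¹ = g⁻¹ * (q * w * q⁻¹ * w⁻¹) * g := by
      group
    rwa [e] at h3
  set D := q * w * q⁻¹ * w⁻¹ with hDd
  have hk : b * D * b⁻¹ * D⁻¹ ∈ cj g N.R := by
    rw [mem_cj]
    have hb1 : g⁻¹ * b * g ∈ cj g⁻¹ B := by
      have := mem_cj' (g := g⁻¹) hb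
      rwa [inv_inv] at this
    rw [mem_cj] at hD
    have h1 := N.comm_R (hB1 hb1) (rt1.cen hb1) hD
    have e : g⁻¹ * b * g * (g⁻¹ * D * g) * (g⁻¹ * b * g)⁻¹ * (g⁻¹ * D * g)⁻¹ = g⁻¹ * (b * D * b⁻¹ * D⁻¹) * g := by
      group
    rwa [e] at h1
  -- `D = u y`
  have hv : x * w * x⁻¹ ∈ V := (mem_normalizer_iff.1 hxM _).1 hwV
  set v := x * w * x⁻¹ with hvd
  set u := α⁻¹ * v * α * v⁻¹ with hu
  have hαV : α⁻¹ * v * α ∈ V := by
    have h1 := (mem_normalizer_iff.1 (inv_mem (h.MV hαM)) v).1 hv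
    rwa [inv_inv] at h1
  have huV : u ∈ V := mul_mem hαV (inv_mem hv)
  set y := v * w⁻¹ with hy
  have hyV : y ∈ V := mul_mem hv (inv_mem hwV)
  have hDuy : D = u * y := by
    rw [hDd, hu, hy, hvd, hq]; group
  have hyc : y = c w x := by
    have e : y = (c w x)⁻¹ := by rw [hy, hvd, c]; group
    rw [e]
    exact h.hyp.inv (h.hyp.c_memV hwV hx)
  have hub : u * b = b * u := hcom v hv
  have hbV : b ∈ normalizer (V : Set G) := h.hyp.W_norm_V hbW
  have hbyV : b * y * b⁻¹ ∈ V := (mem_normalizer_iff.1 hbV _).1 hyV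
  have h1 : b * D * b⁻¹ * D⁻¹ = b * y * b⁻¹ * y⁻¹ := by
    have e1 : b * D * b⁻¹ * D⁻¹ = (b * u) * y * b⁻¹ * y⁻¹ * u⁻¹ := by rw [hDuy]; group
    rw [e1, ← hub]
    have e2 : u * b * y * b⁻¹ * y⁻¹ * u⁻¹ = u * (b * y * b⁻¹ * y⁻¹) * u⁻¹ := by group
    rw [e2, h.hyp.V_comm huV (mul_mem hbyV (inv_mem hyV)), mul_inv_cancel_right]
  have h2 : b * y * b⁻¹ * y⁻¹ = (c (c w b) x)⁻¹ := by
    have e : b * y * b⁻¹ * y⁻¹ = (c y b)⁻¹ := by rw [c]; group
    rw [e, hyc, h.hyp.beta_comm hwV hx hbW]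
  rw [h1, h2] at hk
  have hrE : c w b ∈ EE V F := h.hyp.c_memE hwV hbW
  have h3 : c (c w b) x ∈ F := h.hyp.comm_EW hrE hx
  have h4 : c (c w b) x = 1 := by
    have h5 : g⁻¹ * (c (c w b) x) * g ∈ N.R ⊓ cj g⁻¹ F := by
      refine mem_inf.2 ⟨?_, ?_⟩
      · have h6 := inv_mem (mem_cj.1 hk)
        have e : (g⁻¹ * (c (c w b) x)⁻¹ * g)⁻¹ = g⁻¹ * (c (c w b) x) * g := by group
        rwa [e] at h6
      · rw [mem_cj, inv_inv]
        have e : g * (g⁻¹ * (c (c w b) x) * g) * g⁻¹ = c (c w b) x := by group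
        rwa [e]
    rw [rt1.RF, mem_bot] at h5
    have e : c (c w b) x = g * (g⁻¹ * (c (c w b) x) * g) * g⁻¹ := by group
    rw [e, h5]; group
  -- `[w, b] ∈ I - F`
  have hrF : c w b ∉ F := fun h5 => hbN (h.bh.mem_NN_of_c hwV hwE hb h5)
  apply hrF
  have hrI := h.IL (h.bh.c_memI hwV hb)
  obtain ⟨l, hl, f, hf, hlf⟩ := sup_split (ab_norm h.hyp.comm h.LV h.hyp.F_le_V) hrI
  rw [hlf, h.hyp.c_mul_left (h.LV hl) (h.hyp.F_le_V hf) hx, NOne.Flat.Hyp.c_F hf hx, mul_one, NOne.Flat.Off.c_eq_one] at h4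
  have h5 := N.fix (h.WS hx) (h.WR hx) hxL hl h4.symm
  rw [hlf]
  exact mul_mem (h.R_le_F h5) hf

end Wc

/-! ### The matrices -/

section sl

variable {K : Type*} [Field K] {S P L : Subgroup G} (N : Crd K S P L)

/-- the elements which act on `L` by a matrix of `SL₂(K)` -/
def sl : Subgroup G where
  carrier := {g | ∃ A : Matrix.SpecialLinearGroup (Fin 2) K, ∀ x, g * N.e x * g⁻¹ = N.e (ap A x)}
  mul_mem' := by
    rintro g g' ⟨A, hA⟩ ⟨A', hA'⟩
    refine ⟨A * A', fun x => ?_⟩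
    have e : g * g' * N.e x * (g * g')⁻¹ = g * (g' * N.e x * g'⁻¹) * g⁻¹ := by group
    rw [e, hA', hA, ap_mul]
  one_mem' := ⟨1, fun x => by rw [ap_one]; group⟩
  inv_mem' := by
    rintro g ⟨A, hA⟩
    refine ⟨A⁻¹, fun x => ?_⟩
    have h1 := hA (ap A⁻¹ x)
    rw [ap_ap_inv] at h1
    rw [← h1]
    group

theorem mem_sl_of_act {b : G} {a : K} (h : N.Act b (RingEquiv.refl K) a) : b ∈ sl N := by
  refine ⟨up a, fun x => ?_⟩
  rw [h x]
  congr 1
  apply ext2
  · rw [ap_zero']; simp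
  · rw [ap_one']; simp

/-- an element of `SL₂` fixing a vector of the root line is a root element -/
theorem act_of_fix {t : G} (ht : t ∈ sl N) {v : G} (hv : v ∈ N.R) (hv1 : v ≠ 1) (hc : t * v = v * t) :
    ∃ a, N.Act t (RingEquiv.refl K) a := by
  obtain ⟨A, hA⟩ := ht
  obtain ⟨r, rfl⟩ := hv
  have hr : r ≠ 0 := by
    rintro rfl
    apply hv1
    rw [← N.e_zero]
    congr 1
    apply ext2 <;> simp
  have h1 := hA ![r, 0]
  rw [hc, mul_inv_cancel_right] at h1
  have h2 := N.e_inj h1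
  have h3 := congrFun h2 0
  have h4 := congrFun h2 1
  rw [ap_zero'] at h3
  rw [ap_one'] at h4
  have h5 : ent A 0 0 = 1 := by
    have h6 : r = ent A 0 0 * r := by simpa using h3
    have h7 : (ent A 0 0 - 1) * r = 0 := by linear_combination -h6
    exact sub_eq_zero.1 ((mul_eq_zero.1 h7).resolve_right hr)
  have h6 : ent A 1 0 = 0 := by
    have h7 : ent A 1 0 * r = 0 := by simpa using h4.symm
    exact (mul_eq_zero.1 h7).resolve_right hr
  have h7 : ent A 1 1 = 1 := by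
    have := det_eq A
    rw [h5, h6] at this
    linear_combination this
  refine ⟨ent A 0 1, fun x => ?_⟩
  rw [hA x]
  congr 1
  apply ext2
  · rw [ap_zero', h5]; simp
  · rw [ap_one', h6, h7]; simp

end sl

namespace Wc

variable {K : Type*} [Field K] {S : Sylow 2 G} {P V M F B : Subgroup G}
  {N : Crd K (S : Subgroup G) P (zl (S : Subgroup G) P)} (h : Wc S P V M F B N)
include h

/-- 2-subgroups of `C_P(L)` are in `Q`. -/
theorem le_Q {T : Subgroup G} (hT : IsPGroup 2 T) (hTP : T ≤ P)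
    (hTL : T ≤ centralizer (zl (S : Subgroup G) P : Set G)) : T ≤ o2 P := by
  obtain ⟨g, hg, h1⟩ := NOThreeL.VF.exists_conj_le S h.SP hT hTP
  intro t ht
  have h3 : g * t * g⁻¹ ∈ o2 P := by
    rw [← h.o2_eq]
    refine ⟨h1 t ht, ?_⟩
    have h4 : g ∈ normalizer (centralizer (zl (S : Subgroup G) P : Set G) : Set G) :=
      NOne.Flat.normalizer_le_normalizer_centralizer _ (h.PL hg)
    exact (mem_normalizer_iff.1 h4 _).1 (hTL ht)
  exact (mem_normalizer_iff.1 (MinSimple.VModule.le_normalizer_o2 P hg) _).2 h3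

/-- **THEOREM WC1 (3), the end.** -/
theorem false [Finite K] [CharP K 2] (hFF : StmtM.{u}) {g a : G} (hg : g ∈ M) (ha : a ∈ P)
    (hQg : o2 P ≤ cj g (S : Subgroup G)) (hQa : cj g (o2 P) ≤ cj a (S : Subgroup G))
    (hbad : ¬ cj g (zl (S : Subgroup G) P) ≤ EE V F) : False := by
  have hg' : g⁻¹ ∈ M := inv_mem hg
  have hB1 : cj g⁻¹ B ≤ (S : Subgroup G) := by
    have h1 := cj_mono g⁻¹ (h.BQ.trans hQg)
    rwa [cj_inv_cj] at h1
  have hE1 : ¬ zl (S : Subgroup G) P ≤ cj g⁻¹ (EE V F) := fun h1 => hbad (by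
    have h2 := cj_mono g h1
    rwa [cj_cj_inv] at h2)
  have rt1 := h.rt hg' hB1 hE1
  obtain ⟨w, hw, hwE⟩ := SetLike.not_le_iff_exists.1 hbad
  obtain ⟨b, hb, hbN⟩ := h.exists_b
  have hbW := h.bh.le_W hb
  have hLP := h.PL
  have hgR : cj g N.R ≤ B := by
    have h1 := cj_mono g rt1.RB
    rwa [cj_cj_inv] at h1
  have hRb : ∀ z ∈ N.R, z * b = b * z := fun z hz => Hyp.F_comm (h.R_le_F hz) (Hyp.W_le_X hbW)
  by_cases hcase : cj g B ≤ centralizer (N.R : Set G)
  · -- Case 1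
    obtain ⟨x, hx, hxL⟩ := SetLike.not_le_iff_exists.1 h.mov
    have hact := N.act_rt (h.WS hx) (h.WR hx)
    obtain ⟨α, hα, hαact⟩ := rt1.full (N.rt x)
    have hαS : α ∈ (S : Subgroup G) := hB1 hα
    have hαM : α ∈ M := h.PM (h.SP hαS)
    refine h.key hg hQg rt1 hB1 hw hwE hb hbN hx hxL (α := α) ?_ hαM ?_
    · rw [← h.o2_eq]
      refine mem_inf.2 ⟨mul_mem (inv_mem hαS) (h.WS hx), ?_⟩
      rw [(hαact.inv.mul hact).mem_centV]
      refine ⟨by ext y; simp, ?_⟩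
      simp
    · intro v hv
      have h1 := rt1.comm v hv α⁻¹ (inv_mem hα)
      have e : α⁻¹ * v * α * v⁻¹ = (c v α⁻¹)⁻¹ := by rw [c]; group
      rw [e]
      have h2 : N.R ⊔ cj g⁻¹ N.R ≤ centralizer ({b} : Set G) := by
        refine sup_le (fun z hz => ?_) (fun z hz => ?_)
        · rw [mem_centralizer_singleton_iff]
          exact hRb z hz
        · rw [mem_centralizer_singleton_iff]
          rw [mem_cj, inv_inv] at hz
          have h3 := mem_centralizer_iff.1 (hcase (mem_cj' (g := g) hb)) _ hz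
          have h4 : g * (z * b) * g⁻¹ = g * (b * z) * g⁻¹ := by
            calc g * (z * b) * g⁻¹ = g * z * g⁻¹ * (g * b * g⁻¹) := by group
              _ = g * b * g⁻¹ * (g * z * g⁻¹) := h3
              _ = g * (b * z) * g⁻¹ := by group
          exact mul_left_cancel (mul_right_cancel h4)
      exact mem_centralizer_singleton_iff.1 (h2 (inv_mem h1))
  · -- Case 2
    have haM : a ∈ M := h.PM ha
    have hm : a⁻¹ * g ∈ M := mul_mem (inv_mem haM) hg
    have hB3a : cj g B ≤ cj a (S : Subgroup G) := (cj_mono g h.BQ).trans hQa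
    have hB4 : cj (a⁻¹ * g) B ≤ (S : Subgroup G) := by
      have h1 := cj_mono a⁻¹ hB3a
      rwa [cj_inv_cj, cj_cj] at h1
    have hB34 : cj g B = cj a (cj (a⁻¹ * g) B) := by rw [cj_cj, mul_inv_cancel_left]
    have haL : cj a (zl (S : Subgroup G) P) = zl (S : Subgroup G) P := cj_eq_of_mem_normalizer (hLP ha)
    have hne3 : ¬ cj g B ≤ centralizer (zl (S : Subgroup G) P : Set G) := fun h1 =>
      hcase (h1.trans (centralizer_le N.R_le))
    have hne4 : ¬ cj (a⁻¹ * g) B ≤ centralizer (zl (S : Subgroup G) P : Set G) := fun h1 => hne3 (by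
      have h2 := cj_mono a h1
      rwa [← hB34, cj_centralizer, haL] at h2)
    have hE4 : ¬ zl (S : Subgroup G) P ≤ cj (a⁻¹ * g) (EE V F) := fun h1 => hne4 (h.good _ hm hB4 h1)
    have rt2 := h.rt hm hB4 hE4
    have hB3P : cj g B ≤ P := by
      rw [hB34]
      have h1 := cj_mono a (hB4.trans h.SP)
      rwa [cj_eq_of_mem_normalizer (le_normalizer ha)] at h1
    set MK : Subgroup G := zl (S : Subgroup G) P ⊔ cj g N.R with hMK
    have hgRV : cj g N.R ≤ V := by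
      have h1 := cj_mono g (N.R_le.trans h.LV)
      rwa [h.cjV hg] at h1
    have hMKI : MK ≤ V ⊓ B := sup_le (le_inf h.LV h.LB) (le_inf hgRV hgR)
    have hMKb : ∀ z ∈ MK, z * b = b * z := fun z hz => h.bh.B_comm (hMKI hz).2 hb
    -- `[V, B₃] ≤ MK`
    have hcomm : ∀ v ∈ V, ∀ β ∈ cj g B, c v β ∈ MK := by
      intro v hv β hβ
      have h1 : a⁻¹ * v * a ∈ V := by
        have h2 := (mem_normalizer_iff.1 (inv_mem (h.MV haM)) v).1 hv
        rwa [inv_inv] at h2
      have h2 : a⁻¹ * β * a ∈ cj (a⁻¹ * g) B := by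
        rw [hB34, mem_cj] at hβ
        exact hβ
      have h3 := rt2.comm _ h1 _ h2
      have h4 : N.R ⊔ cj (a⁻¹ * g) N.R ≤ cj a⁻¹ MK := by
        refine sup_le ?_ ?_
        · have h5 := cj_mono a⁻¹ (le_sup_left : zl (S : Subgroup G) P ≤ MK)
          rw [cj_eq_of_mem_normalizer (inv_mem (hLP ha))] at h5
          exact N.R_le.trans h5
        · have h5 := cj_mono a⁻¹ (le_sup_right : cj g N.R ≤ MK)
          rwa [cj_cj] at h5
      have h5 := h4 h3
      rw [mem_cj, inv_inv] at h5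
      have e : a * c (a⁻¹ * v * a) (a⁻¹ * β * a) * a⁻¹ = c v β := by
        simp only [c]; group
      rwa [e] at h5
    -- the group `Kh`
    set Kh : Subgroup G := (WW V F ⊔ o2 P) ⊔ cj g B with hKh
    have hWQ : WW V F ⊔ o2 P ≤ (S : Subgroup G) := sup_le h.WS h.QS
    have hKP : Kh ≤ P := sup_le (hWQ.trans h.SP) hB3P
    have hKN : Kh ≤ normalizer (MK : Set G) := by
      refine sup_le (sup_le (fun s hs => ?_) (fun s hs => ?_)) (fun s hs => ?_)
      · refine mem_normalizer_of_cj_le fun z hz => ?_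
        rw [mem_cj] at hz
        obtain ⟨l, hl, f, hf, hlf⟩ := sup_split (ab_norm h.hyp.comm h.LV h.hyp.F_le_V) (h.IL (hMKI hz))
        have h1 : z = (s⁻¹ * z * s) * ((s⁻¹ * z * s)⁻¹ * z) := by group
        have h2 : (s⁻¹ * z * s)⁻¹ * z = l⁻¹ * (s * l * s⁻¹) := by
          have h3 : f * s = s * f := Hyp.F_comm hf (Hyp.W_le_X hs)
          have h4 : z = s * (l * f) * s⁻¹ := by rw [← hlf]; group
          have h5 : f⁻¹ * (l⁻¹ * (s * l * s⁻¹)) = l⁻¹ * (s * l * s⁻¹) * f⁻¹ := by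
            have h6 : s * l * s⁻¹ ∈ V := (mem_normalizer_iff.1 (h.hyp.W_norm_V hs) _).1 (h.LV hl)
            exact h.hyp.V_comm (inv_mem (h.hyp.F_le_V hf)) (mul_mem (inv_mem (h.LV hl)) h6)
          calc (s⁻¹ * z * s)⁻¹ * z = (l * f)⁻¹ * (s * (l * f) * s⁻¹) := by rw [hlf, ← h4]
            _ = f⁻¹ * l⁻¹ * (s * l) * (f * s⁻¹) := by group
            _ = f⁻¹ * l⁻¹ * (s * l) * (s⁻¹ * f) := by
              congr 1
              calc f * s⁻¹ = s⁻¹ * (s * f) * s⁻¹ := by group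
                _ = s⁻¹ * (f * s) * s⁻¹ := by rw [h3]
                _ = s⁻¹ * f := by group
            _ = f⁻¹ * (l⁻¹ * (s * l * s⁻¹)) * f := by group
            _ = l⁻¹ * (s * l * s⁻¹) := by rw [h5]; group
        rw [h1, h2]
        exact mul_mem hz (mem_sup_left (mul_mem (inv_mem hl)
          ((mem_normalizer_iff.1 (hLP (h.SP (h.WS hs))) _).1 hl)))
      · refine mem_normalizer_of_cj_le ?_
        change Subgroup.map _ _ ≤ _
        rw [hMK, Subgroup.map_sup]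
        refine sup_le_sup (cj_eq_of_mem_normalizer (hLP (o2_le P hs))).le ?_
        have h1 : s ∈ cj g (normalizer (N.R : Set G)) := cj_mono g N.S_R (hQg hs)
        rw [cj_normalizer] at h1
        exact (cj_eq_of_mem_normalizer h1).le
      · refine mem_normalizer_of_cj_le fun z hz => ?_
        rw [mem_cj] at hz
        have h1 := hcomm _ (hMKI (inv_mem hz)).1 s hs
        have e : z = s⁻¹ * z * s * c ((s⁻¹ * z * s)⁻¹) s := by rw [c]; group
        rw [e]
        exact mul_mem hz h1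
    have hKsl : Kh ≤ sl N := by
      refine sup_le (sup_le (fun s hs => mem_sl_of_act N (N.act_rt (h.WS hs) (h.WR hs))) (fun s hs => ?_))
        (fun s hs => ?_)
      · have h1 : s ∈ centralizer (zl (S : Subgroup G) P : Set G) := by
          rw [← h.o2_eq] at hs
          exact hs.2
        obtain ⟨σ, c', hc'⟩ := N.exists_act (h.QS hs)
        obtain ⟨rfl, rfl⟩ := hc'.mem_centV.1 h1
        exact mem_sl_of_act N hc'
      · rw [hB34, mem_cj] at hs
        obtain ⟨A, hA⟩ := mem_sl_of_act N (N.act_rt (hB4 hs) (rt2.cen hs))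
        obtain ⟨A', hA'⟩ := N.norm a ha _ A hA
        refine ⟨A', fun x => ?_⟩
        have h1 := hA' x
        have e : a * (a⁻¹ * s * a) * a⁻¹ = s := by group
        rwa [e] at h1
    -- a Sylow group of `Kh`
    obtain ⟨T, hTK, hT2, hWT, y, hy, hyT⟩ := exists_syl_conj (S.isPGroup'.to_le hWQ) (le_sup_left : _ ≤ Kh)
      (isPGroup_cj g (S.isPGroup'.to_le h.BS)) (le_sup_right : _ ≤ Kh)
    have hTP : T ≤ P := hTK.trans hKP
    have hLT : zl (S : Subgroup G) P ≤ T := (h.LB.trans h.BQ).trans (le_sup_right.trans hWT)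
    have hLne : ¬ zl (S : Subgroup G) P ≤ ⊥ := fun h1 => by
      obtain ⟨r, hr, hrR⟩ := N.exists_ne_R
      have h2 := mem_bot.1 (h1 hr)
      rw [h2] at hrR
      exact hrR (one_mem _)
    obtain ⟨v₀, hv₀, hv₀1, hfix⟩ := OneLine.exists_fixed hT2 hLT (hTP.trans hLP) hLne
    have hfix' : ∀ t ∈ T, t * v₀ = v₀ * t := fun t ht => by
      have h1 := mem_bot.1 (hfix t ht)
      rwa [mul_inv_eq_one, mul_inv_eq_iff_eq_mul] at h1
    have hv₀R : v₀ ∈ N.R := by
      obtain ⟨s, hs, hsL⟩ := SetLike.not_le_iff_exists.1 h.mov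
      exact N.fix (h.WS hs) (h.WR hs) hsL hv₀ (hfix' s (hWT (mem_sup_left hs)))
    have hTact : ∀ t ∈ T, ∃ a', N.Act t (RingEquiv.refl K) a' := fun t ht =>
      act_of_fix N (hKsl (hTK ht)) hv₀R (fun h1 => hv₀1 (mem_bot.2 h1)) (hfix' t ht)
    -- `α = y β y⁻¹`
    obtain ⟨β, hβ, hβL⟩ := SetLike.not_le_iff_exists.1 hne3
    have hyP : y ∈ P := hKP hy
    have hαT : y * β * y⁻¹ ∈ T := hyT (mem_cj' hβ)
    obtain ⟨a₀, ha₀⟩ := hTact _ hαT
    obtain ⟨x, hx, hxact⟩ := h.W_full hFF a₀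
    have hαL : y * β * y⁻¹ ∉ centralizer (zl (S : Subgroup G) P : Set G) := by
      intro h1
      apply hβL
      have h4 : y ∈ normalizer (centralizer (zl (S : Subgroup G) P : Set G) : Set G) :=
        NOne.Flat.normalizer_le_normalizer_centralizer _ (hLP hyP)
      exact (mem_normalizer_iff.1 h4 _).2 h1
    have hxL : x ∉ centralizer (zl (S : Subgroup G) P : Set G) := by
      intro h1
      apply hαL
      rw [ha₀.mem_centV]
      exact ⟨rfl, (hxact.mem_centV.1 h1).2⟩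
    refine h.key hg hQg rt1 hB1 hw hwE hb hbN hx hxL (α := y * β * y⁻¹) ?_ (h.PM (hTP hαT)) ?_
    · have h1 : (y * β * y⁻¹)⁻¹ * x ∈ T ⊓ centralizer (zl (S : Subgroup G) P : Set G) := by
        refine mem_inf.2 ⟨mul_mem (inv_mem hαT) (hWT (mem_sup_left hx)), ?_⟩
        rw [(ha₀.inv.mul hxact).mem_centV]
        refine ⟨by ext z; simp, ?_⟩
        simp
      exact h.le_Q (hT2.to_le inf_le_left) (inf_le_left.trans hTP) inf_le_right h1
    · intro v hv
      have hyV := h.MV (h.PM hyP)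
      have h1 : y⁻¹ * v * y ∈ V := by
        have h2 := (mem_normalizer_iff.1 (inv_mem hyV) v).1 hv
        rwa [inv_inv] at h2
      have h2 := inv_mem (hcomm _ h1 β⁻¹ (inv_mem hβ))
      have h3 : y * (c (y⁻¹ * v * y) β⁻¹)⁻¹ * y⁻¹ ∈ MK := (mem_normalizer_iff.1 (hKN hy) _).1 h2
      have e : y * (c (y⁻¹ * v * y) β⁻¹)⁻¹ * y⁻¹ = (y * β * y⁻¹)⁻¹ * v * (y * β * y⁻¹) * v⁻¹ := by
        rw [c]; group
      rw [e] at h3
      exact hMKb _ h3

end Wc

end Cfsg.Agent.Omega.NO3S.SFive.One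

end

section


/-!
# GammaFF (S5), `k = 1` natural: THEOREM WC1, the families of lines (helper75 #22081 (1), (2), helper876 #19093)

* `bl L F Δ = ⟨F, L^{xm} : m ∈ Δ, x ∈ C_G(F)⟩`; `bh_of` : `BH V F (bl L F Δ)` if the lines `L^m`, `m ∈ Δ`, lie in `E` and all
  `L^m`, `L^{xm'}` commute;
* `Wv S P V M F N` : the W-stage at one active `F`: (NOFF) for lines, the PRINCIPLE for `M`, `L^m ≤ E` if `W ≤ S^m`;
* `Wv.index` : `B = bl L F Δ` (`L ≤ B`) which centralises every line `L^g ≤ E` with `B ≤ S^g`: `V ∩ B = L F`,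
  `|V ∩ B : F| = |K| ≤ |V : E|`;
* `Wv.toWc` : `Wc` for `B_F = bl L F {m : W ≤ S^m}`.
-/

set_option autoImplicit false
set_option linter.unusedSectionVars false
set_option linter.unusedVariables false

namespace Cfsg.Agent.Omega.NO3S.SFive.One

open Subgroup Cfsg Cfsg.Agent.ZN Cfsg.Agent.ZN.ChoiceBase Cfsg.Agent.Omega.MinPar
open Cfsg.Agent.Omega.NOne.Flat (Hyp EE WW NN Cos card_mul_relIndex')
open Cfsg.Agent.Omega.NOne.NearFF (c c_def)
open Cfsg.Agent.Omega.NOThreeL.Low.Key (BH)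
open Cfsg.Agent.Omega.NO3S.Fld (Crd)
open Cfsg.Agent.Omega.NO3S.BetaFF (Act)
open Cfsg.Agent.Omega.FFThm (StmtM)
open scoped Pointwise

universe u

variable {G : Type u} [Group G] [Finite G]

/-- The generators. -/
def gens (L F : Subgroup G) (Δ : Set G) : Set (Subgroup G) :=
  {l | l = F ∨ ∃ m ∈ Δ, ∃ x ∈ centralizer (F : Set G), l = cj (x * m) L}

/-- `⟨F, L^{xm} : m ∈ Δ, x ∈ C_G(F)⟩` -/
def bl (L F : Subgroup G) (Δ : Set G) : Subgroup G := sSup (gens L F Δ)

section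

variable {V L F : Subgroup G} {Δ : Set G}

theorem F_le_bl : F ≤ bl L F Δ := le_sSup (Or.inl rfl)

theorem le_bl {m x : G} (hm : m ∈ Δ) (hx : x ∈ centralizer (F : Set G)) : cj (x * m) L ≤ bl L F Δ :=
  le_sSup (Or.inr ⟨m, hm, x, hx, rfl⟩)

theorem le_bl' {m : G} (hm : m ∈ Δ) : cj m L ≤ bl L F Δ := by
  have h1 := le_bl (L := L) (F := F) hm (one_mem (centralizer (F : Set G)))
  rwa [one_mul] at h1

theorem cj_le_X {x : G} (hx : x ∈ centralizer (F : Set G)) {A : Subgroup G} (hA : A ≤ centralizer (F : Set G)) :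
    cj x A ≤ centralizer (F : Set G) := by
  have h1 := cj_mono x hA
  rwa [cj_eq_of_mem_normalizer (le_normalizer hx)] at h1

theorem bh_of (h : Hyp V F) (hLV : ∀ v ∈ L, v ^ 2 = 1) (hE : ∀ m ∈ Δ, cj m L ≤ EE V F)
    (hc : ∀ m ∈ Δ, ∀ m' ∈ Δ, ∀ x ∈ centralizer (F : Set G), cj (x * m') L ≤ centralizer ((cj m L : Subgroup G) : Set G)) :
    BH V F (bl L F Δ) ∧ ∀ b ∈ bl L F Δ, b ^ 2 = 1 := by
  have hX : ∀ m ∈ Δ, ∀ x ∈ centralizer (F : Set G), cj (x * m) L ≤ centralizer (F : Set G) := by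
    intro m hm x hx
    rw [← cj_cj]
    exact cj_le_X hx ((hE m hm).trans Hyp.E_le_X)
  have hFF : F ≤ centralizer (F : Set G) := h.F_le_V.trans h.V_le_X
  have habel : bl L F Δ ≤ centralizer (bl L F Δ : Set G) := by
    refine sSup_le ?_
    rintro _ (rfl | ⟨m, hm, x, hx, rfl⟩)
    · rw [le_centralizer_iff]
      refine sSup_le ?_
      rintro _ (rfl | ⟨m, hm, x, hx, rfl⟩)
      · exact hFF
      · exact hX m hm x hx
    · rw [le_centralizer_iff]
      refine sSup_le ?_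
      rintro _ (rfl | ⟨m', hm', x', hx', rfl⟩)
      · rw [le_centralizer_iff]
        exact hX m hm x hx
      · have h1 := hc m hm m' hm' (x⁻¹ * x') (mul_mem (inv_mem hx) hx')
        have h2 := cj_mono x h1
        rw [cj_centralizer, cj_cj, cj_cj] at h2
        have e : x * (x⁻¹ * x' * m') = x' * m' := by group
        rwa [e] at h2
  refine ⟨{ toHyp := h, le_W := ?_, F_le := F_le_bl, abel := habel, norm := ?_ }, ?_⟩
  · refine sSup_le ?_
    rintro _ (rfl | ⟨m, hm, x, hx, rfl⟩)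
    · exact h.F_le_E.trans Hyp.E_le_W
    · rw [← cj_cj]
      exact (cj_mono x (hE m hm)).trans (Hyp.conjE_le_W hx)
  · intro y hy
    refine mem_normalizer_of_cj_le ?_
    rw [cj_le_iff]
    refine sSup_le ?_
    rintro _ (rfl | ⟨m, hm, x, hx, rfl⟩)
    · rw [← cj_le_iff, cj_eq_of_mem_normalizer (centralizer_le_normalizer _ hy)]
      exact F_le_bl
    · rw [← cj_le_iff, cj_cj, ← mul_assoc]
      exact le_bl hm (mul_mem hy hx)
  · let T : Subgroup G :=
      { carrier := {b | b ∈ bl L F Δ ∧ b ^ 2 = 1}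
        mul_mem' := by
          rintro a b ⟨ha, ha2⟩ ⟨hb, hb2⟩
          refine ⟨mul_mem ha hb, ?_⟩
          have h1 : b * a = a * b := (mem_centralizer_iff.1 (habel ha) b hb)
          rw [pow_two] at ha2 hb2 ⊢
          calc a * b * (a * b) = a * (b * a) * b := by group
            _ = a * a * (b * b) := by rw [h1]; group
            _ = 1 := by rw [ha2, hb2, one_mul]
        one_mem' := ⟨one_mem _, one_pow 2⟩
        inv_mem' := by
          rintro a ⟨ha, ha2⟩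
          exact ⟨inv_mem ha, by rw [inv_pow, ha2, inv_one]⟩ }
    have h1 : bl L F Δ ≤ T := by
      refine sSup_le fun l hl => ?_
      have hl' : l ≤ bl L F Δ := le_sSup hl
      rcases hl with rfl | ⟨m, hm, x, hx, rfl⟩
      · exact fun f hf => ⟨hl' hf, h.sq f (h.F_le_V hf)⟩
      · intro b hb
        refine ⟨hl' hb, ?_⟩
        rw [mem_cj] at hb
        have h2 := hLV _ hb
        rw [pow_two] at h2 ⊢
        have e : b * b = x * m * ((x * m)⁻¹ * b * (x * m) * ((x * m)⁻¹ * b * (x * m))) * (x * m)⁻¹ := by group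
        rw [e, h2]; group
    exact fun b hb => (h1 hb).2

end

/-- The chambers which contain `W_F`. -/
def DW (S : Sylow 2 G) (V M F : Subgroup G) : Set G := {m | m ∈ M ∧ WW V F ≤ cj m (S : Subgroup G)}

/-- **The W-stage** at one active `F`, `V_P` natural, `k = 1`. -/
structure Wv {K : Type*} [Field K] (S : Sylow 2 G) (P V M F : Subgroup G)
    (N : Crd K (S : Subgroup G) P (zl (S : Subgroup G) P)) : Prop extends Act S P V F where
  four : 4 ≤ Nat.card K
  PM : P ≤ M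
  MV : M ≤ normalizer (V : Set G)
  VS : V ≤ (S : Subgroup G)
  WM : WW V F ≤ M
  goodL : ∀ m ∈ M, WW V F ≤ cj m (S : Subgroup G) → cj m (zl (S : Subgroup G) P) ≤ EE V F
  noffL : ∀ g : G, zl (S : Subgroup G) P ≤ normalizer ((cj g (zl (S : Subgroup G) P) : Subgroup G) : Set G) →
    cj g (zl (S : Subgroup G) P) ≤ normalizer (zl (S : Subgroup G) P : Set G) →
      cj g (zl (S : Subgroup G) P) ≤ centralizer (zl (S : Subgroup G) P : Set G)
  prin : ∀ A ≤ M, IsPGroup 2 A → ¬ A ≤ centralizer (V : Set G) →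
    ∃ m ∈ M, cj m A ≤ (S : Subgroup G) ∧ ¬ cj m A ≤ centralizer (zl (S : Subgroup G) P : Set G)

namespace Wv

variable {K : Type*} [Field K] {S : Sylow 2 G} {P V M F : Subgroup G}
  {N : Crd K (S : Subgroup G) P (zl (S : Subgroup G) P)} (h : Wv S P V M F N)
include h

theorem sqL : ∀ v ∈ zl (S : Subgroup G) P, v ^ 2 = 1 := fun v hv => h.hyp.sq v (h.LV hv)

/-- NOFF for two lines. -/
theorem noff2 {g g' : G}
    (h1 : cj g (zl (S : Subgroup G) P) ≤ normalizer ((cj g' (zl (S : Subgroup G) P) : Subgroup G) : Set G))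
    (h2 : cj g' (zl (S : Subgroup G) P) ≤ normalizer ((cj g (zl (S : Subgroup G) P) : Subgroup G) : Set G)) :
    cj g' (zl (S : Subgroup G) P) ≤ centralizer ((cj g (zl (S : Subgroup G) P) : Subgroup G) : Set G) := by
  have h3 := h.noffL (g⁻¹ * g') (by
    have h4 := cj_mono g⁻¹ h1
    rwa [cj_inv_cj, cj_normalizer, cj_cj] at h4) (by
    have h4 := cj_mono g⁻¹ h2
    rwa [cj_normalizer, cj_inv_cj, cj_cj] at h4)
  have h4 := cj_mono g h3
  rwa [cj_centralizer, cj_cj, mul_inv_cancel_left] at h4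

/-- `S^m` normalises `L^m`. -/
theorem S_norm (m : G) : cj m (S : Subgroup G) ≤ normalizer ((cj m (zl (S : Subgroup G) P) : Subgroup G) : Set G) := by
  rw [← cj_normalizer]
  exact cj_mono m (h.SP.trans h.PL)

theorem cjE_le_W {x : G} (hx : x ∈ centralizer (F : Set G)) {A : Subgroup G} (hA : A ≤ EE V F) : cj x A ≤ WW V F :=
  (cj_mono x hA).trans (Hyp.conjE_le_W hx)

theorem one_mem_DW : (1 : G) ∈ DW S V M F := ⟨one_mem _, by rw [cj_one]; exact h.WS⟩

/-- lines of the chambers containing `W`: `L^m`, `L^{xm'}` commute. -/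
theorem commW {m m' x : G} (hm : m ∈ DW S V M F) (hm' : m' ∈ DW S V M F) (hx : x ∈ centralizer (F : Set G)) :
    cj (x * m') (zl (S : Subgroup G) P) ≤ centralizer ((cj m (zl (S : Subgroup G) P) : Subgroup G) : Set G) := by
  refine h.noff2 ?_ ?_
  · -- `L^m` normalises `L^{xm'}`
    have h1 : cj x⁻¹ (cj m (zl (S : Subgroup G) P)) ≤
        normalizer ((cj m' (zl (S : Subgroup G) P) : Subgroup G) : Set G) :=
      ((h.cjE_le_W (inv_mem hx) (h.goodL m hm.1 hm.2)).trans hm'.2).trans (h.S_norm m')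
    have h2 := cj_mono x h1
    rwa [cj_cj_inv, cj_normalizer, cj_cj] at h2
  · rw [← cj_cj]
    exact ((h.cjE_le_W hx (h.goodL m' hm'.1 hm'.2)).trans hm.2).trans (h.S_norm m)

theorem bhW : BH V F (bl (zl (S : Subgroup G) P) F (DW S V M F)) ∧
    ∀ b ∈ bl (zl (S : Subgroup G) P) F (DW S V M F), b ^ 2 = 1 :=
  bh_of h.hyp h.sqL (fun m hm => h.goodL m hm.1 hm.2) fun m hm m' hm' x hx => h.commW hm hm' hx

/-- `B` centralises `L^g` if `B ≤ S^g`, `L^g ≤ E`, and the lines `L^{xg}` normalise the generating lines. -/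
theorem cent_of {Δ : Set G} {g : G} (hB : bl (zl (S : Subgroup G) P) F Δ ≤ cj g (S : Subgroup G))
    (hE : cj g (zl (S : Subgroup G) P) ≤ EE V F)
    (hN : ∀ m ∈ Δ, ∀ x ∈ centralizer (F : Set G), cj (x * g) (zl (S : Subgroup G) P) ≤
      normalizer ((cj m (zl (S : Subgroup G) P) : Subgroup G) : Set G)) :
    bl (zl (S : Subgroup G) P) F Δ ≤ centralizer ((cj g (zl (S : Subgroup G) P) : Subgroup G) : Set G) := by
  refine sSup_le fun l hl => ?_
  have hlB : l ≤ bl (zl (S : Subgroup G) P) F Δ := le_sSup hl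
  rcases hl with rfl | ⟨m, hm, x, hx, rfl⟩
  · rw [le_centralizer_iff]
    exact hE.trans Hyp.E_le_X
  · refine h.noff2 ?_ ((hlB.trans hB).trans (h.S_norm g))
    have h1 := cj_mono x (hN m hm x⁻¹ (inv_mem hx))
    rw [cj_cj, cj_normalizer, cj_cj] at h1
    have e : x * (x⁻¹ * g) = g := by group
    rwa [e] at h1

/-- **The index**: `V ∩ B = L F`, `|V ∩ B : F| = |K| ≤ |V : E|`. -/
theorem index [Finite K] [CharP K 2] {B : Subgroup G} (bh : BH V F B) (hsq : ∀ b ∈ B, b ^ 2 = 1)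
    (hLB : zl (S : Subgroup G) P ≤ B)
    (hgood : ∀ g ∈ M, B ≤ cj g (S : Subgroup G) → cj g (zl (S : Subgroup G) P) ≤ EE V F →
      B ≤ centralizer ((cj g (zl (S : Subgroup G) P) : Subgroup G) : Set G)) :
    V ⊓ B ≤ zl (S : Subgroup G) P ⊔ F ∧ F.relIndex (V ⊓ B) ≤ (EE V F).relIndex V := by
  have hWR : WW V F ≤ centralizer (N.R : Set G) := N.off_le_centR h.WS h.elemM h.offM.le
  -- `L ∩ F = R`
  have hLF : zl (S : Subgroup G) P ⊓ F = N.R := by
    apply le_antisymm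
    · rintro v ⟨hv, hvF⟩
      obtain ⟨s, hs, hsL⟩ := SetLike.not_le_iff_exists.1 h.mov
      exact N.fix (h.WS hs) (hWR hs) hsL hv (Hyp.F_comm hvF (Hyp.W_le_X hs)).symm
    · refine le_inf N.R_le ?_
      rw [← h.hyp.cent_VW]
      exact le_inf (N.R_le.trans h.LV) (le_centralizer_iff.1 hWR)
  have hrF : F.relIndex (zl (S : Subgroup G) P) = Nat.card K := by
    rw [← inf_relIndex_right, inf_comm, hLF]
    have h1 := card_mul_relIndex' N.R_le
    rw [N.card_R, N.card_V] at h1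
    exact Nat.eq_of_mul_eq_mul_left Nat.card_pos h1
  have hle : Nat.card K ≤ F.relIndex (V ⊓ B) := by
    rw [← hrF]
    exact relIndex_le_of_le_right (le_inf h.LV hLB) index_ne_zero_of_finite
  -- `B` moves `V`
  have hmv : ¬ B ≤ centralizer (V : Set G) := by
    intro hc
    apply h.mov
    refine NoFF.Basic.V_le fun x hx => ?_
    have h1 : cj x⁻¹ (zl (S : Subgroup G) P) ≤ B := by
      have h2 := cj_mono x⁻¹ hLB
      rwa [cj_eq_of_mem_normalizer (bh.norm (inv_mem hx))] at h2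
    have h2 := cj_mono x (h1.trans (hc.trans (centralizer_le (inf_le_left : EE V F ≤ V))))
    rw [cj_cj_inv, cj_centralizer] at h2
    exact le_centralizer_iff.1 h2
  have hB2 : IsPGroup 2 B := by
    rintro ⟨b, hb⟩
    exact ⟨1, Subtype.ext (by simpa using hsq b hb)⟩
  obtain ⟨m, hm, hmS, hmL⟩ := h.prin B (bh.le_W.trans h.WM) hB2 hmv
  have hmV := h.MV hm
  have hEE : EE V (cj m F) = cj m (EE V F) := EE_cj hmV
  have hbad : ¬ zl (S : Subgroup G) P ≤ EE V (cj m F) := by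
    intro h1
    rw [hEE] at h1
    apply hmL
    have h2 := cj_mono m⁻¹ h1
    rw [cj_inv_cj] at h2
    have h3 := cj_mono m⁻¹ hmS
    rw [cj_inv_cj] at h3
    have h4 := cj_mono m (hgood m⁻¹ (inv_mem hm) h3 h2)
    rwa [cj_centralizer, cj_cj_inv] at h4
  have hcjI : V ⊓ cj m B = cj m (V ⊓ B) := by rw [cj_inf, cj_eq_of_mem_normalizer hmV]
  have hrel : (cj m F).relIndex (V ⊓ cj m B) = F.relIndex (V ⊓ B) := by
    rw [hcjI]
    exact relIndex_cj m F (V ⊓ B)
  have hrelE : (EE V (cj m F)).relIndex V = (EE V F).relIndex V := by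
    have h1 := relIndex_cj m (EE V F) V
    change (cj m (EE V F)).relIndex (cj m V) = _ at h1
    rwa [cj_eq_of_mem_normalizer hmV, ← hEE] at h1
  obtain ⟨h1, h2⟩ := idx_of N (BH_cj bh hmV) (fun b hb => by
    rw [mem_cj] at hb
    have h1 := hsq _ hb
    rw [pow_two] at h1 ⊢
    have e : b * b = m * (m⁻¹ * b * m * (m⁻¹ * b * m)) * m⁻¹ := by group
    rw [e, h1]; group) hmS h.LV h.four (by rw [hrel]; exact hle) hbad
  rw [hrel, hrelE] at h2
  rw [hrel] at h1
  refine ⟨?_, h2⟩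
  -- `|L F| = |V ∩ B|`
  have h3 : zl (S : Subgroup G) P ⊔ F ≤ V ⊓ B := sup_le (le_inf h.LV hLB) bh.F_le_I
  have hn : zl (S : Subgroup G) P ≤ normalizer (F : Set G) := ab_norm h.hyp.comm h.LV h.hyp.F_le_V
  have h4 := NOne.Flat.Off.card_sup_mul_inf hn
  rw [hLF, N.card_R, N.card_V] at h4
  have h5 := card_mul_relIndex' bh.F_le_I
  rw [h1] at h5
  have p2 : 0 < Nat.card K := Nat.card_pos
  have h6 : Nat.card ↥(zl (S : Subgroup G) P ⊔ F) = Nat.card ↥(V ⊓ B) := by
    rw [← h5]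
    have h7 : Nat.card K * Nat.card ↥(zl (S : Subgroup G) P ⊔ F) = Nat.card K * (Nat.card F * Nat.card K) := by
      calc _ = Nat.card ↥(zl (S : Subgroup G) P ⊔ F) * Nat.card K := mul_comm _ _
        _ = _ := by rw [h4]; ring
    exact Nat.eq_of_mul_eq_mul_left p2 h7
  exact (Subgroup.eq_of_le_of_card_ge h3 h6.ge).ge

/-- **`Wc` for `B_F`.** -/
theorem toWc [Finite K] [CharP K 2] : Wc S P V M F (bl (zl (S : Subgroup G) P) F (DW S V M F)) N := by
  obtain ⟨bh, hsq⟩ := h.bhW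
  have hLB : zl (S : Subgroup G) P ≤ bl (zl (S : Subgroup G) P) F (DW S V M F) := by
    have h1 := le_bl' (L := zl (S : Subgroup G) P) (F := F) h.one_mem_DW
    rwa [cj_one] at h1
  have hgood : ∀ g ∈ M, bl (zl (S : Subgroup G) P) F (DW S V M F) ≤ cj g (S : Subgroup G) →
      cj g (zl (S : Subgroup G) P) ≤ EE V F →
        bl (zl (S : Subgroup G) P) F (DW S V M F) ≤
          centralizer ((cj g (zl (S : Subgroup G) P) : Subgroup G) : Set G) := by
    intro g hg hB hE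
    refine h.cent_of hB hE fun m hm x hx => ?_
    rw [← cj_cj]
    exact ((h.cjE_le_W hx hE).trans hm.2).trans (h.S_norm m)
  obtain ⟨hIL, hidx⟩ := h.index bh hsq hLB hgood
  refine { toAct := h.toAct, four := h.four, PM := h.PM, MV := h.MV, VS := h.VS, bh := bh, sq := hsq, BQ := ?_,
           LB := hLB, IL := hIL, idxV := hidx, good := ?_ }
  · rw [← h.o2_eq]
    exact le_inf (bh.le_W.trans h.WS) (bh.abel.trans (centralizer_le hLB))
  · intro m hm hmS hmE
    have h2 := cj_mono m⁻¹ hmE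
    rw [cj_inv_cj] at h2
    have h3 := cj_mono m⁻¹ hmS
    rw [cj_inv_cj] at h3
    have h4 := cj_mono m (hgood m⁻¹ (inv_mem hm) h3 h2)
    rwa [cj_centralizer, cj_cj_inv] at h4

end Wv

end Cfsg.Agent.Omega.NO3S.SFive.One

end

end

-- merged: Cfsg.Agent.Mrg.Omega.NO3S.SFive.WCNorm
section

section


/-!
# `N_G(T) ≤ N_G(K)` for all `K ≤ T ≤ S`: `K` is weakly closed in `S`

The proof of `Omega/OM/Lev/Wc.lean` with small imports.
-/

set_option autoImplicit false

namespace Cfsg.Agent.Omega.NO3S.SFive.WCNorm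

open Subgroup Cfsg Cfsg.Agent.ZN.ChoiceBase

universe u

variable {G : Type u} [Group G] [Finite G]

theorem lt_inf_norm {P Q : Subgroup G} (hP : IsPGroup 2 P) (hQ : Q < P) : Q < P ⊓ normalizer (Q : Set G) := by
  have : Fact (Nat.Prime 2) := ⟨Nat.prime_two⟩
  have : Group.IsNilpotent P := hP.isNilpotent
  have hnc := Group.normalizerCondition_of_isNilpotent (G := P)
  have h1 : Q.subgroupOf P < ⊤ := by
    rw [lt_top_iff_ne_top]
    intro h
    rw [Subgroup.subgroupOf_eq_top] at h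
    exact absurd h (not_le_of_gt hQ)
  have h2 := hnc _ h1
  obtain ⟨x, hx, hx'⟩ := SetLike.exists_of_lt h2
  refine lt_of_le_of_ne (le_inf hQ.le Subgroup.le_normalizer) ?_
  intro heq
  apply hx'
  rw [Subgroup.mem_subgroupOf, heq]
  refine Subgroup.mem_inf.mpr ⟨x.2, ?_⟩
  rw [Subgroup.mem_normalizer_iff] at hx ⊢
  intro h
  constructor
  · intro hh
    have := (hx ⟨h, hQ.le hh⟩).mp (by simpa [Subgroup.mem_subgroupOf] using hh)
    simpa [Subgroup.mem_subgroupOf] using this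
  · intro hh
    have hP' : h ∈ P := by
      have h4 : (x : G) * h * (x : G)⁻¹ ∈ P := hQ.le hh
      have h5 := P.mul_mem (P.mul_mem (P.inv_mem x.2) h4) x.2
      simpa [mul_assoc] using h5
    have := (hx ⟨h, hP'⟩).mpr (by simpa [Subgroup.mem_subgroupOf] using hh)
    simpa [Subgroup.mem_subgroupOf] using this

variable {S : Sylow 2 G}

theorem mem_norm_of {K : Subgroup G} (hKS : K ≤ (S : Subgroup G))
    (hn : ∀ T : Subgroup G, K ≤ T → T ≤ (S : Subgroup G) → normalizer (T : Set G) ≤ normalizer (K : Set G)) :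
    ∀ (n : ℕ) (g : G), K ≤ cj g (S : Subgroup G) →
      Nat.card (S : Subgroup G) - Nat.card ↥((S : Subgroup G) ⊓ cj g (S : Subgroup G)) ≤ n →
        g ∈ normalizer (K : Set G) := by
  have : Fact (Nat.Prime 2) := ⟨Nat.prime_two⟩
  intro n
  induction n with
  | zero =>
    intro g _ hcard
    have h1 : (S : Subgroup G) ⊓ cj g (S : Subgroup G) = (S : Subgroup G) :=
      Subgroup.eq_of_le_of_card_ge inf_le_left (by omega)
    have h2 : (S : Subgroup G) = cj g (S : Subgroup G) :=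
      Subgroup.eq_of_le_of_card_ge (inf_eq_left.1 h1) (by rw [card_cj])
    exact hn _ hKS le_rfl (mem_normalizer_iff_cj.2 h2.symm)
  | succ n ih =>
    intro g hKg hcard
    by_cases hn' : Nat.card (S : Subgroup G) - Nat.card ↥((S : Subgroup G) ⊓ cj g (S : Subgroup G)) ≤ n
    · exact ih g hKg hn'
    set T : Subgroup G := (S : Subgroup G) ⊓ cj g (S : Subgroup G) with hT
    have hlt : Nat.card T < Nat.card (S : Subgroup G) := by omega
    have hKT : K ≤ T := le_inf hKS hKg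
    have hTS : T < (S : Subgroup G) := lt_of_le_of_ne inf_le_left fun h => by rw [h] at hlt; omega
    have hTS' : T < cj g (S : Subgroup G) :=
      lt_of_le_of_ne inf_le_right fun h => by rw [h, card_cj] at hlt; omega
    have hNK : normalizer (T : Set G) ≤ normalizer (K : Set G) := hn T hKT hTS.le
    set R1 : Subgroup G := (S : Subgroup G) ⊓ normalizer (T : Set G) with hR1
    set R2 : Subgroup G := cj g (S : Subgroup G) ⊓ normalizer (T : Set G) with hR2
    have h1 : T < R1 := lt_inf_norm S.isPGroup' hTS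
    have h2 : T < R2 := lt_inf_norm (isPGroup_cj g S.isPGroup') hTS'
    obtain ⟨U, hU, hRU⟩ := ZN.ChoiceSit.exists_syl (S.isPGroup'.to_le (inf_le_left : R1 ≤ (S : Subgroup G)))
      (inf_le_right : R1 ≤ normalizer (T : Set G))
    obtain ⟨U', hU', hRU'⟩ := ZN.ChoiceSit.exists_syl ((isPGroup_cj g S.isPGroup').to_le
      (inf_le_left : R2 ≤ cj g (S : Subgroup G))) (inf_le_right : R2 ≤ normalizer (T : Set G))
    obtain ⟨m, hm, hmU⟩ := ZN.ChoiceSit.syl_conj hU hU'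
    have hmK : m ∈ normalizer (K : Set G) := hNK hm
    obtain ⟨S', hS'⟩ := hU.2.1.exists_le_sylow
    obtain ⟨x, hx⟩ := MulAction.exists_smul_eq G S S'
    have hx2 : (S' : Subgroup G) = cj x (S : Subgroup G) := by
      rw [← hx, Sylow.coe_subgroup_smul]
      rfl
    have hUx : U ≤ cj x (S : Subgroup G) := hS'.trans hx2.le
    -- `x ∈ N(K)`
    have hxK : x ∈ normalizer (K : Set G) := by
      refine ih x ((hKT.trans h1.le).trans (hRU.trans hUx)) ?_
      have h3 : Nat.card R1 ≤ Nat.card ↥((S : Subgroup G) ⊓ cj x (S : Subgroup G)) :=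
        Subgroup.card_le_of_le (le_inf inf_le_left (hRU.trans hUx))
      have h5 : Nat.card T < Nat.card R1 := by
        rcases lt_or_eq_of_le (Subgroup.card_le_of_le h1.le) with h | h
        · exact h
        · exact absurd (Subgroup.eq_of_le_of_card_ge h1.le h.ge) h1.ne
      omega
    -- `y = (m x)⁻¹ g ∈ N(K)`
    have hmx : m * x ∈ normalizer (K : Set G) := mul_mem hmK hxK
    have hmx' := cj_eq_of_mem_normalizer (inv_mem hmx)
    have hU'x : U' ≤ cj (m * x) (S : Subgroup G) := by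
      rw [← hmU, ← cj_cj]
      exact cj_mono m hUx
    have hy : (m * x)⁻¹ * g ∈ normalizer (K : Set G) := by
      refine ih _ ?_ ?_
      · rw [← cj_cj, ← hmx']
        exact cj_mono _ hKg
      · have h3 : cj (m * x)⁻¹ R2 ≤ (S : Subgroup G) ⊓ cj ((m * x)⁻¹ * g) (S : Subgroup G) := by
          refine le_inf ?_ ?_
          · have := cj_mono (m * x)⁻¹ (hRU'.trans hU'x)
            rwa [cj_inv_cj] at this
          · rw [← cj_cj]
            exact cj_mono _ inf_le_left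
        have h4 := Subgroup.card_le_of_le h3
        rw [card_cj] at h4
        have h5 : Nat.card T < Nat.card R2 := by
          rcases lt_or_eq_of_le (Subgroup.card_le_of_le h2.le) with h | h
          · exact h
          · exact absurd (Subgroup.eq_of_le_of_card_ge h2.le h.ge) h2.ne
        omega
    have := mul_mem hmx hy
    rwa [mul_inv_cancel_left] at this

/-- `N_G(T) ≤ N_G(K)` for all `K ≤ T ≤ S`: `K` is weakly closed in `S`. -/
theorem wc_of_norm {K : Subgroup G} (hKS : K ≤ (S : Subgroup G))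
    (hn : ∀ T : Subgroup G, K ≤ T → T ≤ (S : Subgroup G) → normalizer (T : Set G) ≤ normalizer (K : Set G)) :
    NO3b.Wc.WC (S : Subgroup G) K where
  le := hKS
  eq := fun g hg => by
    have h1 : K ≤ cj g⁻¹ (S : Subgroup G) := by
      have := cj_mono g⁻¹ hg
      rwa [cj_inv_cj] at this
    have h2 := mem_norm_of hKS hn _ g⁻¹ h1 le_rfl
    have h3 := inv_mem h2
    rw [inv_inv] at h3
    exact cj_eq_of_mem_normalizer h3

end Cfsg.Agent.Omega.NO3S.SFive.WCNorm

end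

section


/-!
# GammaFF (S5), `k = 1` natural: THEOREM WC1 (helper879 #23006 (1), (2))

* `Wv.UU_le` : `Q ≤ S^n` (`n ∈ M`), `L^{pn} ≤ E` for all `p ∈ P` ⟹ `⟨L, L^{pn} : p ∈ P⟩ ≤ L F` (the family `B_F`,
  `(L^{pn})^x`);
* `Wv.eq_of_good` (LEMMA (1)) : then `L^n = L`;
* **`Wv.wc`** : `O₂(P)` is weakly closed in `S`.
-/

set_option autoImplicit false
set_option linter.unusedSectionVars false
set_option linter.unusedVariables false

namespace Cfsg.Agent.Omega.NO3S.SFive.One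

open Subgroup Cfsg Cfsg.Agent.ZN Cfsg.Agent.ZN.ChoiceBase Cfsg.Agent.Omega.MinPar
open Cfsg.Agent.Omega.NOne.Flat (Hyp EE WW NN)
open Cfsg.Agent.Omega.NOne.NearFF (c c_def)
open Cfsg.Agent.Omega.NO3S.Fld (Crd)
open Cfsg.Agent.Omega.NO3S.BetaFF (Act)
open Cfsg.Agent.Omega.NOThreeL.Low.Key (BH)
open Cfsg.Agent.Omega.FFThm (StmtM NoOverM OffM ElemM)
open Cfsg.Agent.Omega.NOThreeL.VF (fM fM_le fM_cj fM_of_le fM_le_iff exists_two fM_congr elemM_cj elemM_mono)
open scoped Pointwise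

universe u

variable {G : Type u} [Group G] [Finite G]

/-- **The lines trick.** `A` normalises subgroups `l ∈ Ls` of `U` which generate `U` modulo `C_U(A)`-generators, no
subgroup of `A` is an over-offender on some `l`: `f(A) ≤ |U|`. -/
theorem fM_le_of_lines {U A : Subgroup G} (Ls : Set (Subgroup G)) (hLU : ∀ l ∈ Ls, l ≤ U)
    (hno : ∀ l ∈ Ls, ∀ C ≤ A, Nat.card C * Nat.card ↥(l ⊓ centralizer (C : Set G)) ≤
      Nat.card l * Nat.card ↥(C ⊓ centralizer (l : Set G)))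
    (hgen : ∀ C ≤ A, (∀ l ∈ Ls, C ≤ centralizer (l : Set G)) → C ≤ centralizer (U : Set G)) :
    fM U A ≤ Nat.card U := by
  induction hn : Nat.card A using Nat.strong_induction_on generalizing A with
  | _ n ih =>
    by_cases hall : ∀ l ∈ Ls, A ≤ centralizer (l : Set G)
    · exact (fM_of_le (hgen A le_rfl hall)).le
    · push Not at hall
      obtain ⟨l, hl, hlA⟩ := hall
      have h1 := fM_le (hLU l hl) (hno l hl A le_rfl)
      refine h1.trans (ih _ ?_ (fun l' hl' C hC => hno l' hl' C (hC.trans inf_le_left))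
        (fun C hC => hgen C (hC.trans inf_le_left)) rfl)
      rw [← hn]
      refine lt_of_le_of_ne (Subgroup.card_le_of_le inf_le_left) fun h2 => hlA ?_
      exact inf_eq_left.1 (Subgroup.eq_of_le_of_card_ge inf_le_left h2.ge)

namespace Wv

variable {K : Type*} [Field K] {S : Sylow 2 G} {P V M F : Subgroup G}
  {N : Crd K (S : Subgroup G) P (zl (S : Subgroup G) P)} (h : Wv S P V M F N)
include h

/-- The lines `L^{pn}`. -/
def UU (S : Sylow 2 G) (P : Subgroup G) (n : G) : Subgroup G :=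
  zl (S : Subgroup G) P ⊔ ⨆ p : P, cj ((p : G) * n) (zl (S : Subgroup G) P)

omit h in
theorem P_norm_UU (n : G) : P ≤ normalizer (UU S P n : Set G) := by
  intro q hq
  refine mem_normalizer_of_cj_le ?_
  change Subgroup.map _ _ ≤ _
  rw [UU, Subgroup.map_sup]
  refine sup_le_sup (cj_eq_of_mem_normalizer (MinSimple.VModule.le_normalizer_zl _ _ hq)).le ?_
  rw [Subgroup.map_iSup]
  refine iSup_le fun p => ?_
  have h1 : cj q (cj ((p : G) * n) (zl (S : Subgroup G) P)) = cj ((q * p : G) * n) (zl (S : Subgroup G) P) := by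
    rw [cj_cj, mul_assoc]
  change cj q (cj ((p : G) * n) (zl (S : Subgroup G) P)) ≤ _
  rw [h1]
  exact le_iSup (fun p : P => cj ((p : G) * n) (zl (S : Subgroup G) P)) ⟨q * p, mul_mem hq p.2⟩

theorem conj_Q {p : G} (hp : p ∈ P) : cj p (o2 P) = o2 P :=
  cj_eq_of_mem_normalizer (MinSimple.VModule.le_normalizer_o2 P hp)

/-- No over-offender of `P` on `UU`. -/
theorem noOver_UU (hFF : StmtM.{u}) {n : G} (hQn : o2 P ≤ cj n (S : Subgroup G)) : NoOverM (UU S P n) P := by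
  intro A hA hE
  have hPU := P_norm_UU (S := S) (P := P) n
  have hnoL := (h.ff hFF).1
  have hLU : zl (S : Subgroup G) P ≤ UU S P n := le_sup_left
  rw [← fM_le_iff]
  -- a 2-subgroup in `S`
  obtain ⟨A₁, hA₁, hA₁2, hA₁c⟩ := exists_two (hA.trans hPU) hE
  rw [← fM_congr hA₁ hA₁c]
  obtain ⟨g, hg, hgS⟩ := NOThreeL.VF.exists_conj_le S h.SP hA₁2 (hA₁.trans hA)
  have hgS' : cj g A₁ ≤ (S : Subgroup G) := by
    intro x hx
    rw [mem_cj] at hx
    have h1 := hgS _ hx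
    have e : g * (g⁻¹ * x * g) * g⁻¹ = x := by group
    rwa [e] at h1
  rw [← (fM_cj (A := A₁) (hPU hg)).1]
  have hE₁ := elemM_cj (hPU hg) (elemM_mono hE hA₁)
  set A₂ := cj g A₁ with hA₂
  -- the first cut: `C_A(L) ≤ Q`
  have hEL : ElemM (zl (S : Subgroup G) P) A₂ :=
    ⟨fun a ha => centralizer_le hLU (hE₁.sq a ha), fun a ha b hb => centralizer_le hLU (hE₁.comm a ha b hb)⟩
  refine (fM_le hLU (hnoL A₂ (hgS'.trans h.SP) hEL)).trans ?_
  set A₃ := A₂ ⊓ centralizer (zl (S : Subgroup G) P : Set G) with hA₃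
  have hA₃Q : A₃ ≤ o2 P := by
    rw [← h.o2_eq]
    exact inf_le_inf_right _ hgS'
  have hE₃ : ElemM (UU S P n) A₃ := elemM_mono hE₁ inf_le_left
  refine fM_le_of_lines {l | ∃ p : P, l = cj ((p : G) * n) (zl (S : Subgroup G) P)} ?_ ?_ ?_
  · rintro _ ⟨p, rfl⟩
    exact (le_iSup (fun p : P => cj ((p : G) * n) (zl (S : Subgroup G) P)) p).trans le_sup_right
  · rintro _ ⟨p, rfl⟩ C hC
    have hCS : cj ((p : G) * n)⁻¹ C ≤ (S : Subgroup G) := by
      have h1 : o2 P ≤ cj ((p : G) * n) (S : Subgroup G) := by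
        have h2 := cj_mono (p : G) hQn
        rwa [h.conj_Q p.2, cj_cj] at h2
      have h2 := cj_mono ((p : G) * n)⁻¹ ((hC.trans hA₃Q).trans h1)
      rwa [cj_inv_cj] at h2
    have hlU : cj ((p : G) * n) (zl (S : Subgroup G) P) ≤ UU S P n :=
      (le_iSup (fun p : P => cj ((p : G) * n) (zl (S : Subgroup G) P)) p).trans le_sup_right
    have hEC : ElemM (cj ((p : G) * n) (zl (S : Subgroup G) P)) C :=
      ⟨fun a ha => centralizer_le hlU (hE₃.sq a (hC ha)),
        fun a ha b hb => centralizer_le hlU (hE₃.comm a (hC ha) b (hC hb))⟩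
    have hcc : ∀ x, x ∈ centralizer ((cj ((p : G) * n) (zl (S : Subgroup G) P) : Subgroup G) : Set G) →
        ((p : G) * n)⁻¹ * x * ((p : G) * n) ∈ centralizer (zl (S : Subgroup G) P : Set G) := by
      intro x hx
      rw [← cj_centralizer, mem_cj] at hx
      exact hx
    have hEC' : ElemM (zl (S : Subgroup G) P) (cj ((p : G) * n)⁻¹ C) := by
      refine ⟨fun a ha => ?_, fun a ha b hb => ?_⟩
      · rw [mem_cj, inv_inv] at ha
        have h1 := hcc _ (hEC.sq _ ha)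
        have e : ((p : G) * n)⁻¹ * ((p : G) * n * a * ((p : G) * n)⁻¹) ^ 2 * ((p : G) * n) = a ^ 2 := by
          rw [pow_two, pow_two]; group
        rwa [e] at h1
      · rw [mem_cj, inv_inv] at ha hb
        have h1 := hcc _ (hEC.comm _ ha _ hb)
        have e : ((p : G) * n)⁻¹ * (((p : G) * n * a * ((p : G) * n)⁻¹) * ((p : G) * n * b * ((p : G) * n)⁻¹) *
            ((p : G) * n * a * ((p : G) * n)⁻¹)⁻¹ * ((p : G) * n * b * ((p : G) * n)⁻¹)⁻¹) * ((p : G) * n) =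
            a * b * a⁻¹ * b⁻¹ := by group
        rwa [e] at h1
    have h1 := hnoL _ (hCS.trans h.SP) hEC'
    have e1 : Nat.card ↥(zl (S : Subgroup G) P ⊓ centralizer ((cj ((p : G) * n)⁻¹ C : Subgroup G) : Set G)) =
        Nat.card ↥(cj ((p : G) * n) (zl (S : Subgroup G) P) ⊓ centralizer (C : Set G)) := by
      rw [← card_cj ((p : G) * n), cj_inf, cj_centralizer, cj_cj_inv]
    have e2 : Nat.card ↥(cj ((p : G) * n)⁻¹ C ⊓ centralizer (zl (S : Subgroup G) P : Set G)) =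
        Nat.card ↥(C ⊓ centralizer ((cj ((p : G) * n) (zl (S : Subgroup G) P) : Subgroup G) : Set G)) := by
      rw [← card_cj ((p : G) * n), cj_inf, cj_centralizer, cj_cj_inv]
    rw [e1, e2, card_cj] at h1
    rw [card_cj]
    exact h1
  · intro C hC hCl
    rw [le_centralizer_iff]
    refine sup_le ?_ (iSup_le fun p => ?_)
    · exact le_centralizer_iff.1 (hC.trans inf_le_right)
    · exact le_centralizer_iff.1 (hCl _ ⟨p, rfl⟩)

/-- The chambers of the enlarged family. -/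
def DU (S : Sylow 2 G) (P V M F : Subgroup G) (n : G) : Set G := DW S V M F ∪ {g | ∃ p ∈ P, g = p * n}

/-- `⟨L, L^{pn} : p ∈ P⟩ ≤ L F` -/
theorem UU_le [Finite K] [CharP K 2] {n : G} (hn : n ∈ M) (hQn : o2 P ≤ cj n (S : Subgroup G))
    (hE : ∀ p ∈ P, cj (p * n) (zl (S : Subgroup G) P) ≤ EE V F) :
    UU S P n ≤ zl (S : Subgroup G) P ⊔ F := by
  have hc := h.toWc
  have hQp : ∀ p ∈ P, o2 P ≤ cj (p * n) (S : Subgroup G) := by
    intro p hp
    have h2 := cj_mono p hQn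
    rwa [h.conj_Q hp, cj_cj] at h2
  have hED : ∀ m ∈ DU S P V M F n, cj m (zl (S : Subgroup G) P) ≤ EE V F := by
    rintro m (hm | ⟨p, hp, rfl⟩)
    · exact h.goodL m hm.1 hm.2
    · exact hE p hp
  -- `L^m`, `m ∈ DW`, against `L^{xpn}`
  have k1 : ∀ m ∈ DW S V M F, ∀ p ∈ P, ∀ x ∈ centralizer (F : Set G),
      cj (x * (p * n)) (zl (S : Subgroup G) P) ≤ centralizer ((cj m (zl (S : Subgroup G) P) : Subgroup G) : Set G) := by
    intro m hm p hp x hx
    refine h.noff2 ?_ ?_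
    · have h1 : cj (x⁻¹ * m) (zl (S : Subgroup G) P) ≤
          normalizer ((cj (p * n) (zl (S : Subgroup G) P) : Subgroup G) : Set G) :=
        (((le_bl hm (inv_mem hx)).trans hc.BQ).trans (hQp p hp)).trans (h.S_norm _)
      have h2 := cj_mono x h1
      rw [cj_cj, cj_normalizer, cj_cj] at h2
      have e : x * (x⁻¹ * m) = m := by group
      rwa [e] at h2
    · rw [← cj_cj]
      exact ((h.cjE_le_W hx (hE p hp)).trans hm.2).trans (h.S_norm m)
  -- `L^{xpn} ≤ Q`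
  have k2 : ∀ p ∈ P, ∀ x ∈ centralizer (F : Set G), cj (x * (p * n)) (zl (S : Subgroup G) P) ≤ o2 P := by
    intro p hp x hx
    rw [← h.o2_eq]
    refine le_inf ?_ ?_
    · rw [← cj_cj]
      exact (h.cjE_le_W hx (hE p hp)).trans h.WS
    · have h1 := k1 1 h.one_mem_DW p hp x hx
      rwa [cj_one] at h1
  have k3 : ∀ m ∈ DU S P V M F n, ∀ m' ∈ DU S P V M F n, ∀ x ∈ centralizer (F : Set G),
      cj (x * m') (zl (S : Subgroup G) P) ≤ centralizer ((cj m (zl (S : Subgroup G) P) : Subgroup G) : Set G) := by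
    rintro m (hm | ⟨p, hp, rfl⟩) m' (hm' | ⟨p', hp', rfl⟩) x hx
    · exact h.commW hm hm' hx
    · exact k1 m hm p' hp' x hx
    · have h1 := k1 m' hm' p hp x⁻¹ (inv_mem hx)
      rw [le_centralizer_iff] at h1
      have h2 := cj_mono x h1
      rw [cj_cj, cj_centralizer, cj_cj] at h2
      have e : x * (x⁻¹ * (p * n)) = p * n := by group
      rwa [e] at h2
    · refine h.noff2 ?_ (((k2 p' hp' x hx).trans (hQp p hp)).trans (h.S_norm _))
      have h1 := cj_mono x (((k2 p hp x⁻¹ (inv_mem hx)).trans (hQp p' hp')).trans (h.S_norm _))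
      rw [cj_cj, cj_normalizer, cj_cj] at h1
      have e : x * (x⁻¹ * (p * n)) = p * n := by group
      rwa [e] at h1
  obtain ⟨bh, hsq⟩ := bh_of (Δ := DU S P V M F n) h.hyp h.sqL hED k3
  have hBB : bl (zl (S : Subgroup G) P) F (DW S V M F) ≤ bl (zl (S : Subgroup G) P) F (DU S P V M F n) := by
    refine sSup_le ?_
    rintro _ (rfl | ⟨m, hm, x, hx, rfl⟩)
    · exact F_le_bl
    · exact le_bl (Or.inl hm) hx
  have hLB := hc.LB.trans hBB
  have hgood : ∀ g ∈ M, bl (zl (S : Subgroup G) P) F (DU S P V M F n) ≤ cj g (S : Subgroup G) →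
      cj g (zl (S : Subgroup G) P) ≤ EE V F →
        bl (zl (S : Subgroup G) P) F (DU S P V M F n) ≤
          centralizer ((cj g (zl (S : Subgroup G) P) : Subgroup G) : Set G) := by
    intro g hg hB hgE
    -- first `B_F`
    have h1 : bl (zl (S : Subgroup G) P) F (DW S V M F) ≤
        centralizer ((cj g (zl (S : Subgroup G) P) : Subgroup G) : Set G) := by
      refine h.cent_of (hBB.trans hB) hgE fun m hm x hx => ?_
      rw [← cj_cj]
      exact ((h.cjE_le_W hx hgE).trans hm.2).trans (h.S_norm m)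
    refine h.cent_of hB hgE ?_
    rintro m (hm | ⟨p, hp, rfl⟩) x hx
    · rw [← cj_cj]
      exact ((h.cjE_le_W hx hgE).trans hm.2).trans (h.S_norm m)
    · refine (le_trans ?_ (hQp p hp)).trans (h.S_norm _)
      rw [← h.o2_eq]
      refine le_inf ?_ ?_
      · rw [← cj_cj]
        exact (h.cjE_le_W hx hgE).trans h.WS
      · have h2 := (le_bl (L := zl (S : Subgroup G) P) h.one_mem_DW (inv_mem hx)).trans h1
        rw [mul_one, le_centralizer_iff] at h2
        have h3 := cj_mono x h2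
        rwa [cj_cj, cj_centralizer, cj_cj_inv] at h3
  obtain ⟨hIL, -⟩ := h.index bh hsq hLB hgood
  refine le_trans (le_inf ?_ ?_) hIL
  · exact sup_le h.LV (iSup_le fun p => (hE p p.2).trans inf_le_left)
  · exact sup_le hLB (iSup_le fun p => le_bl' (Or.inr ⟨p, p.2, rfl⟩))

/-- **LEMMA (1).** -/
theorem eq_of_good [Finite K] [CharP K 2] (hFF : StmtM.{u}) {n : G} (hn : n ∈ M)
    (hQn : o2 P ≤ cj n (S : Subgroup G)) (hE : ∀ p ∈ P, cj (p * n) (zl (S : Subgroup G) P) ≤ EE V F) :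
    n ∈ normalizer (zl (S : Subgroup G) P : Set G) := by
  have hULF : UU S P n ≤ zl (S : Subgroup G) P ⊔ F := h.UU_le hn hQn hE
  have hUE : UU S P n ≤ EE V F := sup_le h.LE (iSup_le fun p => hE p p.2)
  have hUV : UU S P n ≤ V := hUE.trans inf_le_left
  have hLU : zl (S : Subgroup G) P ≤ UU S P n := le_sup_left
  have s : NOThreeL.VF.Q.Sit P (UU S P n) (zl (S : Subgroup G) P) :=
    { ab := fun x hx y hy => h.hyp.V_comm (hUV hx) (hUV hy)
      sq := fun x hx => h.hyp.sq' (hUV hx)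
      VW := hLU
      nW := P_norm_UU n }
  have off : OffM (UU S P n) (WW V F) :=
    { sq := fun a ha => centralizer_le hUV (h.hyp.elemM_W.sq a ha)
      comm := fun a ha b hb => centralizer_le hUV (h.hyp.elemM_W.comm a ha b hb)
      ne := fun h1 => h.mov (h1.trans (centralizer_le hLU))
      le := FFThm.relIndex_le_iff.2 (h.hyp.off_of_le_all hUE) }
  have hAC : WW V F ⊓ centralizer (zl (S : Subgroup G) P : Set G) ≤ centralizer (UU S P n : Set G) := by
    refine le_trans ?_ (centralizer_le hULF)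
    rintro x ⟨hx, hxL⟩
    rw [mem_centralizer_iff]
    intro z hz
    obtain ⟨l, hl, f, hf, rfl⟩ := sup_split (ab_norm h.hyp.comm h.LV h.hyp.F_le_V) hz
    have h1 : l * x = x * l := mem_centralizer_iff.1 hxL l hl
    have h2 : f * x = x * f := Hyp.F_comm hf (Hyp.W_le_X hx)
    rw [mul_assoc, h2, ← mul_assoc, h1, mul_assoc]
  have hle : UU S P n ≤ zl (S : Subgroup G) P := by
    have hcv := h.cv
    obtain ⟨hno, ⟨K, _, _, _, k, hk, ⟨M⟩⟩ | ⟨k, m, hk, hm, ⟨M⟩⟩⟩ := h.ff hFF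
    · rw [hcv] at M
      exact NOThreeL.VF.Q.nat_le M s S.isPGroup' h.SP le_rfl (hUV.trans h.VS) (h.noOver_UU hFF hQn) hno h.WS off
        h.mov hAC
    · rw [hcv] at M
      exact NOThreeL.VF.Q.S.sym_le M (by omega) s S.isPGroup' h.SP le_rfl (hUV.trans h.VS) (h.noOver_UU hFF hQn) hno
        h.WS off h.mov hAC
  have h1 : cj n (zl (S : Subgroup G) P) ≤ zl (S : Subgroup G) P := by
    have h2 : cj n (zl (S : Subgroup G) P) ≤ UU S P n := by
      have h3 : cj (((1 : P) : G) * n) (zl (S : Subgroup G) P) ≤ UU S P n :=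
        (le_iSup (fun p : P => cj ((p : G) * n) (zl (S : Subgroup G) P)) 1).trans le_sup_right
      rwa [OneMemClass.coe_one, one_mul] at h3
    exact h2.trans hle
  exact mem_normalizer_of_cj_le h1

theorem QS : o2 P ≤ (S : Subgroup G) := h.par.isLoc.o2_le S

/-- **THEOREM WC1**: all `N_G(T)`, `Q ≤ T ≤ S`, normalise `L`. -/
theorem norm_le [Finite K] [CharP K 2] (hFF : StmtM.{u})
    (hM : ∀ T : Subgroup G, o2 P ≤ T → T ≤ (S : Subgroup G) → normalizer (T : Set G) ≤ M)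
    {T : Subgroup G} (h1 : o2 P ≤ T) (h2 : T ≤ (S : Subgroup G)) :
    normalizer (T : Set G) ≤ normalizer (zl (S : Subgroup G) P : Set G) := by
  intro n hn
  have hnM := hM T h1 h2 hn
  have hnT : cj n T = T := cj_eq_of_mem_normalizer hn
  have hTn : T ≤ cj n (S : Subgroup G) := by
    have h3 := cj_mono n h2
    rwa [hnT] at h3
  refine h.eq_of_good hFF hnM (h1.trans hTn) fun p hp => ?_
  by_contra hbad
  refine h.toWc.false hFF (g := p * n) (a := p) (mul_mem (h.PM hp) hnM) hp ?_ ?_ hbad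
  · have h3 := cj_mono p (h1.trans hTn)
    rwa [h.conj_Q hp, cj_cj] at h3
  · have h3 := cj_mono n h1
    rw [hnT] at h3
    have h4 := cj_mono p (h3.trans h2)
    rwa [cj_cj] at h4

/-- `O₂(P)` is weakly closed in `S`. -/
theorem wc [Finite K] [CharP K 2] (hFF : StmtM.{u})
    (hM : ∀ T : Subgroup G, o2 P ≤ T → T ≤ (S : Subgroup G) → normalizer (T : Set G) ≤ M) :
    NO3b.Wc.WC (S : Subgroup G) (o2 P) := by
  refine WCNorm.wc_of_norm h.QS fun T h1 h2 n hn => ?_
  have h3 := h.norm_le hFF hM h1 h2 hn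
  have h4 : T ⊓ centralizer (zl (S : Subgroup G) P : Set G) = o2 P := by
    rw [← h.o2_eq]
    apply le_antisymm (inf_le_inf_right _ h2)
    refine le_inf ?_ inf_le_right
    rw [h.o2_eq]
    exact h1
  rw [mem_normalizer_iff_cj, ← h4, cj_inf, cj_centralizer, cj_eq_of_mem_normalizer hn,
    cj_eq_of_mem_normalizer h3]

end Wv

end Cfsg.Agent.Omega.NO3S.SFive.One

end

end
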