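import Cfsg.Agent.Mrg.Omega.NO3S.SFive.Lit
import Cfsg.Agent.Mrg.Omega.NO3S.BetaFF.Act
import Cfsg.Agent.Mrg.Omega.NOThreeL.NF.Final
import Cfsg.Agent.Mrg.Omega.NOne.Flat.Off
import Cfsg.Agent.Mrg.Omega.NOThreeL.NF.Nat
import Cfsg.Agent.Mrg.Omega.Half.Basic
import Cfsg.Agent.Mrg.Omega.NatPair.Quad
import Cfsg.Agent.Mrg.Omega.NO3S.SFive.PB
import Cfsg.Agent.Mrg.Omega.NOThreeL.NF.Sym
import Cfsg.Agent.Mrg.Omega.NO3S.SFive.Chamber
import Cfsg.Agent.Mrg.Omega.NO3S.Pas.Three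
import Cfsg.Agent.Mrg.Omega.NO3S.Act.Dich
import Cfsg.Agent.Mrg.Omega.NO3S.SFive.WCPlug
import Cfsg.Agent.Mrg.Omega.NO3S.ActT.TLNat
import Cfsg.Agent.Mrg.Omega.NO3S.SFive.WCAlp
import Cfsg.Agent.Mrg.Omega.NO3S.Level.Cut
import Cfsg.Agent.Mrg.Omega.NO3S.BetaFF.ActClaim
import Cfsg.Agent.Mrg.Omega.NO3S.Fld.LevEnd
import Cfsg.Agent.Mrg.Omega.NO3S.SFive.WCNorm
import Cfsg.Agent.Mrg.Omega.FrameI
import Cfsg.Agent.Mrg.Omega.NOne.LemmaT

-- merged: Cfsg.Agent.Mrg.Omega.NO3S.SFive.Out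
section

/-!
# (S5) of GammaFF (#22081, #23010): the output

`L = zl S P`, `F` active at `S` (`BetaFF.Act`), `B₀ = B_F` (`BH V F B₀`), `I = V ∩ B₀ ≥ L`, `|I : F| ≤ |V : E|`.

* `rp_of` : the interface `RP S P`; `card_eq`, `relIndex_eq` : all minimal offenders have the same order;
* `exists_min_le` : an offender contains a minimal offender;
* `min_W` : `W_F` is a minimal offender on `L`;
* `ctr_of` : `[L, W]` is the centre of `W` (`Ctr`), if `C_E(b) ≤ I` for all `b ∈ B₀ - N`;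
* `out_of` : `OutD S P V M F F' B s`.
-/

set_option autoImplicit false
set_option linter.unusedSectionVars false

namespace Cfsg.Agent.Omega.NO3S.SFive

open Subgroup Cfsg Cfsg.Agent.ZN Cfsg.Agent.ZN.ChoiceBase
open Cfsg.Agent.Omega.MinPar
open Cfsg.Agent.Omega.FFThm (ConclM NoOverM OffM ElemM relIndex_le_iff)
open Cfsg.Agent.Omega.NOne.Flat (Hyp EE NN Cos conj_eq_of_norm EE_conj WW_conj conj_centralizer)
open Cfsg.Agent.Omega.NOne.NearFF (c c_def)
open Cfsg.Agent.Omega.NOThreeL.NF (MinOffM RP natRP symRP)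
open Cfsg.Agent.Omega.NOThreeL.Low.Key (BH)
open Cfsg.Agent.Omega.NoFF.Basic (conj_conj mem_conj conj_le_iff conj_le_centralizer)
open scoped Pointwise commutatorElement

universe u

variable {G : Type u} [Group G] [Finite G]

/-- The interface `RP` from the conclusion of the FF theorem. -/
theorem rp_of {S : Sylow 2 G} {P : Subgroup G} (hc : IsCharacteristicTwoType G) (hP : IsParS (S : Subgroup G) P)
    (hcv : FrameFF.cv (S : Subgroup G) P = ⊥) (hno : NoOverM (zl (S : Subgroup G) P) P)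
    (hcc : ConclM (S : Subgroup G) P) : RP (S : Subgroup G) P := by
  rcases hcc with ⟨K, _, _, _, k, hk, ⟨M⟩⟩ | ⟨k, m, hk, hm, ⟨M⟩⟩
  · exact natRP G hc S P hP hcv hno K k hk M
  · exact symRP G hc S P hP hcv hno k m hk hm M

theorem rne (K H : Subgroup G) : K.relIndex H ≠ 0 := index_ne_zero_of_finite

section mins

variable {S P : Subgroup G}

/-- the centres of the minimal offenders have the same order -/
theorem card_eq (rp : RP S P) {A B : Subgroup G} (hA : MinOffM (zl S P) S A) (hB : MinOffM (zl S P) S B) :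
    Nat.card ↥(⁅zl S P, A⁆ : Subgroup G) = Nat.card ↥(⁅zl S P, B⁆ : Subgroup G) := by
  obtain ⟨s, -, hs⟩ := rp.conj A B hA hB
  rw [hs]
  exact (Nat.card_congr ((⁅zl S P, A⁆ : Subgroup G).equivMapOfInjective _ (MulAut.conj s).injective).toEquiv)

/-- an offender contains a minimal offender -/
theorem exists_min_le {L A : Subgroup G} (hAS : A ≤ S) (hoff : OffM L A) : ∃ B ≤ A, MinOffM L S B := by
  obtain ⟨B, ⟨hBA, hB⟩, hmin⟩ := Set.exists_min_image {B | B ≤ A ∧ OffM L B}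
    (fun B => (centralizer (L : Set G)).relIndex B) (Set.toFinite _) ⟨A, le_rfl, hoff⟩
  exact ⟨B, hBA, hBA.trans hAS, hB, fun C hC hCo => hmin C ⟨hC.trans hBA, hCo⟩⟩

end mins

section act

variable {S : Sylow 2 G} {P V F B₀ : Subgroup G}

/-- **`W_F` is a minimal offender on `L`.** -/
theorem min_W (a : BetaFF.Act S P V F) (hno : NoOverM (zl (S : Subgroup G) P) P) (rp : RP (S : Subgroup G) P)
    {I : Subgroup G} (hLI : zl (S : Subgroup G) P ≤ I) {Bm : Subgroup G}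
    (hm : MinOffM (zl (S : Subgroup G) P) (S : Subgroup G) Bm)
    (hq : F.relIndex I ≤ Nat.card ↥(⁅zl (S : Subgroup G) P, Bm⁆ : Subgroup G)) :
    MinOffM (zl (S : Subgroup G) P) (S : Subgroup G) (NOne.Flat.WW V F) ∧
      Nat.card ↥(⁅zl (S : Subgroup G) P, NOne.Flat.WW V F⁆ : Subgroup G) = F.relIndex I := by
  set L := zl (S : Subgroup G) P with hL
  have hoff := a.offM
  have hqq : ∀ B, MinOffM L (S : Subgroup G) B →
      (centralizer (L : Set G)).relIndex B = Nat.card ↥(⁅L, Bm⁆ : Subgroup G) := by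
    intro B hB
    rw [← rp.card B hB]
    exact card_eq rp hB hm
  have hlow : ∀ B ≤ NOne.Flat.WW V F, OffM L B →
      Nat.card ↥(⁅L, Bm⁆ : Subgroup G) ≤ (centralizer (L : Set G)).relIndex B := by
    intro B hB hBo
    obtain ⟨C, hCB, hC⟩ := exists_min_le (hB.trans a.WS) hBo
    rw [← hqq C hC]
    exact relIndex_le_of_le_right hCB (rne _ _)
  have h1 : (centralizer (L : Set G)).relIndex (NOne.Flat.WW V F) ≤ F.relIndex L := by
    have h2 := relIndex_le_iff.1 (hno _ a.WP a.elemM)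
    rwa [a.relIndex_F] at h2
  have h2 : F.relIndex L ≤ F.relIndex I := relIndex_le_of_le_right hLI (rne _ _)
  have h3 := hlow _ le_rfl hoff
  have hmin : MinOffM L (S : Subgroup G) (NOne.Flat.WW V F) :=
    ⟨a.WS, hoff, fun B hB hBo => by have := hlow B hB hBo; omega⟩
  refine ⟨hmin, ?_⟩
  rw [card_eq rp hmin hm]
  exact le_antisymm (h3.trans (h1.trans h2)) hq

/-- **`[L, W]` is the centre of `W`.** -/
theorem ctr_of (bh : BH V F B₀) (hkey : F.relIndex (V ⊓ B₀) ≤ (EE V F).relIndex V) {L : Subgroup G}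
    (hLI : L ≤ V ⊓ B₀) (hLF : ¬ L ≤ F)
    (four : ∀ b ∈ B₀, b ∉ NN V F → ∀ e ∈ EE V F, e * b = b * e → e ∈ B₀)
    (hcard : Nat.card ↥(⁅L, NOne.Flat.WW V F⁆ : Subgroup G) ≤ F.relIndex (V ⊓ B₀)) : Ctr V F ⁅L, NOne.Flat.WW V F⁆ := by
  have hLE : L ≤ EE V F := hLI.trans bh.I_le_E
  obtain ⟨r, hrL, hrF⟩ := SetLike.not_le_iff_exists.1 hLF
  have hI : ¬ V ⊓ B₀ ≤ F := fun h => hrF (h (hLI hrL))
  obtain ⟨b, hb, hbN⟩ := bh.exists_not_mem_NN hI
  refine ⟨?_, fun Y hYE hWY hYF => ?_⟩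
  · rw [commutator_le]
    intro l hl s hs
    exact bh.toHyp.comm_EW (hLE hl) hs
  obtain ⟨e, he, heF⟩ := SetLike.not_le_iff_exists.1 hYF
  have hcY : ∀ s ∈ NOne.Flat.WW V F, c e s ∈ Y := fun s hs =>
    NOThreeL.Low.Key.c_mem_left he (hWY hs)
  by_cases heB : e ∈ B₀
  · -- `e ∈ I - F`
    have heI : e ∈ V ⊓ B₀ := ⟨(hYE he).1, heB⟩
    rw [commutator_le]
    intro l hl s hs
    change c l s ∈ Y
    by_cases hlF : l ∈ F
    · have h1 : c l s = 1 := NOThreeL.Low.Key.c_eq_one' (Hyp.F_comm hlF (Hyp.W_le_X hs))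
      rw [h1]; exact one_mem _
    · obtain ⟨e', he', h1⟩ := (bh.root hkey (hLI hl) hlF hb hbN (c l s)).1 ⟨s, hs, rfl⟩
      obtain ⟨s', hs', h2⟩ := (bh.root hkey heI heF hb hbN (c l s)).2 ⟨e', he', h1⟩
      rw [← h2]
      exact hcY s' hs'
  · -- `e ∈ E - I`
    have hcos : Cos (fun b' => c e b') B₀ (NN V F) (⁅L, NOne.Flat.WW V F⁆ : Subgroup G) ⊥ := by
      refine ⟨fun b' hb' => ?_, fun b₁ h₁ b₂ h₂ => ?_⟩
      · by_cases hb'N : b' ∈ NN V F
        · have h1 : c e b' = 1 := NOThreeL.Low.Key.c_eq_one' (mem_centralizer_iff.1 hb'N.2 e (hYE he))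
          change c e b' ∈ _
          rw [h1]; exact one_mem _
        · obtain ⟨s, hs, h1⟩ := (bh.root hkey (hLI hrL) hrF hb' hb'N (c e b')).2 ⟨e, hYE he, rfl⟩
          rw [← h1]
          exact commutator_mem_commutator hrL hs
      · have h3 : b₁⁻¹ * b₂ ∈ B₀ := mul_mem (inv_mem h₁) h₂
        have e1 : (c e b₁)⁻¹ * c e b₂ = b₁ * (e * (b₁⁻¹ * b₂) * e⁻¹ * (b₁⁻¹ * b₂)⁻¹) * b₁⁻¹ := by
          rw [c_def, c_def]; group
        change (c e b₁)⁻¹ * c e b₂ ∈ (⊥ : Subgroup G) ↔ _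
        rw [mem_bot, e1]
        constructor
        · intro h4
          have h5 : e * (b₁⁻¹ * b₂) * e⁻¹ * (b₁⁻¹ * b₂)⁻¹ = 1 := by
            have h6 : e * (b₁⁻¹ * b₂) * e⁻¹ * (b₁⁻¹ * b₂)⁻¹ =
                b₁⁻¹ * (b₁ * (e * (b₁⁻¹ * b₂) * e⁻¹ * (b₁⁻¹ * b₂)⁻¹) * b₁⁻¹) * b₁ := by group
            rw [h6, h4]; group
          by_contra h6
          exact heB (four _ h3 h6 e (hYE he) (NOThreeL.Low.Key.comm_of_c h5))
        · intro h4
          have h5 := mem_centralizer_iff.1 h4.2 e (hYE he)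
          have h6 : e * (b₁⁻¹ * b₂) * e⁻¹ * (b₁⁻¹ * b₂)⁻¹ = 1 := NOThreeL.Low.Key.c_eq_one' h5
          rw [h6]; group
    intro y hy
    have hle : (⊥ : Subgroup G).relIndex (⁅L, NOne.Flat.WW V F⁆ : Subgroup G) ≤ (NN V F).relIndex B₀ := by
      rw [relIndex_bot_left, bh.relIndex_B]
      exact hcard
    obtain ⟨b', hb', h1⟩ := hcos.surj hle hy
    have h2 : y = c e b' := by
      rw [mem_bot] at h1
      exact (inv_mul_eq_one.1 h1).symm
    rw [h2]
    exact hcY b' (bh.le_W hb')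

/-- **The output of #22081.** -/
theorem out_of {M : Subgroup G} (hMV : M ≤ normalizer (V : Set G)) (a : BetaFF.Act S P V F)
    (hno : NoOverM (zl (S : Subgroup G) P) P) (rp : RP (S : Subgroup G) P)
    (bh : BH V F B₀) (hLB : zl (S : Subgroup G) P ≤ B₀)
    (hkey : F.relIndex (V ⊓ B₀) ≤ (EE V F).relIndex V)
    (four : ∀ b ∈ B₀, b ∉ NN V F → ∀ e ∈ EE V F, e * b = b * e → e ∈ B₀)
    {m : G} (hm : m ∈ M) (hBS : MulAut.conj m • B₀ ≤ (S : Subgroup G))
    (hmin : MinOffM (zl (S : Subgroup G) P) (S : Subgroup G) (MulAut.conj m • B₀))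
    (hBE : zl (S : Subgroup G) P ⊓ EE V (MulAut.conj m • F) ≤
      centralizer ((MulAut.conj m • B₀ : Subgroup G) : Set G))
    (hdis : ⁅zl (S : Subgroup G) P, (MulAut.conj m • B₀ : Subgroup G)⁆ ⊓ (MulAut.conj m • F) = ⊥)
    (hVL : (EE V (MulAut.conj m • F)).relIndex V ≤ (EE V (MulAut.conj m • F)).relIndex (zl (S : Subgroup G) P))
    (hq : F.relIndex (V ⊓ B₀) ≤
      Nat.card ↥(⁅zl (S : Subgroup G) P, (MulAut.conj m • B₀ : Subgroup G)⁆ : Subgroup G)) :
    OutD S P V M F (MulAut.conj m • F) (MulAut.conj m • B₀) (MulAut.conj m • ⁅zl (S : Subgroup G) P, NOne.Flat.WW V F⁆) := by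
  set L := zl (S : Subgroup G) P with hL
  have hLV : L ≤ V := a.LV
  have hLI : L ≤ V ⊓ B₀ := le_inf hLV hLB
  have hLF : ¬ L ≤ F := by
    intro h1
    apply a.mov
    exact Hyp.W_le_X.trans (centralizer_le h1)
  obtain ⟨hminW, hcardW⟩ := min_W a hno rp hLI hmin hq
  have hctr := ctr_of bh hkey hLI hLF four hcardW.le
  have hmV := hMV hm
  have hctr' := hctr.conj hmV
  have hI : ¬ V ⊓ B₀ ≤ F := fun h => hLF (hLI.trans h)
  obtain ⟨b₀, hb₀, hb₀N⟩ := bh.exists_not_mem_NN hI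
  have hB₀F : B₀ ≤ centralizer (F : Set G) := bh.le_W.trans Hyp.W_le_X
  have hsB : (MulAut.conj m • ⁅L, NOne.Flat.WW V F⁆ : Subgroup G) ≤
      centralizer ((MulAut.conj m • B₀ : Subgroup G) : Set G) := by
    refine hctr'.le.trans ?_
    rw [← conj_centralizer]
    exact conj_le_iff.2 (le_centralizer_iff.1 hB₀F)
  have hcV : MulAut.conj m • V = V := conj_eq_of_norm hmV
  -- `[E, b] ≤ [L, W]` for `b ∈ B₀`
  have hEb : ∀ e ∈ EE V F, ∀ b ∈ B₀, c e b ∈ (⁅L, NOne.Flat.WW V F⁆ : Subgroup G) := by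
    obtain ⟨r, hrL, hrF⟩ := SetLike.not_le_iff_exists.1 hLF
    intro e he b hb
    by_cases hbN : b ∈ NN V F
    · rw [NOThreeL.Low.Key.c_eq_one' (mem_centralizer_iff.1 hbN.2 e he)]
      exact one_mem _
    · obtain ⟨s, hs, h1⟩ := (bh.root hkey (hLI hrL) hrF hb hbN (c e b)).2 ⟨e, he, rfl⟩
      rw [← h1]
      exact commutator_mem_commutator hrL hs
  refine
    { hyp := a.hyp
      WS := a.WS
      min := hminW
      ctr := hctr
      conj := ⟨m, hm, rfl⟩
      BS := hBS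
      minB := hmin
      BE := hBE
      dis := hdis
      ctr' := hctr'
      sB := hsB
      comm := ?_
      idx := ?_ }
  · -- `V = L E'`
    rw [commutator_le]
    intro v hv b hb
    have hcos : Cos id L (EE V (MulAut.conj m • F)) V (EE V (MulAut.conj m • F)) :=
      ⟨fun l hl => hLV hl, fun _ _ _ _ => Iff.rfl⟩
    obtain ⟨l, hl, h1⟩ := hcos.surj hVL hv
    have h1' : l⁻¹ * v ∈ EE V (MulAut.conj m • F) := h1
    set e := l⁻¹ * v with he
    have hve : v = l * e := by rw [he]; group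
    have hbW : b ∈ NOne.Flat.WW V (MulAut.conj m • F) := by
      rw [← WW_conj hmV]
      exact conj_le_iff.2 bh.le_W hb
    have hF' := a.hyp.conj hmV
    have h2 : c (l * e) b = c l b * c e b := hF'.c_mul_left (hLV hl) h1'.1 hbW
    change c v b ∈ _
    rw [hve, h2]
    refine mul_mem ((le_sup_right : ⁅L, (MulAut.conj m • B₀ : Subgroup G)⁆ ≤ _) (commutator_mem_commutator hl hb))
      ((le_sup_left : (MulAut.conj m • ⁅L, NOne.Flat.WW V F⁆ : Subgroup G) ≤ _) ?_)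
    rw [mem_conj]
    have h3 : m⁻¹ * e * m ∈ EE V F := by
      have h4 : e ∈ MulAut.conj m • EE V F := by rw [EE_conj hmV]; exact h1'
      rwa [mem_conj] at h4
    have h4 : m⁻¹ * b * m ∈ B₀ := by rwa [mem_conj] at hb
    have h5 := hEb _ h3 _ h4
    have e1 : c (m⁻¹ * e * m) (m⁻¹ * b * m) = m⁻¹ * c e b * m := by rw [c_def, c_def]; group
    rwa [e1] at h5
  · -- `C_V(B) ≤ I'`
    have h1 : V ⊓ centralizer ((MulAut.conj m • B₀ : Subgroup G) : Set G) ≤ MulAut.conj m • (V ⊓ B₀) := by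
      rintro v ⟨hv, hvc⟩
      rw [mem_conj]
      have hvV : m⁻¹ * v * m ∈ V := by
        have h4 : v ∈ MulAut.conj m • V := by rw [hcV]; exact hv
        rwa [mem_conj] at h4
      have hcm : ∀ b ∈ B₀, m⁻¹ * v * m * b = b * (m⁻¹ * v * m) := by
        intro b hb
        have h5 : m * b * m⁻¹ ∈ (MulAut.conj m • B₀ : Subgroup G) := by
          rw [mem_conj]
          have e2 : m⁻¹ * (m * b * m⁻¹) * m = b := by group
          rwa [e2]
        have h6 := mem_centralizer_iff.1 hvc _ h5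
        calc m⁻¹ * v * m * b = m⁻¹ * (v * (m * b * m⁻¹)) * m := by group
          _ = m⁻¹ * (m * b * m⁻¹ * v) * m := by rw [← h6]
          _ = b * (m⁻¹ * v * m) := by group
      have hvE : m⁻¹ * v * m ∈ EE V F := by
        refine bh.mem_E_of_c hvV hb₀ hb₀N ?_
        rw [NOThreeL.Low.Key.c_eq_one' (hcm _ hb₀)]
        exact one_mem _
      exact ⟨hvV, four _ hb₀ hb₀N _ hvE (hcm _ hb₀)⟩
    have h2 : (MulAut.conj m • F).relIndex (V ⊓ centralizer ((MulAut.conj m • B₀ : Subgroup G) : Set G)) ≤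
        (MulAut.conj m • F).relIndex (MulAut.conj m • (V ⊓ B₀)) := relIndex_le_of_le_right h1 (rne _ _)
    refine h2.trans ?_
    rw [relIndex_pointwise_smul]
    exact hq

end act

end Cfsg.Agent.Omega.NO3S.SFive

end

-- merged: Cfsg.Agent.Mrg.Omega.NO3S.SFive.NatOne
section

/-!
# GammaFF (S5): one block of a sum of natural modules (helper304)

`W` is the sum of `k` natural `SL₂(F)`-modules, `F` of characteristic 2.

* `oneG M j` : the elements of `P` which act as an element of `SL₂(F)` on the block `j` and trivially on the others;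
* `Fl M j H` : `H ≤ oneG M j` induces `SL₂(F)` on the block `j`;
* `exists_third` : for nonzero `x`, `y` there is `z` independent of `x` and of `y`;
* `exists_comm` : independent `x`, `y` are conjugate under a commutator `[X, Y]` of `SL₂(F)`;
* `Fl.irr` : if `H` induces `SL₂(F)` on the block `j`, then `[H, H]` is irreducible (and nontrivial) on the block.
-/

set_option autoImplicit false
set_option linter.unusedSectionVars false

namespace Cfsg.Agent.Omega.NO3S.SFive.NatD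

open Subgroup Cfsg Cfsg.Agent.ZN Cfsg.Agent.ZN.ChoiceBase
open Cfsg.Agent.Omega.FFThm (NatK NatKM)
open Cfsg.Agent.Omega.Half (Amb)
open Cfsg.Agent.Omega.Half.NatA (fac mem_fac Mv)
open Cfsg.Agent.Omega.NOThreeL.NF (MinOffM)
open Cfsg.Agent.Omega.NOThreeL.NF.NatR
open Cfsg.Agent.Omega.NatPair (ap ap_mul ap_one ap_inv_ap ap_zero' ap_one' ext2 exists_ap dt)
open Cfsg.Agent.Omega.NO1.NSix (em em_mem e_em_self e_em_ne em_fac em_eq mem_of_em)
open Cfsg.Agent.Lib.SL2Mat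
open scoped commutatorElement

universe u

section field

variable {F : Type} [Field F]

/-- a third direction -/
theorem exists_third {x y : Fin 2 → F} (hx : x ≠ 0) (hy : y ≠ 0) : ∃ z : Fin 2 → F, dt x z ≠ 0 ∧ dt z y ≠ 0 := by
  by_cases h : dt x y = 0
  · unfold dt at h
    by_cases h0 : x 0 = 0
    · have h1 : x 1 ≠ 0 := fun h1 => hx (by
        funext i; fin_cases i
        · exact h0
        · exact h1)
      rw [h0, zero_mul, zero_sub, neg_eq_zero] at h
      have hy0 : y 0 = 0 := (mul_eq_zero.1 h).resolve_left h1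
      have hy1 : y 1 ≠ 0 := fun h1 => hy (by
        funext i; fin_cases i
        · exact hy0
        · exact h1)
      exact ⟨![1, 0], by simp [dt, h1], by simp [dt, hy1]⟩
    · have hy0 : y 0 ≠ 0 := by
        intro hy0
        rw [hy0, mul_zero, sub_zero] at h
        have hy1 := (mul_eq_zero.1 h).resolve_left h0
        exact hy (by
          funext i; fin_cases i
          · exact hy0
          · exact hy1)
      exact ⟨![0, 1], by simp [dt, h0], by simp [dt, hy0]⟩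
  · refine ⟨x + y, ?_, ?_⟩
    · have e : dt x (x + y) = dt x y := by simp only [dt, Pi.add_apply]; ring
      rwa [e]
    · have e : dt (x + y) y = dt x y := by simp only [dt, Pi.add_apply]; ring
      rwa [e]

/-- the transvection `z ↦ z + c ⟨a, z⟩ a` -/
def tv (a : Fin 2 → F) (c : F) : Matrix.SpecialLinearGroup (Fin 2) F :=
  mk (1 - c * a 0 * a 1) (c * a 0 * a 0) (-(c * a 1 * a 1)) (1 + c * a 0 * a 1) (by ring)

theorem ap_tv (a : Fin 2 → F) (c : F) (z : Fin 2 → F) : ap (tv a c) z = z + (c * dt a z) • a := by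
  apply ext2
  · rw [ap_zero', tv, mk_00, mk_01]
    simp only [dt, Pi.add_apply, Pi.smul_apply, smul_eq_mul]
    ring
  · rw [ap_one', tv, mk_10, mk_11]
    simp only [dt, Pi.add_apply, Pi.smul_apply, smul_eq_mul]
    ring

theorem ap_tv_tv [CharP F 2] (a : Fin 2 → F) (c : F) (z : Fin 2 → F) : ap (tv a c) (ap (tv a c) z) = z := by
  rw [ap_tv, ap_tv]
  funext i
  simp only [dt, Pi.add_apply, Pi.smul_apply, smul_eq_mul]
  have h2 : (2 : F) = 0 := CharTwo.two_eq_zero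
  linear_combination (c * (a 0 * z 1 - a 1 * z 0) * a i) * h2

theorem ap_tv_inv [CharP F 2] (a : Fin 2 → F) (c : F) (z : Fin 2 → F) : ap (tv a c)⁻¹ z = ap (tv a c) z := by
  have h := ap_inv_ap (tv a c) (ap (tv a c) z)
  rwa [ap_tv_tv] at h

/-- independent vectors are conjugate under a commutator -/
theorem exists_comm [CharP F 2] {x y : Fin 2 → F} (h : dt x y ≠ 0) :
    ∃ X Y : Matrix.SpecialLinearGroup (Fin 2) F, ap (X * Y * X⁻¹ * Y⁻¹) x = y := by
  have h2 : (2 : F) = 0 := CharTwo.two_eq_zero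
  set u : Fin 2 → F := x + y with hu
  set c : F := (dt x y)⁻¹ with hc
  have hcd : c * dt x y = 1 := inv_mul_cancel₀ h
  have hxu : dt x u = dt x y := by simp only [hu, dt, Pi.add_apply]; ring
  have hux : dt u x = dt x y := by
    simp only [hu, dt, Pi.add_apply]
    linear_combination (x 1 * y 0 - x 0 * y 1) * h2
  have hxx : dt x x = 0 := by simp only [dt]; ring
  have huu : dt u u = 0 := by simp only [dt]; ring
  have e1 : ap (tv u c) x = x + u := by rw [ap_tv, hux, hcd, one_smul]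
  have exx : x + (x + u) = u := by
    funext i
    simp only [Pi.add_apply]
    linear_combination (x i) * h2
  refine ⟨tv x c, tv u c, ?_⟩
  rw [ap_mul, ap_mul, ap_mul, ap_tv_inv, ap_tv_inv, e1]
  have e2 : ap (tv x c) (x + u) = u := by
    rw [ap_tv]
    have e : dt x (x + u) = dt x y := by
      rw [← hxu]; simp only [dt, Pi.add_apply]; ring
    rw [e, hcd, one_smul]
    funext i
    simp only [Pi.add_apply]
    linear_combination (x i) * h2
  have e3 : ap (tv u c) u = u := by rw [ap_tv, huu, mul_zero, zero_smul, add_zero]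
  have e4 : ap (tv x c) u = u + x := by rw [ap_tv, hxu, hcd, one_smul]
  rw [e2, e3, e4]
  funext i
  simp only [hu, Pi.add_apply]
  linear_combination (x i) * h2

theorem dt_eq_of_ap {X : Matrix.SpecialLinearGroup (Fin 2) F} {x : Fin 2 → F} :
    ap X⁻¹ x 1 = dt (ap X ![1, 0]) x := by
  have h := NatPair.NormLev.Co.dt_ap X ![1, 0] (ap X⁻¹ x)
  have e : ap X (ap X⁻¹ x) = x := by
    have := ap_inv_ap X⁻¹ x
    rwa [inv_inv] at this
  rw [e] at h
  rw [h]
  simp [dt]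

end field

section grp

variable {G : Type u} [Group G] {F : Type} [Field F] {S P W : Subgroup G} {k : ℕ} (M : NatKM F S P W ⊥ k)

/-- the elements of `P` which act on the block `j` only, as an element of `SL₂(F)` -/
def oneG (hPW : P ≤ normalizer (W : Set G)) (j : Fin k) : Subgroup G where
  carrier := {g | g ∈ P ∧ ∃ X, Ac M g (Pi.mulSingle j X)}
  mul_mem' := by
    rintro a b ⟨ha, X, hX⟩ ⟨hb, Y, hY⟩
    refine ⟨mul_mem ha hb, X * Y, ?_⟩
    rw [Pi.mulSingle_mul]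
    exact Ac.mul hPW hb hX hY
  one_mem' := ⟨one_mem _, 1, by rw [Pi.mulSingle_one]; exact ac_one (one_mem _)⟩
  inv_mem' := by
    rintro a ⟨ha, X, hX⟩
    refine ⟨inv_mem ha, X⁻¹, ?_⟩
    rw [Pi.mulSingle_inv]
    exact hX.inv hPW ha

variable {M} {hPW : P ≤ normalizer (W : Set G)} {j : Fin k}

theorem mem_oneG {g : G} : g ∈ oneG M hPW j ↔ g ∈ P ∧ ∃ X, Ac M g (Pi.mulSingle j X) := Iff.rfl

theorem oneG_le : oneG M hPW j ≤ P := fun _ h => h.1

theorem ac_single_conj {g h : G} {X Y : Matrix.SpecialLinearGroup (Fin 2) F}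
    (hPW : P ≤ normalizer (W : Set G)) (hg : g ∈ P) (hh : h ∈ P)
    (h1 : Ac M g (Pi.mulSingle j X)) (h2 : Ac M h (Pi.mulSingle j Y)) :
    Ac M (g * h * g⁻¹) (Pi.mulSingle j (X * Y * X⁻¹)) := by
  rw [Pi.mulSingle_mul, Pi.mulSingle_mul, Pi.mulSingle_inv]
  exact Ac.mul hPW (inv_mem hg) (Ac.mul hPW hh h1 h2) (h1.inv hPW hg)

theorem ac_self {g v : G} {X : Matrix.SpecialLinearGroup (Fin 2) F} (h : Ac M g (Pi.mulSingle j X)) (hv : v ∈ W) :
    M.e (g * v * g⁻¹) j = ap X (M.e v j) := by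
  rw [h v hv j, Pi.mulSingle_eq_same]

theorem ac_other {g v : G} {X : Matrix.SpecialLinearGroup (Fin 2) F} (h : Ac M g (Pi.mulSingle j X)) (hv : v ∈ W)
    {i : Fin k} (hi : i ≠ j) : M.e (g * v * g⁻¹) i = M.e v i := by
  rw [h v hv i, Pi.mulSingle_eq_of_ne hi, ap_one]

/-- `oneG M j` centralises the vectors with coordinate `0` at `j`. -/
theorem cent_oneG {v : G} (hv : v ∈ W) (h0 : M.e v j = 0) : v ∈ centralizer (oneG M hPW j : Set G) := by
  refine mem_centralizer_iff.2 fun g hg => ?_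
  obtain ⟨hgP, X, hX⟩ := hg
  have h1 : g * v * g⁻¹ = v := by
    refine e_inj (M := M) (cmem hPW hgP hv) hv ?_
    funext i
    by_cases hi : i = j
    · subst hi
      rw [ac_self hX hv, h0, Cfsg.Agent.Omega.Half.ap_zero]
    · exact ac_other hX hv hi
  exact mul_inv_eq_iff_eq_mul.1 h1

/-- `oneG M j` normalises the block `j`. -/
theorem oneG_norm : oneG M hPW j ≤ normalizer (fac M.toNatK {j} : Set G) := by
  have key : ∀ g ∈ oneG M hPW j, ∀ v ∈ fac M.toNatK {j}, g * v * g⁻¹ ∈ fac M.toNatK {j} := by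
    rintro g ⟨hgP, X, hX⟩ v hv
    refine ⟨cmem hPW hgP hv.1, fun i hi => ?_⟩
    rw [ac_other hX hv.1 hi]
    exact hv.2 i hi
  intro g hg
  rw [mem_normalizer_iff]
  intro v
  refine ⟨fun hv => key g hg v hv, fun hv => ?_⟩
  have h1 := key g⁻¹ (inv_mem hg) _ hv
  have e : g⁻¹ * (g * v * g⁻¹) * g⁻¹⁻¹ = v := by group
  rwa [e] at h1

/-- `H ≤ oneG M j` induces `SL₂(F)` on the block `j`. -/
structure Fl (M : NatKM F S P W ⊥ k) (hPW : P ≤ normalizer (W : Set G)) (j : Fin k) (H : Subgroup G) : Prop where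
  le : H ≤ oneG M hPW j
  ex : ∀ X, ∃ h ∈ H, Ac M h (Pi.mulSingle j X)

theorem Fl.of {H : Subgroup G} (hle : H ≤ oneG M hPW j) (hu : ∀ c, ∃ h ∈ H, Ac M h (Pi.mulSingle j (up c)))
    (hl : ∀ c, ∃ h ∈ H, Ac M h (Pi.mulSingle j (lo c))) : Fl M hPW j H := by
  refine ⟨hle, fun X => ?_⟩
  obtain ⟨a, b, c, d, rfl⟩ := exists_up_lo X
  obtain ⟨g1, h1, k1⟩ := hu a
  obtain ⟨g2, h2, k2⟩ := hl b
  obtain ⟨g3, h3, k3⟩ := hu c
  obtain ⟨g4, h4, k4⟩ := hl d
  refine ⟨g1 * g2 * g3 * g4, mul_mem (mul_mem (mul_mem h1 h2) h3) h4, ?_⟩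
  rw [Pi.mulSingle_mul, Pi.mulSingle_mul, Pi.mulSingle_mul]
  exact Ac.mul hPW (hle h4).1 (Ac.mul hPW (hle h3).1 (Ac.mul hPW (hle h2).1 k1 k2) k3) k4

/-- `[H, H]` is irreducible on the block `j`. -/
theorem Fl.irr [CharP F 2] {H : Subgroup G} (h : Fl M hPW j H) {U : Subgroup G} (hU : U ≤ fac M.toNatK {j})
    (hne : U ≠ ⊥) (hn : ⁅H, H⁆ ≤ normalizer (U : Set G)) : fac M.toNatK {j} ≤ U := by
  obtain ⟨⟨u, hu⟩, hu1'⟩ := U.ne_bot_iff_exists_ne_one.1 hne
  have hu1 : u ≠ 1 := fun h1 => hu1' (Subtype.ext h1)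
  have huW : u ∈ W := (hU hu).1
  have hx : M.e u j ≠ 0 := by
    intro h0
    apply hu1
    refine e_inj (M := M) huW (one_mem _) ?_
    rw [e_one]
    funext i
    by_cases hi : i = j
    · rw [hi, h0]; rfl
    · exact (hU hu).2 i hi
  -- one step
  have step : ∀ w ∈ U, ∀ y : Fin 2 → F, dt (M.e w j) y ≠ 0 → em M.toNatK j y ∈ U := by
    intro w hw y hy
    have hwW : w ∈ W := (hU hw).1
    obtain ⟨X, Y, hXY⟩ := exists_comm hy
    obtain ⟨g, hg, hgX⟩ := h.ex X
    obtain ⟨l, hl, hlY⟩ := h.ex Y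
    have hc : ⁅g, l⁆ ∈ ⁅H, H⁆ := commutator_mem_commutator hg hl
    have hgP := (h.le hg).1
    have hlP := (h.le hl).1
    have hac : Ac M ⁅g, l⁆ (Pi.mulSingle j (X * Y * X⁻¹ * Y⁻¹)) := by
      rw [commutatorElement_def, Pi.mulSingle_mul, Pi.mulSingle_mul, Pi.mulSingle_mul, Pi.mulSingle_inv,
        Pi.mulSingle_inv]
      exact Ac.mul hPW (inv_mem hlP) (Ac.mul hPW (inv_mem hgP) (Ac.mul hPW hlP hgX hlY) (hgX.inv hPW hgP))
        (hlY.inv hPW hlP)
    have h1 : ⁅g, l⁆ * w * ⁅g, l⁆⁻¹ ∈ U := (mem_normalizer_iff.1 (hn hc) w).1 hw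
    have h2 : em M.toNatK j y = ⁅g, l⁆ * w * ⁅g, l⁆⁻¹ := by
      refine e_inj (M := M) (em_mem _ _ _) (hU h1).1 ?_
      funext i
      by_cases hi : i = j
      · subst hi
        rw [ac_self hac hwW, hXY]
        exact e_em_self _ _ _
      · rw [ac_other hac hwW hi, (hU hw).2 i hi]
        exact e_em_ne _ hi _
    rw [h2]; exact h1
  have all : ∀ y : Fin 2 → F, y ≠ 0 → em M.toNatK j y ∈ U := by
    intro y hy
    obtain ⟨z, hz1, hz2⟩ := exists_third hx hy
    have h1 := step u hu z hz1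
    refine step _ h1 y ?_
    have e : M.e (em M.toNatK j z) j = z := e_em_self _ _ _
    rwa [e]
  intro v hv
  by_cases h0 : M.e v j = 0
  · have : v = 1 := by
      refine e_inj (M := M) hv.1 (one_mem _) ?_
      rw [e_one]
      funext i
      by_cases hi : i = j
      · rw [hi, h0]; rfl
      · exact hv.2 i hi
    rw [this]; exact one_mem _
  · have h1 := all _ h0
    have h2 := em_eq M.toNatK hv.1 (i := j) fun i hi => hv.2 i hi
    rwa [h2] at h1

theorem Fl.nt [CharP F 2] {H : Subgroup G} (h : Fl M hPW j H) :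
    ¬ ⁅H, H⁆ ≤ centralizer (fac M.toNatK {j} : Set G) := by
  intro hc
  -- the subgroup generated by one vector
  set v := em M.toNatK j ![1, 0] with hv
  set w := em M.toNatK j ![0, 1] with hw
  have hvN : v ∈ fac M.toNatK {j} := em_fac _ _ _
  have hwN : w ∈ fac M.toNatK {j} := em_fac _ _ _
  have hve : M.e v j = ![1, 0] := e_em_self _ _ _
  have hwe : M.e w j = ![0, 1] := e_em_self _ _ _
  have h1 : fac M.toNatK {j} ≤ zpowers v := by
    refine h.irr ?_ ?_ ?_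
    · rw [zpowers_le]; exact hvN
    · intro h0
      rw [zpowers_eq_bot] at h0
      have h2 := congrFun hve 0
      rw [h0, e_one] at h2
      exact zero_ne_one h2
    · refine hc.trans ?_
      refine (centralizer_le (by
        intro x hx
        exact (zpowers_le.2 hvN) hx)).trans (centralizer_le_normalizer _)
  obtain ⟨n, hn⟩ := mem_zpowers_iff.1 (h1 hwN)
  have h3 : ∀ x ∈ zpowers v, M.e x j 1 = 0 := by
    intro x hx
    have h4 : zpowers v ≤ ln M {j} := by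
      rw [zpowers_le]
      refine ⟨hvN.1, fun i => ?_, fun i hi => hvN.2 i hi⟩
      by_cases hi : i = j
      · rw [hi, hve]; rfl
      · rw [hvN.2 i hi]; rfl
    exact (h4 hx).2.1 j
  have h5 := h3 w (h1 hwN)
  rw [hwe] at h5
  exact one_ne_zero h5

end grp

end Cfsg.Agent.Omega.NO3S.SFive.NatD

end

-- merged: Cfsg.Agent.Mrg.Omega.NO3S.SFive.NatD
section

section


/-!
# GammaFF (S5): the type data for natural^k, `k ≥ 2` (helper304; #22571, #23152 (4))

`L = zl S P` is the sum of `k ≥ 2` natural `SL₂(F)`-modules, `A`, `B ≤ S` minimal offenders on `L` (full root groups of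
one factor).

* `N` = the block of `B`, one cell: `{y t : y ∈ oneG M j}`, where `A^t` is a root group of the block of `B`;
* `tyd : ∃ N K, TyD S P A B N K`.
-/

set_option autoImplicit false
set_option linter.unusedSectionVars false

namespace Cfsg.Agent.Omega.NO3S.SFive.NatD

open Subgroup Cfsg Cfsg.Agent.ZN Cfsg.Agent.ZN.ChoiceBase
open Cfsg.Agent.Omega.FFThm (NatK NatKM)
open Cfsg.Agent.Omega.Half (Amb)
open Cfsg.Agent.Omega.Half.NatA (fac mem_fac Mv Mv.conj Mv.inv Mv.unique)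
open Cfsg.Agent.Omega.NOThreeL.NF (MinOffM)
open Cfsg.Agent.Omega.NOThreeL.NF.NatR
open Cfsg.Agent.Omega.NatPair (ap ap_mul ap_one ap_inv_ap ap_zero' ap_one' ext2 exists_ap dt)
open Cfsg.Agent.Omega.NO1.NSix (em em_mem e_em_self e_em_ne em_fac em_eq mem_of_em)
open Cfsg.Agent.Lib.SL2Mat
open scoped Pointwise commutatorElement

universe u

variable {G : Type u} [Group G] {F : Type} [Field F] {S P W : Subgroup G} {k : ℕ} {M : NatKM F S P W ⊥ k}
  {hPW : P ≤ normalizer (W : Set G)} {j : Fin k}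

theorem rt_le_oneG (hSP : S ≤ P) {R : Subgroup G} (h : Rt M j R) : R ≤ oneG M hPW j := fun a ha =>
  ⟨hSP (h.le ha), (h.acts a ha).imp' up fun _ hc => hc⟩

theorem conj_le_oneG {R : Subgroup G} (h : R ≤ oneG M hPW j) {y : G} (hy : y ∈ oneG M hPW j) :
    MulAut.conj y • R ≤ oneG M hPW j := by
  rintro _ ⟨a, ha, rfl⟩
  exact mul_mem (mul_mem hy (h ha)) (inv_mem hy)

/-- different lines do not commute -/
theorem not_cent {R : Subgroup G} (hr : Rt M j R) {y y' : G} {X X' : Matrix.SpecialLinearGroup (Fin 2) F}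
    (hy : y ∈ P) (hX : Ac M y (Pi.mulSingle j X)) (hy' : y' ∈ P) (hX' : Ac M y' (Pi.mulSingle j X'))
    (hne : dt (ap X' ![1, 0]) (ap X ![1, 0]) ≠ 0) (hPW : P ≤ normalizer (W : Set G)) :
    ¬ MulAut.conj y • ln M {j} ≤ centralizer ((MulAut.conj y' • R : Subgroup G) : Set G) := by
  intro hc
  obtain ⟨l, hl, hlW, hlj⟩ : ∃ l, l ∈ ln M {j} ∧ l ∈ W ∧ M.e l j = ![1, 0] := by
    obtain ⟨l, hl, hx⟩ := exists_ln (M := M) j 1
    refine ⟨l, hl, hl.1, ?_⟩
    exact ext2 (by rw [hx]; rfl) (by rw [hl.2.1 j]; rfl)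
  have h1 : y * l * y⁻¹ ∈ centralizer ((MulAut.conj y' • R : Subgroup G) : Set G) := hc ⟨l, hl, rfl⟩
  have h2 : y'⁻¹ * (y * l * y⁻¹) * y'⁻¹⁻¹ ∈ centralizer (R : Set G) := by
    refine mem_centralizer_iff.2 fun r hr' => ?_
    have h3 := mem_centralizer_iff.1 h1 (y' * r * y'⁻¹) ⟨r, hr', rfl⟩
    have e1 : r * (y'⁻¹ * (y * l * y⁻¹) * y'⁻¹⁻¹) = y'⁻¹ * ((y' * r * y'⁻¹) * (y * l * y⁻¹)) * y' := by group
    have e2 : y'⁻¹ * (y * l * y⁻¹) * y'⁻¹⁻¹ * r = y'⁻¹ * ((y * l * y⁻¹) * (y' * r * y'⁻¹)) * y' := by group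
    rw [e1, e2, h3]
  have hvW : y * l * y⁻¹ ∈ W := cmem hPW hy hlW
  have h3 := hr.zero_of_cent (cmem hPW (inv_mem hy') hvW) h2
  have h4 : Ac M y'⁻¹ (Pi.mulSingle j X'⁻¹) := by
    rw [Pi.mulSingle_inv]; exact hX'.inv hPW hy'
  rw [ac_self h4 hvW, ac_self hX hlW, hlj, dt_eq_of_ap] at h3
  exact hne h3

theorem ap_e1_ne (X : Matrix.SpecialLinearGroup (Fin 2) F) : ap X ![1, 0] ≠ 0 := by
  intro h
  have h1 := ap_inv_ap X ![1, 0]
  rw [h, Cfsg.Agent.Omega.Half.ap_zero] at h1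
  exact zero_ne_one (congrFun h1 0)

theorem dt_symm (x y : Fin 2 → F) : dt x y = -dt y x := by
  simp only [dt]; ring

theorem card_fac (i : Fin k) : Nat.card (fac M.toNatK {i}) = Nat.card F ^ 2 := by
  have h1 : Nat.card (fac M.toNatK {i}) = Nat.card (Fin 2 → F) :=
    Nat.card_congr (Equiv.ofBijective (fun v : fac M.toNatK {i} => M.e (v : G) i)
      ⟨fun v w h => Subtype.ext (e_inj (M := M) v.2.1 w.2.1 (by
        funext l
        by_cases hl : l = i
        · rw [hl]; exact h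
        · rw [v.2.2 l hl, w.2.2 l hl])), fun x => ⟨⟨em M.toNatK i x, em_fac _ _ _⟩, e_em_self _ _ _⟩⟩)
  rw [h1, Nat.card_fun, Nat.card_fin]

/-- `P` moves the blocks. -/
theorem exists_conj_fac (hA : Amb S P W) {p : G} (hp : p ∈ P) {σ : Equiv.Perm (Fin k)} (hσ : Mv M.toNatK p σ)
    (i : Fin k) : MulAut.conj p • fac M.toNatK {i} = fac M.toNatK {σ i} := by
  apply le_antisymm
  · rintro _ ⟨v, hv, rfl⟩
    have h1 := Mv.conj M.toNatK hA hσ hp hv
    rwa [Set.image_singleton] at h1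
  · intro v hv
    have h1 := Mv.conj M.toNatK hA (Mv.inv M.toNatK hA hσ hp) (inv_mem hp) hv
    rw [Set.image_singleton, Equiv.symm_apply_apply] at h1
    refine ⟨_, h1, ?_⟩
    change p * (p⁻¹ * v * p⁻¹⁻¹) * p⁻¹ = v
    group

theorem conj_smul_eq_cj (g : G) (H : Subgroup G) : MulAut.conj g • H = cj g H := rfl

section cell

variable (M) (hPW) (j)

/-- the cell -/
def cellSet (t : G) : Set G := {a | ∃ y ∈ oneG M hPW j, a = y * t}

/-- the group generated by the cell -/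
def KK (A : Subgroup G) (t : G) : Subgroup G := ⨆ _ : Unit, ⨆ a : cellSet M hPW j t, MulAut.conj (a : G) • A

variable {M} {hPW} {j} {A : Subgroup G} {t : G}

theorem conj_cell (y : G) : MulAut.conj (y * t) • A = MulAut.conj y • cj t A := by
  rw [map_mul, mul_smul]; rfl

theorem KK_le (hSP : S ≤ P) (hr : Rt M j (cj t A)) : KK M hPW j A t ≤ oneG M hPW j := by
  refine iSup_le fun _ => iSup_le fun a => ?_
  obtain ⟨a, y, hy, rfl⟩ := a
  change MulAut.conj (y * t) • A ≤ _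
  rw [conj_cell]
  exact conj_le_oneG (rt_le_oneG hSP hr) hy

theorem conj_le_KK {y : G} (hy : y ∈ oneG M hPW j) : MulAut.conj y • cj t A ≤ KK M hPW j A t := by
  rw [← conj_cell]
  have h : y * t ∈ cellSet M hPW j t := ⟨y, hy, rfl⟩
  exact (le_iSup (fun a : cellSet M hPW j t => MulAut.conj (a : G) • A) ⟨_, h⟩).trans
    (le_iSup (fun _ : Unit => ⨆ a : cellSet M hPW j t, MulAut.conj (a : G) • A) ())

/-- A group `H ≤ oneG` which contains `R` and the conjugates of `R` under `w`, `w` acting as `wm 1`. -/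
theorem fl_of {H R : Subgroup G} (hle : H ≤ oneG M hPW j) (hr : Rt M j R) {w : G} (hw : w ∈ P)
    (hwac : Ac M w (Pi.mulSingle j (wm 1 one_ne_zero))) (hSP : S ≤ P) (h1 : R ≤ H)
    (h2 : MulAut.conj w • R ≤ H) : Fl M hPW j H := by
  refine Fl.of hle (fun c => ?_) fun c => ?_
  · obtain ⟨a, ha, hac⟩ := hr.ex c
    exact ⟨a, h1 ha, hac⟩
  · obtain ⟨a, ha, hac⟩ := hr.ex (-c)
    have hc := ac_single_conj hPW hw (hSP (hr.le ha)) hwac hac
    refine ⟨w * a * w⁻¹, h2 ⟨a, ha, rfl⟩, ?_⟩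
    have e : wm 1 one_ne_zero * up (-c) * (wm (1 : F) one_ne_zero)⁻¹ = lo c := by
      rw [wm_up, mul_inv_cancel_right]
      congr 1
      ring
    rwa [e] at hc

theorem fl_KK (hSP : S ≤ P) (hr : Rt M j (cj t A)) : Fl M hPW j (KK M hPW j A t) := by
  obtain ⟨w, hw, hwac⟩ := lift_ac (M := M) (Pi.mulSingle j (wm 1 one_ne_zero))
  refine fl_of (KK_le hSP hr) hr hw hwac hSP ?_ (conj_le_KK ⟨hw, _, hwac⟩)
  have h1 := conj_le_KK (M := M) (hPW := hPW) (j := j) (A := A) (t := t) (one_mem _)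
  rwa [map_one, one_smul] at h1

theorem fl_Lam (hSP : S ≤ P) {B K : Subgroup G} (hK : Fl M hPW j K) (hr : Rt M j B) : Fl M hPW j (Lam B K) := by
  obtain ⟨w, hwK, hwac⟩ := hK.ex (wm 1 one_ne_zero)
  refine fl_of (iSup_le fun y => conj_le_oneG (rt_le_oneG hSP hr) (hK.le y.2)) hr (hK.le hwK).1 hwac hSP ?_ ?_
  · have h1 : MulAut.conj ((1 : K) : G) • B ≤ Lam B K := le_iSup (fun y : K => MulAut.conj (y : G) • B) 1
    rwa [OneMemClass.coe_one, map_one, one_smul] at h1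
  · exact le_iSup (fun y : K => MulAut.conj (y : G) • B) ⟨w, hwK⟩

end cell

/-- **The type data** for natural^k, `k ≥ 2`. -/
theorem tyd [Finite G] [Finite F] [CharP F 2] {A B : Subgroup G} (M : NatKM F S P (zl S P) ⊥ k) (hk : 2 ≤ k)
    (hAmb : Amb S P (zl S P)) (hA : MinOffM (zl S P) S A) (hB : MinOffM (zl S P) S B) :
    ∃ N K, TyD S P A B N K := by
  have hPW := hAmb.HV
  have hSP := hAmb.TH
  obtain ⟨j, hj⟩ := Rt.of (M := M) hPW hSP hB
  obtain ⟨i, hi⟩ := Rt.of (M := M) hPW hSP hA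
  obtain ⟨t, ht, hr⟩ := exists_rt (M := M) hPW hSP hA hi j
  have hW2 : (2 : ℕ) ≤ k := hk
  have hKle := KK_le (hPW := hPW) hSP hr
  have hBle := rt_le_oneG (hPW := hPW) hSP hj
  have hFK := fl_KK (hPW := hPW) hSP hr
  have hFL := fl_Lam hSP hFK hj
  have hLle : Der B (KK M hPW j A t) ≤ oneG M hPW j := (commutator_le_self _).trans hFL.le
  -- the centre of the cell members
  have hrho : ∀ y, MulAut.conj (y * t) • ⁅zl S P, A⁆ = MulAut.conj y • ln M {j} := by
    intro y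
    rw [map_mul, mul_smul]
    have h1 : MulAut.conj t • ⁅zl S P, A⁆ = ln M {j} := by
      have h2 := hr.comm_eq hPW hSP
      rw [comm_cj t (hPW (hSP ht))] at h2
      exact h2
    rw [h1]
  have hcell : ∀ y, MulAut.conj (y * t) • A = MulAut.conj y • cj t A := fun y => conj_cell y
  refine ⟨fac M.toNatK {j}, KK M hPW j A t, ?_⟩
  refine
    { NL := fun v hv => hv.1
      BN := ?_
      KN := hKle.trans oneG_norm
      cells := ?_
      irr := ?_
      nt := ?_
      dis := ?_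
      gen := ?_ }
  · rw [hj.comm_eq hPW hSP]
    exact fun v hv => ⟨hv.1, hv.2.2⟩
  · refine ⟨Unit, fun _ => cellSet M hPW j t, ?_, rfl, ?_, ?_, ?_⟩
    · rintro _ _ ⟨y, hy, rfl⟩
      exact mul_mem (oneG_le hy) (hSP ht)
    · rintro _ _ ⟨ya, ⟨hya, Xa, hXa⟩, rfl⟩ _ ⟨yb, ⟨hyb, Xb, hXb⟩, rfl⟩
      obtain ⟨z, hz1, hz2⟩ := exists_third (ap_e1_ne Xb) (ap_e1_ne Xa)
      have hz0 : z ≠ 0 := by
        rintro rfl
        apply hz1
        simp [dt]
      have h10 : (![1, 0] : Fin 2 → F) ≠ 0 := fun h => one_ne_zero (congrFun h 0)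
      obtain ⟨Xd, hXd⟩ := exists_ap h10 hz0
      obtain ⟨yd, hyd, hXdac⟩ := lift_ac (M := M) (Pi.mulSingle j Xd)
      refine ⟨yd * t, ⟨yd, ⟨hyd, Xd, hXdac⟩, rfl⟩, ?_, ?_⟩
      · rw [hrho, hcell]
        refine not_cent hr hya hXa hyd hXdac ?_ hPW
        rw [hXd]
        exact hz2
      · rw [hrho, hcell]
        refine not_cent hr hyd hXdac hyb hXb ?_ hPW
        rw [hXd]
        exact hz1
    · intro _
      obtain ⟨w, hw, hwac⟩ := lift_ac (M := M) (Pi.mulSingle j (wm 1 one_ne_zero))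
      refine ⟨w * t, ⟨w, ⟨hw, _, hwac⟩, rfl⟩, ?_⟩
      rw [hrho]
      have h1 := not_cent hj hw hwac (one_mem _) (X' := 1)
        (by rw [Pi.mulSingle_one]; exact ac_one (one_mem _)) ?_ hPW
      · rwa [map_one, one_smul] at h1
      · rw [ap_one]
        simp only [dt, ap_zero', ap_one', wm_10, wm_11]
        simp
    · intro _
      obtain ⟨i', hi'⟩ : ∃ i' : Fin k, i' ≠ j := by
        by_contra hcon
        push Not at hcon
        have h1 : Fintype.card (Fin k) ≤ 1 := Fintype.card_le_one_iff.2 fun a b => by rw [hcon a, hcon b]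
        rw [Fintype.card_fin] at h1
        omega
      have hCc : fac M.toNatK {i'} ≤ centralizer (oneG M hPW j : Set G) := fun v hv =>
        cent_oneG hv.1 (hv.2 j fun h => hi' h.symm)
      refine ⟨fac M.toNatK {i'}, fun v hv => hv.1, hCc.trans (centralizer_le hBle), ?_, ?_⟩
      · rintro _ ⟨y, hy, rfl⟩
        rw [hcell]
        exact hCc.trans (centralizer_le (conj_le_oneG (rt_le_oneG hSP hr) hy))
      · rw [hj.comm_eq hPW hSP, card_ln, card_fac]
        have h2 : 1 < Nat.card F := Finite.one_lt_card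
        nlinarith
  · intro U hU hne hn
    exact hFL.irr hU hne hn
  · exact hFL.nt
  · intro p hp
    obtain ⟨σ, hσ⟩ := M.perm p hp
    rw [exists_conj_fac hAmb hp hσ]
    by_cases h1 : σ j = j
    · left; rw [h1]
    · right
      refine hLle.trans (le_centralizer_iff.1 fun v hv => cent_oneG hv.1 (hv.2 j fun h => h1 h.symm))
  · intro v hv
    refine mem_of_em M.toNatK hv fun i => ?_
    obtain ⟨s, hs, hsi⟩ := M.trans j i
    obtain ⟨σ, hσ⟩ := M.perm s (hSP hs)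
    have h1 : σ j = i := Mv.unique M.toNatK hAmb hσ (hSP hs) hsi
    have h2 := exists_conj_fac hAmb (hSP hs) hσ j
    rw [h1] at h2
    have h3 : em M.toNatK i (M.e v i) ∈ fac M.toNatK {i} := em_fac _ _ _
    rw [← h2] at h3
    exact (le_iSup (fun p : P => MulAut.conj (p : G) • fac M.toNatK {j}) ⟨s, hSP hs⟩) h3

end Cfsg.Agent.Omega.NO3S.SFive.NatD

end

section


/-!
# GammaFF (S5): the end (#22571 (4), (5))

`OutD.false` : `OutD` (the output of #22081), `TyD` (the type data), `Small V (Cls M F)` and the frame ⟹ `False`.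
-/

set_option autoImplicit false
set_option linter.unusedSectionVars false

namespace Cfsg.Agent.Omega.NO3S.SFive

open Subgroup Cfsg Cfsg.Agent.ZN
open Cfsg.Agent.Omega.NOne.Flat (Hyp EE WW)
open Cfsg.Agent.Omega.FFThm (OffM)
open Cfsg.Agent.Omega.NoFF.Basic (conj_conj mem_conj conj_le_iff)
open scoped Pointwise commutatorElement

universe u

variable {G : Type u} [Group G] [Finite G] {S : Sylow 2 G} {P V M F F' B s N K : Subgroup G}

/-- A nontrivial `S`-invariant subgroup of `V ≤ S` meets `Ω₁(Z(S))`. -/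
theorem exists_fix {U : Subgroup G} (hU : U ≤ (S : Subgroup G)) (hsq : ∀ v ∈ U, v ^ 2 = 1) (hne : U ≠ ⊥)
    (hn : (S : Subgroup G) ≤ normalizer (U : Set G)) : U ⊓ zc (S : Subgroup G) ≠ ⊥ := by
  obtain ⟨x, hx, hx1, hxf⟩ := NOThreeL.AdjTransv.exists_fixed (S := (S : Subgroup G)) (N := U) S.isPGroup' hne
    (fun n hn => by rw [← pow_two]; exact hsq n hn) (fun s hs n hn' => (mem_normalizer_iff.1 (hn hs) n).1 hn')
  intro h1
  have h2 : x ∈ U ⊓ zc (S : Subgroup G) :=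
    mem_inf.2 ⟨hx, ChoiceBase.mem_zc.2 ⟨hU hx, hsq x hx, fun y hy => mul_inv_eq_iff_eq_mul.1 (hxf y hy)⟩⟩
  rw [h1, mem_bot] at h2
  exact hx1 h2

/-- **(S5) is impossible**, over the type data. -/
theorem OutD.false (o : OutD S P V M F F' B s) (t : TyD (S : Subgroup G) P (WW V F) B N K)
    (hs : Small V (Cls M F)) (hVS : V ≤ (S : Subgroup G)) (hSP : (S : Subgroup G) ≤ P) (hPM : P ≤ M)
    (hMV : M ≤ normalizer (V : Set G)) (hLV : zl (S : Subgroup G) P ≤ V) (hne : ¬ V ≤ zl (S : Subgroup G) P)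
    (hQL : o2 P ≤ centralizer (zl (S : Subgroup G) P : Set G))
    (t6 : V ⊓ centralizer (o2 P : Set G) ≤ zl (S : Subgroup G) P)
    (noOff : ∀ A : Subgroup G, A ≤ normalizer (V : Set G) → ¬ OffM V A) : False := by
  have hPV := hPM.trans hMV
  have hPL : P ≤ normalizer (zl (S : Subgroup G) P : Set G) := Cfsg.Agent.MinSimple.VModule.le_normalizer_zl _ _
  have hKP : K ≤ P := by
    obtain ⟨γ, c, hcP, rfl, -⟩ := t.cells
    refine iSup_le fun i => iSup_le fun a => ?_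
    rintro x hx
    rw [mem_conj] at hx
    have haP := hcP i a a.2
    have h1 := mul_mem (mul_mem haP (hSP (o.WS hx))) (inv_mem haP)
    have e : (a : G) * ((a : G)⁻¹ * x * a) * (a : G)⁻¹ = x := by group
    rwa [e] at h1
  have hBP : B ≤ P := o.BS.trans hSP
  have hBN : B ≤ normalizer (N : Set G) := by
    refine le_normalizer_of' fun b hb n hn => ?_
    have h1 : ⁅n, b⁆ ∈ N := t.BN (commutator_mem_commutator (t.NL hn) hb)
    have e : b * n * b⁻¹ = ⁅n, b⁆⁻¹ * n := by rw [commutatorElement_def]; group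
    rw [e]
    exact mul_mem (inv_mem h1) hn
  have hF'V := o.F'_le_V hMV
  have ld : Ld V N s B K :=
    { Vc := fun x hx y hy => (mem_centralizer_iff.1 (o.hyp.comm hx) y hy).symm
      NV := t.NL.trans hLV
      sV := o.ctr'.le.trans hF'V
      BV := hBP.trans hPV
      BN := hBN
      KV := hKP.trans hPV
      KN := t.KN
      Bs := le_centralizer_iff.1 o.sB
      Ks := o.cent_s hMV hPM hSP hLV hs t
      comm := o.comm.trans (sup_le_sup_left t.BN s) }
  have hDP : Der B K ≤ P := by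
    rw [Der, commutator_le]
    intro a ha b hb
    have h1 := ld.Lam_le hBP hKP ha
    have h2 := ld.Lam_le hBP hKP hb
    rw [commutatorElement_def]
    exact mul_mem (mul_mem (mul_mem h1 h2) (inv_mem h1)) (inv_mem h2)
  have hDN : Der B K ≤ normalizer (N : Set G) := by
    rw [Der, commutator_le]
    intro a ha b hb
    have h1 := ld.N_le ha
    have h2 := ld.N_le hb
    rw [commutatorElement_def]
    exact mul_mem (mul_mem (mul_mem h1 h2) (inv_mem h1)) (inv_mem h2)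
  have hVD : ⁅V, Der B K⁆ ≤ zl (S : Subgroup G) P := by
    rw [commutator_le]
    intro v hv d hd
    have h1 := t.NL (ld.der hd hv)
    have e : ⁅v, d⁆ = (d * v * d⁻¹ * v⁻¹)⁻¹ := by rw [commutatorElement_def]; group
    rw [e]
    exact inv_mem h1
  refine hne (pbN o.hyp.comm o.hyp.sq hPV hPL hLV (ZN.o2_le P) hQL t6 hDP t.NL t.gen t.irr hDN t.nt t.dis hVD ?_
    fun A hA => noOff A (hA.trans hPV))
  intro U hU hU1 hPU
  have h1 := exists_fix (hU.trans hVS) (fun v hv => o.hyp.sq v (hU hv)) hU1 (hSP.trans hPU)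
  intro h2
  apply h1
  rw [eq_bot_iff, ← h2]
  exact inf_le_inf le_rfl (Cfsg.Agent.MinSimple.VModule.zc_le_zl _ _)

end Cfsg.Agent.Omega.NO3S.SFive

end

end

-- merged: Cfsg.Agent.Mrg.Omega.NO3S.SFive.TyS
section

section


/-!
# Even-subset blocks: the type data for THEOREM (S5) (helper422, #22571 (1)-(4))

`M : SymK S P V ⊥ k m`, notation of `Half/SymPts.lean`, `NF/SymBase.lean`.

* `Tr M X p q` : `X ≤ P` acts as the transposition `(p q)`; `Tr.cent`, `Tr.comm_eq`, `Tr.conj`;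
* `exists_map` : `P` is transitive on the ordered pairs of points of one block;
* `Cell M p q p' q' x` : the elements `y ∈ P` with `{p, q}^y` in `{p', q', x}`; `cell_two`, `cell_out`, `cell_fix`;
* `blk M j` : the `j`-th block, `Ab M j` : the elements acting only on it;
* `irr` : `⁅Λ, Λ⁆` is irreducible on the block if `Λ` induces all its transpositions.
-/

set_option autoImplicit false

namespace Cfsg.Agent.Omega.NO3S.SFive.TyS

open Subgroup Cfsg Cfsg.Agent.ZN Cfsg.Agent.ZN.ChoiceBase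
open Cfsg.Agent.Omega.FFThm (ElemM OffM NoOverM ConclM SymK SymKM ActsSym)
open Cfsg.Agent.Omega.Half (Amb)
open Cfsg.Agent.Omega.Half.SymA
open Cfsg.Agent.Omega.NOThreeL.NF (MinOffM)
open Cfsg.Agent.Omega.NOThreeL.NF.SymRP
open Cfsg.Agent.Omega.NOThreeL.FourLine (mem_zpowers_iff)
open scoped Classical commutatorElement Pointwise

universe u

variable {G : Type u} [Group G]

section tr

variable {T H V : Subgroup G} {k m : ℕ}

/-- `X ≤ H` acts as the transposition `(p q)` -/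
structure Tr (M : SymK T H V ⊥ k m) (X : Subgroup G) (p q : Pt k m) : Prop where
  le : X ≤ H
  ne : p ≠ q
  blk : p.1 = q.1
  ex : ∃ b ∈ X, Mv M b (Equiv.swap p q)
  all : ∀ a ∈ X, a ∈ centralizer (V : Set G) ∨ Mv M a (Equiv.swap p q)

variable {M : SymK T H V ⊥ k m} (hA : Amb T H V) {X : Subgroup G} {p q : Pt k m}

include hA

/-- conjugates -/
theorem Tr.conj (h : Tr M X p q) {y : G} (hy : y ∈ H) {π : Equiv.Perm (Pt k m)} (hm : 1 ≤ m) (hπ : Mv M y π) :
    Tr M (MulAut.conj y • X) (π p) (π q) where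
  le := by
    rintro _ ⟨x, hx, rfl⟩
    exact mul_mem (mul_mem hy (h.le hx)) (inv_mem hy)
  ne := fun h1 => h.ne (π.injective h1)
  blk := hπ.fst hA hm hy h.blk
  ex := by
    obtain ⟨b, hb, h1⟩ := h.ex
    refine ⟨y * b * y⁻¹, ⟨b, hb, rfl⟩, ?_⟩
    have h2 := hπ.conj hA hy h1 (h.le hb)
    rwa [← Equiv.swap_apply_apply] at h2
  all := by
    rintro _ ⟨a, ha, rfl⟩
    rcases h.all a ha with h1 | h1
    · left
      rw [mem_centralizer_iff]
      intro v hv
      have h2 : y⁻¹ * v * y ∈ V := by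
        have := hA.conj_mem (inv_mem hy) hv
        rwa [inv_inv] at this
      have h3 := mem_centralizer_iff.1 h1 _ h2
      change v * (y * a * y⁻¹) = y * a * y⁻¹ * v
      calc v * (y * a * y⁻¹) = y * (y⁻¹ * v * y * a) * y⁻¹ := by group
        _ = y * (a * (y⁻¹ * v * y)) * y⁻¹ := by rw [h3]
        _ = y * a * y⁻¹ * v := by group
    · right
      have h2 := hπ.conj hA hy h1 (h.le ha)
      rw [← Equiv.swap_apply_apply] at h2
      exact h2

/-- the fixed vectors -/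
theorem Tr.cent (h : Tr M X p q) {v : G} (hv : v ∈ V) : v ∈ centralizer (X : Set G) ↔ E M v p = E M v q := by
  constructor
  · intro h1
    obtain ⟨b, hb, h2⟩ := h.ex
    refine eq_of_comm h2 hv ?_
    rw [mem_centralizer_iff.1 h1 b hb, mul_inv_cancel_right]
  · intro h1
    rw [mem_centralizer_iff]
    intro b hb
    rcases h.all b hb with h2 | h2
    · exact (mem_centralizer_iff.1 h2 v hv).symm
    · have h3 := comm_of_eq hA (h.le hb) h2 hv h1
      rwa [mul_inv_eq_iff_eq_mul] at h3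

/-- `[V, X] = {p, q}` -/
theorem Tr.comm_eq (hm : 1 ≤ m) (h : Tr M X p q) {c : G} (hc : IsC M c p q) : ⁅V, X⁆ = zpowers c := by
  apply le_antisymm
  · rw [commutator_le]
    intro w hw a ha
    rcases h.all a ha with h1 | h1
    · have h2 : ⁅w, a⁆ = 1 := by
        rw [commutatorElement_eq_one_iff_mul_comm]
        exact mem_centralizer_iff.1 h1 w hw
      rw [h2]
      exact one_mem _
    · rcases commutator_eq hA h.ne (h.le ha) h1 hw hc with h2 | h2
      · rw [h2]; exact one_mem _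
      · rw [h2]; exact mem_zpowers c
  · rw [zpowers_le]
    obtain ⟨b, hb, hπ⟩ := h.ex
    obtain ⟨w, hw, h1, h2⟩ := sep M hm h.ne
    have h3 : ⁅w, b⁆ = c := by
      rcases commutator_eq hA h.ne (h.le hb) hπ hw hc with h3 | h3
      · exfalso
        rw [commutatorElement_eq_one_iff_mul_comm] at h3
        have h4 : E M w p = E M w q := eq_of_comm hπ hw (by rw [← h3, mul_inv_cancel_right])
        rw [h1, h2] at h4
        exact one_ne_zero h4
      · exact h3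
    rw [← h3]
    exact commutator_mem_commutator hw hb

/-- the centre of `X` and another transposition -/
theorem Tr.le_cent_iff (hm : 1 ≤ m) (h : Tr M X p q) {Y : Subgroup G} {r s : Pt k m} (hY : Tr M Y r s) {c : G}
    (hc : IsC M c p q) : ⁅V, X⁆ ≤ centralizer (Y : Set G) ↔ E M c r = E M c s := by
  rw [h.comm_eq hA hm hc, zpowers_le, hY.cent hA hc.1]

omit hA in
theorem smul_comm_eq (hA : Amb T H V) {y : G} (hy : y ∈ H) :
    MulAut.conj y • ⁅V, X⁆ = ⁅V, MulAut.conj y • X⁆ := by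
  have h1 : MulAut.conj y • V = V := by
    apply le_antisymm
    · rintro _ ⟨x, hx, rfl⟩
      exact hA.conj_mem hy hx
    · intro x hx
      refine ⟨y⁻¹ * x * y, ?_, ?_⟩
      · have := hA.conj_mem (inv_mem hy) hx
        rwa [inv_inv] at this
      · change y * (y⁻¹ * x * y) * y⁻¹ = x
        group
  have h2 : MulAut.conj y • ⁅V, X⁆ = ⁅MulAut.conj y • V, MulAut.conj y • X⁆ := Subgroup.map_commutator V X _
  rw [h2, h1]

omit hA in
/-- `P` is transitive on the ordered pairs of points of a block -/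
theorem exists_map (hA : Amb T H V) {p q r s : Pt k m} (hm : 1 ≤ m) (hpq : p ≠ q) (hpq1 : p.1 = q.1) (hrs : r ≠ s)
    (hrs1 : r.1 = s.1) : ∃ g ∈ H, ∃ π, Mv M g π ∧ π p = r ∧ π q = s := by
  obtain ⟨t, ht, π, hπ, h1⟩ := trans_sum (M := M) p.1 r.1
  have htH := hA.TH ht
  obtain ⟨g, hg, hg1⟩ := exists_swap (M := M) (p := π p) (q := r) (h1 p rfl)
  obtain ⟨ρ, hρ⟩ : ∃ ρ, ρ = Equiv.swap (π p) r * π := ⟨_, rfl⟩
  have hb : Mv M (g * t) ρ := by rw [hρ]; exact hg1.mul hA hπ htH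
  have h2 : ρ p = r := by rw [hρ, Equiv.Perm.mul_apply, Equiv.swap_apply_left]
  have h3 : (ρ q).1 = s.1 := by
    rw [← hb.fst hA hm (mul_mem hg htH) hpq1, h2, hrs1]
  obtain ⟨g', hg', hg1'⟩ := exists_swap (M := M) (p := ρ q) (q := s) h3
  refine ⟨g' * (g * t), mul_mem hg' (mul_mem hg htH), _, hg1'.mul hA hb (mul_mem hg htH), ?_, ?_⟩
  · rw [Equiv.Perm.mul_apply, h2]
    refine Equiv.swap_apply_of_ne_of_ne ?_ hrs
    intro h4
    rw [← h2] at h4
    exact hpq (ρ.injective h4)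
  · rw [Equiv.Perm.mul_apply, Equiv.swap_apply_left]

/-! ### The cells -/

/-- three points of one block -/
structure Tri (p' q' x : Pt k m) : Prop where
  ne : p' ≠ q'
  xp : x ≠ p'
  xq : x ≠ q'
  blk : p'.1 = q'.1
  xb : x.1 = p'.1

/-- `r` is one of the three points -/
def In3 (p' q' x r : Pt k m) : Prop := r = p' ∨ r = q' ∨ r = x

omit hA in
/-- the missing point -/
theorem Tri.exists_miss {p' q' x : Pt k m} (t : Tri p' q' x) {a b : Pt k m} (hab : a ≠ b) (ha : In3 p' q' x a)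
    (hb : In3 p' q' x b) : ∃ z, In3 p' q' x z ∧ z ≠ a ∧ z ≠ b ∧ ∀ r, In3 p' q' x r → r = a ∨ r = b ∨ r = z := by
  have e1 := t.ne
  have e2 := t.xp
  have e3 := t.xq
  rcases ha with rfl | rfl | rfl <;> rcases hb with rfl | rfl | rfl
  · exact absurd rfl hab
  · exact ⟨x, Or.inr (Or.inr rfl), e2, e3, fun r hr => hr⟩
  · exact ⟨q', Or.inr (Or.inl rfl), e1.symm, e3.symm, fun r hr => by
      rcases hr with h | h | h
      · exact Or.inl h
      · exact Or.inr (Or.inr h)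
      · exact Or.inr (Or.inl h)⟩
  · exact ⟨x, Or.inr (Or.inr rfl), e3, e2, fun r hr => by
      rcases hr with h | h | h
      · exact Or.inr (Or.inl h)
      · exact Or.inl h
      · exact Or.inr (Or.inr h)⟩
  · exact absurd rfl hab
  · exact ⟨p', Or.inl rfl, e1, e2.symm, fun r hr => by
      rcases hr with h | h | h
      · exact Or.inr (Or.inr h)
      · exact Or.inl h
      · exact Or.inr (Or.inl h)⟩
  · exact ⟨q', Or.inr (Or.inl rfl), e3.symm, e1.symm, fun r hr => by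
      rcases hr with h | h | h
      · exact Or.inr (Or.inl h)
      · exact Or.inr (Or.inr h)
      · exact Or.inl h⟩
  · exact ⟨p', Or.inl rfl, e2.symm, e1, fun r hr => by
      rcases hr with h | h | h
      · exact Or.inr (Or.inr h)
      · exact Or.inr (Or.inl h)
      · exact Or.inl h⟩
  · exact absurd rfl hab

omit hA in
/-- the pair of the three points which misses `z` -/
theorem Tri.exists_pair {p' q' x : Pt k m} (t : Tri p' q' x) {z : Pt k m} (hz : In3 p' q' x z) :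
    ∃ a b, a ≠ b ∧ In3 p' q' x a ∧ In3 p' q' x b ∧ z ≠ a ∧ z ≠ b ∧ ∀ r, In3 p' q' x r → r = a ∨ r = b ∨ r = z := by
  have e1 := t.ne
  have e2 := t.xp
  have e3 := t.xq
  rcases hz with rfl | rfl | rfl
  · exact ⟨q', x, e3.symm, Or.inr (Or.inl rfl), Or.inr (Or.inr rfl), e1, e2.symm, fun r hr => by
      rcases hr with h | h | h
      · exact Or.inr (Or.inr h)
      · exact Or.inl h
      · exact Or.inr (Or.inl h)⟩
  · exact ⟨p', x, e2.symm, Or.inl rfl, Or.inr (Or.inr rfl), e1.symm, e3.symm, fun r hr => by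
      rcases hr with h | h | h
      · exact Or.inl h
      · exact Or.inr (Or.inr h)
      · exact Or.inr (Or.inl h)⟩
  · exact ⟨p', q', e1, Or.inl rfl, Or.inr (Or.inl rfl), e2, e3, fun r hr => hr⟩

omit hA in
theorem Tri.blk_of {p' q' x : Pt k m} (t : Tri p' q' x) {a b : Pt k m} (ha : In3 p' q' x a) (hb : In3 p' q' x b) :
    a.1 = b.1 := by
  have e1 := t.blk
  have e2 := t.xb
  have h : ∀ r, In3 p' q' x r → r.1 = p'.1 := fun r hr => by
    rcases hr with rfl | rfl | rfl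
    · rfl
    · exact e1.symm
    · exact e2
  rw [h a ha, h b hb]

omit hA in
/-- `{a, b}` is moved by `(c d)` if they are different pairs of the three points -/
theorem Tri.moved {p' q' x : Pt k m} {a b c d z : Pt k m} (hcd : c ≠ d)
    (hc : In3 p' q' x c) (hd : In3 p' q' x d) (hz1 : z ≠ a) (hz2 : z ≠ b)
    (hz : ∀ r, In3 p' q' x r → r = a ∨ r = b ∨ r = z) (hzcd : z = c ∨ z = d) (hab : a ≠ b) {v : G}
    (hv : IsC M v a b) : E M v c ≠ E M v d := by
  have h1 : ∀ r, In3 p' q' x r → r ≠ z → E M v r = 1 := fun r hr hrz => by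
    rcases hz r hr with rfl | rfl | h
    · exact hv.left hab
    · exact hv.right hab
    · exact absurd h hrz
  rcases hzcd with rfl | rfl
  · rw [hv.zero hz1 hz2, h1 d hd hcd.symm]
    exact zero_ne_one
  · rw [hv.zero hz1 hz2, h1 c hc hcd]
    exact one_ne_zero

/-- the cell of the three points `p', q', x` -/
def Cell (M : SymK T H V ⊥ k m) (p q p' q' x : Pt k m) : Set G :=
  {y | y ∈ H ∧ ∃ π, Mv M y π ∧ In3 p' q' x (π p) ∧ In3 p' q' x (π q)}

/-- the conjugate centre and another transposition -/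
theorem rho_iff (hm : 1 ≤ m) (h : Tr M X p q) {y : G} (hy : y ∈ H) {π : Equiv.Perm (Pt k m)} (hπ : Mv M y π)
    {Y : Subgroup G} {r s : Pt k m} (hY : Tr M Y r s) {c : G} (hc : IsC M c (π p) (π q)) :
    MulAut.conj y • ⁅V, X⁆ ≤ centralizer (Y : Set G) ↔ E M c r = E M c s := by
  rw [smul_comm_eq hA hy]
  exact (h.conj hA hy hm hπ).le_cent_iff hA hm hY hc

/-- **two steps** -/
theorem cell_two (hm : 1 ≤ m) (h : Tr M X p q) {p' q' x : Pt k m} (t : Tri p' q' x) {a b : G}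
    (ha : a ∈ Cell M p q p' q' x) (hb : b ∈ Cell M p q p' q' x) :
    ∃ d ∈ Cell M p q p' q' x, ¬ MulAut.conj a • ⁅V, X⁆ ≤ centralizer (MulAut.conj d • X : Subgroup G) ∧
      ¬ MulAut.conj d • ⁅V, X⁆ ≤ centralizer (MulAut.conj b • X : Subgroup G) := by
  obtain ⟨haH, π, hπ, ha1, ha2⟩ := ha
  obtain ⟨hbH, σ, hσ, hb1, hb2⟩ := hb
  have hπn : π p ≠ π q := fun h1 => h.ne (π.injective h1)
  have hσn : σ p ≠ σ q := fun h1 => h.ne (σ.injective h1)
  obtain ⟨u, hu, hu1, hu2, hu3⟩ := t.exists_miss hπn ha1 ha2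
  obtain ⟨w, hw, hw1, hw2, hw3⟩ := t.exists_miss hσn hb1 hb2
  -- a point different from `u` and `w`
  obtain ⟨z, hz, hzu, hzw⟩ : ∃ z, In3 p' q' x z ∧ z ≠ u ∧ z ≠ w := by
    by_cases huw : u = w
    · exact ⟨π p, ha1, hu1.symm, by rw [← huw]; exact hu1.symm⟩
    · obtain ⟨z, hz, h1, h2, -⟩ := t.exists_miss huw hu hw
      exact ⟨z, hz, h1, h2⟩
  obtain ⟨c, d, hcd, hc, hd, hzc, hzd, hzall⟩ := t.exists_pair hz
  obtain ⟨g, hg, τ, hτ, hg1, hg2⟩ := exists_map (M := M) hA hm h.ne h.blk hcd (t.blk_of hc hd)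
  refine ⟨g, ⟨hg, τ, hτ, by rw [hg1]; exact hc, by rw [hg2]; exact hd⟩, ?_, ?_⟩
  · obtain ⟨v, hv⟩ := exists_isC (M := M) (t.blk_of ha1 ha2)
    rw [rho_iff hA hm h haH hπ (h.conj hA hg hm hτ) hv, hg1, hg2]
    refine Tri.moved hcd hc hd hu1 hu2 hu3 ?_ hπn hv
    rcases hzall u hu with h1 | h1 | h1
    · exact Or.inl h1
    · exact Or.inr h1
    · exact absurd h1.symm hzu
  · obtain ⟨v, hv⟩ := exists_isC (M := M) (t.blk_of hc hd)
    have hv' : IsC M v (τ p) (τ q) := by rw [hg1, hg2]; exact hv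
    rw [rho_iff hA hm h hg hτ (h.conj hA hbH hm hσ) hv']
    refine Tri.moved hσn hb1 hb2 hzc hzd hzall ?_ hcd hv
    rcases hw3 z hz with h1 | h1 | h1
    · exact Or.inl h1
    · exact Or.inr h1
    · exact absurd h1 hzw

/-- **one centre is not centralised by `B`** -/
theorem cell_out (hm : 1 ≤ m) (h : Tr M X p q) {p' q' x : Pt k m} (t : Tri p' q' x) {B : Subgroup G}
    (hB : Tr M B p' q') : ∃ a ∈ Cell M p q p' q' x, ¬ MulAut.conj a • ⁅V, X⁆ ≤ centralizer (B : Set G) := by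
  obtain ⟨g, hg, τ, hτ, hg1, hg2⟩ := exists_map (M := M) hA hm h.ne h.blk t.xp.symm (t.xb.symm)
  refine ⟨g, ⟨hg, τ, hτ, by rw [hg1]; exact Or.inl rfl, by rw [hg2]; exact Or.inr (Or.inr rfl)⟩, ?_⟩
  obtain ⟨v, hv⟩ := exists_isC (M := M) (p := p') (q := x) t.xb.symm
  have hv' : IsC M v (τ p) (τ q) := by rw [hg1, hg2]; exact hv
  rw [rho_iff hA hm h hg hτ hB hv', hv.left t.xp.symm, hv.zero t.ne.symm t.xq.symm]
  exact one_ne_zero

omit hA in
theorem exists_two (hm : 2 ≤ m) (a b c : Fin (2 ^ m + 1)) :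
    ∃ y z : Fin (2 ^ m + 1), y ≠ z ∧ (y ≠ a ∧ y ≠ b ∧ y ≠ c) ∧ z ≠ a ∧ z ≠ b ∧ z ≠ c := by
  have h5 : 5 ≤ 2 ^ m + 1 := by
    have h1 : 2 ^ 2 ≤ 2 ^ m := Nat.pow_le_pow_right (by norm_num) hm
    omega
  have h1 : ∃ y : Fin (2 ^ m + 1), y ∉ ({a, b, c} : Finset (Fin (2 ^ m + 1))) := by
    by_contra hc
    push Not at hc
    have h2 : (Finset.univ : Finset (Fin (2 ^ m + 1))) ⊆ {a, b, c} := fun a _ => hc a
    have h3 := Finset.card_le_card h2
    have h4 : ({a, b, c} : Finset (Fin (2 ^ m + 1))).card ≤ 3 := Finset.card_le_three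
    rw [Finset.card_univ, Fintype.card_fin] at h3
    omega
  obtain ⟨y, hy⟩ := h1
  have h1 : ∃ z : Fin (2 ^ m + 1), z ∉ ({y, a, b, c} : Finset (Fin (2 ^ m + 1))) := by
    by_contra hc
    push Not at hc
    have h2 : (Finset.univ : Finset (Fin (2 ^ m + 1))) ⊆ {y, a, b, c} := fun a _ => hc a
    have h3 := Finset.card_le_card h2
    have h4 : ({y, a, b, c} : Finset (Fin (2 ^ m + 1))).card ≤ 4 := Finset.card_le_four
    rw [Finset.card_univ, Fintype.card_fin] at h3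
    omega
  obtain ⟨z, hz⟩ := h1
  simp only [Finset.mem_insert, Finset.mem_singleton, not_or] at hy hz
  exact ⟨y, z, Ne.symm hz.1, hy, hz.2⟩

/-- a pair generates a group of order two -/
theorem card_zp {c : G} (hc : IsC M c p q) (hpq : p ≠ q) : Nat.card (zpowers c) = 2 := by
  rw [Nat.card_zpowers]
  refine orderOf_eq_prime (hA.sq c hc.1) fun h1 => hc.ne_one hpq h1

/-- **the fixed vectors of the cell** -/
theorem cell_fix [Finite G] (hm : 2 ≤ m) (h : Tr M X p q) {p' q' x : Pt k m} (t : Tri p' q' x) {B : Subgroup G}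
    (hB : Tr M B p' q') : ∃ C ≤ V, C ≤ centralizer (B : Set G) ∧
      (∀ a ∈ Cell M p q p' q' x, C ≤ centralizer (MulAut.conj a • X : Subgroup G)) ∧
      Nat.card ↥(⁅V, B⁆ : Subgroup G) < Nat.card C := by
  have hm1 : 1 ≤ m := by omega
  let C : Subgroup G :=
    { carrier := {v | v ∈ V ∧ E M v p' = E M v q' ∧ E M v x = E M v q'}
      one_mem' := ⟨one_mem _, by rw [E_one, E_one], by rw [E_one, E_one]⟩
      mul_mem' := by
        rintro a b ⟨ha1, ha2, ha3⟩ ⟨hb1, hb2, hb3⟩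
        exact ⟨mul_mem ha1 hb1, by rw [E_mul M ha1 hb1, E_mul M ha1 hb1, ha2, hb2],
          by rw [E_mul M ha1 hb1, E_mul M ha1 hb1, ha3, hb3]⟩
      inv_mem' := by
        rintro a ⟨ha1, ha2, ha3⟩
        exact ⟨inv_mem ha1, by rw [E_inv M ha1, E_inv M ha1, ha2], by rw [E_inv M ha1, E_inv M ha1, ha3]⟩ }
  have hC : ∀ {v}, v ∈ C ↔ v ∈ V ∧ E M v p' = E M v q' ∧ E M v x = E M v q' := Iff.rfl
  refine ⟨C, fun v hv => hv.1, fun v hv => (hB.cent hA hv.1).2 hv.2.1, fun a ha v hv => ?_, ?_⟩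
  · obtain ⟨haH, π, hπ, ha1, ha2⟩ := ha
    rw [(h.conj hA haH hm1 hπ).cent hA hv.1]
    have h1 : ∀ r, In3 p' q' x r → E M v r = E M v q' := fun r hr => by
      rcases hr with rfl | rfl | rfl
      · exact hv.2.1
      · rfl
      · exact hv.2.2
    rw [h1 _ ha1, h1 _ ha2]
  · obtain ⟨c, hc⟩ := exists_isC (M := M) hB.blk
    rw [hB.comm_eq hA hm1 hc, card_zp hA hc hB.ne]
    obtain ⟨y, z, hyz, ⟨hy1, hy2, hy3⟩, hz1, hz2, hz3⟩ := exists_two hm p'.2 q'.2 x.2
    have e1 : q'.1 = p'.1 := t.blk.symm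
    have e2 : x.1 = p'.1 := t.xb
    obtain ⟨c₁, hc₁⟩ := exists_isC (M := M) (p := (p'.1, y)) (q := (p'.1, z)) rfl
    obtain ⟨c₂, hc₂⟩ := exists_isC (M := M) (p := x) (q := (p'.1, y)) t.xb
    have n1 : p' ≠ ((p'.1, y) : Pt k m) := fun h1 => hy1 (congrArg Prod.snd h1).symm
    have n2 : p' ≠ ((p'.1, z) : Pt k m) := fun h1 => hz1 (congrArg Prod.snd h1).symm
    have n3 : q' ≠ ((p'.1, y) : Pt k m) := fun h1 => hy2 (congrArg Prod.snd h1).symm
    have n4 : q' ≠ ((p'.1, z) : Pt k m) := fun h1 => hz2 (congrArg Prod.snd h1).symm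
    have n5 : x ≠ ((p'.1, y) : Pt k m) := fun h1 => hy3 (congrArg Prod.snd h1).symm
    have n6 : x ≠ ((p'.1, z) : Pt k m) := fun h1 => hz3 (congrArg Prod.snd h1).symm
    have n7 : ((p'.1, y) : Pt k m) ≠ (p'.1, z) := fun h1 => hyz (congrArg Prod.snd h1)
    have m1 : c₁ ∈ C := hC.2 ⟨hc₁.1, by rw [hc₁.zero n1 n2, hc₁.zero n3 n4], by
      rw [hc₁.zero n5 n6, hc₁.zero n3 n4]⟩
    have m2 : c * c₂ ∈ C := by
      refine hC.2 ⟨mul_mem hc.1 hc₂.1, ?_, ?_⟩
      · rw [E_mul M hc.1 hc₂.1, E_mul M hc.1 hc₂.1, hc.left hB.ne, hc.right hB.ne, hc₂.zero t.xp.symm n1,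
          hc₂.zero t.xq.symm n3]
      · rw [E_mul M hc.1 hc₂.1, E_mul M hc.1 hc₂.1, hc.zero t.xp t.xq, hc.right hB.ne, hc₂.left n5,
          hc₂.zero t.xq.symm n3]
        rfl
    by_contra hcon
    push Not at hcon
    have h2 := card_zp hA hc₁ n7
    have h3 : zpowers c₁ = C := Subgroup.eq_of_le_of_card_ge ((zpowers_le).2 m1) (by rw [h2]; exact hcon)
    rw [← h3, mem_zpowers_iff (by have := hA.sq c₁ hc₁.1; rwa [pow_two] at this)] at m2
    have h4 : E M (c * c₂) p' = 1 := by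
      rw [E_mul M hc.1 hc₂.1, hc.left hB.ne, hc₂.zero t.xp.symm n1, add_zero]
    rcases m2 with h5 | h5
    · rw [h5, E_one] at h4
      exact zero_ne_one h4
    · rw [h5, hc₁.zero n1 n2] at h4
      exact zero_ne_one h4

/-! ### The block -/

omit hA in
/-- the `j`-th block -/
def blk (M : SymK T H V ⊥ k m) (j : Fin k) : Subgroup G where
  carrier := {v | v ∈ V ∧ ∀ r : Pt k m, r.1 ≠ j → E M v r = 0}
  one_mem' := ⟨one_mem _, fun r _ => E_one M r⟩
  mul_mem' := by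
    rintro a b ⟨ha1, ha2⟩ ⟨hb1, hb2⟩
    exact ⟨mul_mem ha1 hb1, fun r hr => by rw [E_mul M ha1 hb1, ha2 r hr, hb2 r hr, add_zero]⟩
  inv_mem' := by
    rintro a ⟨ha1, ha2⟩
    exact ⟨inv_mem ha1, fun r hr => by rw [E_inv M ha1, ha2 r hr]⟩

omit hA in
theorem mem_blk {j : Fin k} {v : G} : v ∈ blk M j ↔ v ∈ V ∧ ∀ r : Pt k m, r.1 ≠ j → E M v r = 0 := Iff.rfl

omit hA in
theorem pair_mem_blk {j : Fin k} {a b : Pt k m} (ha : a.1 = j) (hb : b.1 = j) {c : G} (hc : IsC M c a b) :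
    c ∈ blk M j :=
  ⟨hc.1, fun r hr => hc.zero (by rintro rfl; exact hr ha) (by rintro rfl; exact hr hb)⟩

/-- the elements which act only on the `j`-th block -/
def Ab (M : SymK T H V ⊥ k m) (hA : Amb T H V) (j : Fin k) : Subgroup G where
  carrier := {g | g ∈ H ∧ ∃ π, Mv M g π ∧ ∀ r : Pt k m, r.1 ≠ j → π r = r}
  one_mem' := ⟨one_mem _, 1, Mv_one M, fun _ _ => rfl⟩
  mul_mem' := by
    rintro a b ⟨ha, π, hπ, h1⟩ ⟨hb, ρ, hρ, h2⟩
    exact ⟨mul_mem ha hb, π * ρ, hπ.mul hA hρ hb, fun r hr => by rw [Equiv.Perm.mul_apply, h2 r hr, h1 r hr]⟩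
  inv_mem' := by
    rintro a ⟨ha, π, hπ, h1⟩
    exact ⟨inv_mem ha, π⁻¹, hπ.inv hA ha, fun r hr => by rw [Equiv.Perm.inv_eq_iff_eq]; exact (h1 r hr).symm⟩

theorem Tr.le_ab (h : Tr M X p q) {j : Fin k} (hj : p.1 = j) : X ≤ Ab M hA j := by
  intro a ha
  rcases h.all a ha with h1 | h1
  · refine ⟨h.le ha, 1, fun v hv r => ?_, fun _ _ => rfl⟩
    rw [← mem_centralizer_iff.1 h1 v hv, mul_inv_cancel_right]
    rfl
  · refine ⟨h.le ha, _, h1, fun r hr => Equiv.swap_apply_of_ne_of_ne ?_ ?_⟩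
    · rintro rfl; exact hr hj
    · rintro rfl; exact hr (h.blk.symm.trans hj)

theorem ab_fix {j : Fin k} {g : G} (hg : g ∈ Ab M hA j) {v : G} (hv : v ∈ V) {r : Pt k m} (hr : r.1 ≠ j) :
    E M (g * v * g⁻¹) r = E M v r := by
  obtain ⟨-, π, hπ, h1⟩ := hg
  have h2 := hπ v hv r
  rwa [h1 r hr] at h2

theorem ab_conj {j : Fin k} {g : G} (hg : g ∈ Ab M hA j) {v : G} (hv : v ∈ blk M j) : g * v * g⁻¹ ∈ blk M j :=
  ⟨hA.conj_mem hg.1 hv.1, fun r hr => by rw [ab_fix hA hg hv.1 hr, hv.2 r hr]⟩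

theorem ab_norm (j : Fin k) : Ab M hA j ≤ normalizer (blk M j : Set G) := by
  intro g hg
  rw [mem_normalizer_iff]
  refine fun v => ⟨fun hv => ab_conj hA hg hv, fun hv => ?_⟩
  have h1 := ab_conj hA (inv_mem hg) hv
  have h2 : g⁻¹ * (g * v * g⁻¹) * g⁻¹⁻¹ = v := by group
  rwa [h2] at h1

theorem ab_cent {i j : Fin k} (hij : i ≠ j) : Ab M hA j ≤ centralizer (blk M i : Set G) := by
  intro g hg
  rw [mem_centralizer_iff]
  intro v hv
  have h1 : g * v * g⁻¹ = v := by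
    refine inj M (hA.conj_mem hg.1 hv.1) hv.1 fun r => ?_
    by_cases hr : r.1 = j
    · obtain ⟨-, π, hπ, h1⟩ := hg
      have h2 := hπ v hv.1 (π⁻¹ r)
      rw [show π (π⁻¹ r) = r from π.apply_symm_apply r] at h2
      have h3 : (π⁻¹ r).1 = j := by
        by_contra h4
        have h5 := h1 _ h4
        rw [show π (π⁻¹ r) = r from π.apply_symm_apply r] at h5
        rw [← h5] at h4
        exact h4 hr
      rw [h2, hv.2 _ (by rw [h3]; exact hij.symm), hv.2 r (by rw [hr]; exact hij.symm)]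
    · exact ab_fix hA hg hv.1 hr
  rw [mul_inv_eq_iff_eq_mul] at h1
  exact h1.symm

/-- the conjugates of the block -/
theorem smul_blk (hm : 1 ≤ m) {g : G} (hg : g ∈ H) {π : Equiv.Perm (Pt k m)} (hπ : Mv M g π) (a : Pt k m) :
    MulAut.conj g • blk M a.1 = blk M (π a).1 := by
  have key : ∀ {g : G} (hg : g ∈ H) {π : Equiv.Perm (Pt k m)} (hπ : Mv M g π) (a : Pt k m) {v : G},
      v ∈ blk M a.1 → g * v * g⁻¹ ∈ blk M (π a).1 := by
    intro g hg π hπ a v hv
    refine ⟨hA.conj_mem hg hv.1, fun r hr => ?_⟩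
    have h2 := hπ v hv.1 (π⁻¹ r)
    rw [show π (π⁻¹ r) = r from π.apply_symm_apply r] at h2
    rw [h2]
    refine hv.2 _ fun h3 => hr ?_
    have h4 := hπ.fst hA hm hg h3
    rwa [show π (π⁻¹ r) = r from π.apply_symm_apply r] at h4
  apply le_antisymm
  · rintro _ ⟨v, hv, rfl⟩
    exact key hg hπ a hv
  · intro v hv
    refine ⟨g⁻¹ * v * g, ?_, ?_⟩
    · have h1 := key (inv_mem hg) (hπ.inv hA hg) (π a) hv
      rw [show π⁻¹ (π a) = a from π.symm_apply_apply a, inv_inv] at h1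
      exact h1
    · change g * (g⁻¹ * v * g) * g⁻¹ = v
      group

/-- **`V` is generated by the conjugates of the block** -/
theorem gen (hm : 1 ≤ m) (j : Fin k) : V ≤ ⨆ g : H, MulAut.conj (g : G) • blk M j := by
  have hb : ∀ i, blk M i ≤ ⨆ g : H, MulAut.conj (g : G) • blk M j := by
    intro i
    obtain ⟨t, ht, π, hπ, h1⟩ := trans_sum (M := M) j i
    have h2 := smul_blk hA hm (hA.TH ht) hπ ((j, 0) : Pt k m)
    rw [h1 (j, 0) rfl] at h2
    rw [← h2]
    exact le_iSup (fun g : H => MulAut.conj (g : G) • blk M j) ⟨t, hA.TH ht⟩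
  have key : ∀ s : Finset (Fin k), ∀ v ∈ V, (∀ r : Pt k m, r.1 ∉ s → E M v r = 0) →
      v ∈ ⨆ g : H, MulAut.conj (g : G) • blk M j := by
    intro s
    induction s using Finset.induction_on with
    | empty =>
      intro v hv h1
      rw [eq_one M hv fun r => h1 r (Finset.notMem_empty _)]
      exact one_mem _
    | insert i s hi ih =>
      intro v hv h1
      obtain ⟨w, hw, hwE⟩ := exists_E M (fun r => if r.1 = i then E M v r else 0) (fun l => by
        by_cases hl : l = i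
        · simp only [hl, if_true]
          exact even M hv i
        · simp only [hl, if_false]
          exact Finset.sum_const_zero)
      have hwb : w ∈ blk M i := ⟨hw, fun r hr => by rw [hwE, if_neg hr]⟩
      have h2 : v * w ∈ ⨆ g : H, MulAut.conj (g : G) • blk M j := by
        refine ih _ (mul_mem hv hw) fun r hr => ?_
        rw [E_mul M hv hw, hwE]
        by_cases hri : r.1 = i
        · rw [if_pos hri]
          exact CharTwo.add_self_eq_zero _
        · rw [if_neg hri, add_zero]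
          refine h1 r fun h3 => ?_
          rcases Finset.mem_insert.1 h3 with h4 | h4
          · exact hri h4
          · exact hr h4
      have h3 := mul_mem h2 (inv_mem (hb i hwb))
      rwa [mul_inv_cancel_right] at h3
  exact fun v hv => key Finset.univ v hv fun r hr => absurd (Finset.mem_univ _) hr

/-! ### Irreducibility -/

omit hA in
/-- a vector `≠ 1` of the block: two points in the support, one outside -/
theorem exists_three (hm : 1 ≤ m) {j : Fin k} {u : G} (hu : u ∈ blk M j) (hu1 : u ≠ 1) :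
    ∃ a b c : Pt k m, (a.1 = j ∧ b.1 = j ∧ c.1 = j) ∧ a ≠ b ∧ b ≠ c ∧ a ≠ c ∧ E M u a = 1 ∧ E M u b = 0 ∧
      E M u c = 1 := by
  have h0 : ∃ a : Pt k m, a.1 = j ∧ E M u a = 1 := by
    by_contra hc
    push Not at hc
    refine hu1 (eq_one M hu.1 fun r => ?_)
    by_cases hr : r.1 = j
    · exact (zmod2 _).resolve_right (hc r hr)
    · exact hu.2 r hr
  obtain ⟨⟨j', a⟩, rfl, ha⟩ := h0
  change u ∈ blk M j' at hu
  have hev := even M hu.1 j'
  have h1 : ∃ c, c ≠ a ∧ E M u (j', c) = 1 := by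
    by_contra hc
    push Not at hc
    rw [← Finset.add_sum_erase _ _ (Finset.mem_univ a), ha,
      Finset.sum_eq_zero fun x hx => (zmod2 _).resolve_right (hc x (Finset.ne_of_mem_erase hx)), add_zero] at hev
    exact one_ne_zero hev
  obtain ⟨c, hca, hc⟩ := h1
  have h2 : ∃ b, E M u (j', b) = 0 := by
    by_contra hb
    push Not at hb
    rw [Finset.sum_congr rfl fun x _ => (zmod2 _).resolve_left (hb x)] at hev
    rw [Finset.sum_const, Finset.card_univ, Fintype.card_fin, nsmul_eq_mul, mul_one] at hev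
    have h4 : ((2 ^ m + 1 : ℕ) : ZMod 2) = 1 := by
      obtain ⟨l, rfl⟩ : ∃ l, m = l + 1 := ⟨m - 1, by omega⟩
      rw [pow_succ]
      push_cast
      have : (2 : ZMod 2) = 0 := by decide
      rw [this, mul_zero, zero_add]
    rw [h4] at hev
    exact one_ne_zero hev
  obtain ⟨b, hb⟩ := h2
  refine ⟨(j', a), (j', b), (j', c), ⟨rfl, rfl, rfl⟩, ?_, ?_, ?_, ha, hb, hc⟩
  · intro h; rw [h, hb] at ha; exact zero_ne_one ha
  · intro h; rw [h, hc] at hb; exact one_ne_zero hb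
  · intro h; exact hca (congrArg Prod.snd h).symm

omit hA in
/-- a subgroup containing all pairs `{b, y}` contains the block -/
theorem blk_le_of_pairs {j : Fin k} {U : Subgroup G} (hU : U ≤ blk M j) (b : Fin (2 ^ m + 1))
    (hp : ∀ y, y ≠ b → ∃ u ∈ U, IsC M u (j, b) (j, y)) : blk M j ≤ U := by
  intro v hv
  have key : ∀ s : Finset (Fin (2 ^ m + 1)), b ∉ s →
      ∃ u ∈ U, ∀ z, z ≠ b → E M u (j, z) = if z ∈ s then 1 else 0 := by
    intro s
    induction s using Finset.induction_on with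
    | empty =>
      intro _
      exact ⟨1, one_mem _, fun z _ => by rw [E_one, if_neg (Finset.notMem_empty z)]⟩
    | insert y s hy ih =>
      intro hb
      rw [Finset.mem_insert, not_or] at hb
      obtain ⟨u, hu, hue⟩ := ih hb.2
      obtain ⟨p, hp', hpe⟩ := hp y (Ne.symm hb.1)
      refine ⟨u * p, mul_mem hu hp', fun z hz => ?_⟩
      rw [E_mul M (hU hu).1 (hU hp').1, hue z hz, hpe.2, if_neg (fun h1 => hz (congrArg Prod.snd h1)), zero_add]
      by_cases hzy : z = y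
      · subst hzy
        rw [if_neg hy, if_pos rfl, zero_add, if_pos (Finset.mem_insert_self _ _)]
      · rw [if_neg (fun h1 => hzy (congrArg Prod.snd h1)), add_zero]
        simp only [Finset.mem_insert, hzy, false_or]
  obtain ⟨u, hu, hue⟩ := key (Finset.univ.filter fun y => y ≠ b ∧ E M v (j, y) = 1) (by simp)
  have h1 : v = u := by
    have h2 : ∀ z, z ≠ b → E M v (j, z) = E M u (j, z) := fun z hz => by
      rw [hue z hz]
      rcases zmod2 (E M v (j, z)) with h3 | h3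
      · rw [if_neg, h3]
        simp [h3]
      · rw [if_pos, h3]
        simp [h3, hz]
    have h3 : E M v (j, b) = E M u (j, b) := by
      have h4 := even M hv.1 j
      have h5 := even M (hU hu).1 j
      rw [← Finset.add_sum_erase _ _ (Finset.mem_univ b)] at h4 h5
      rw [Finset.sum_congr rfl fun x hx => h2 x (Finset.ne_of_mem_erase hx)] at h4
      exact add_right_cancel (h4.trans h5.symm)
    refine inj M hv.1 (hU hu).1 fun r => ?_
    by_cases hr : r.1 = j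
    · obtain ⟨i, z⟩ := r
      change i = j at hr
      subst hr
      by_cases hz : z = b
      · rw [hz]; exact h3
      · exact h2 z hz
    · rw [hv.2 r hr, (hU hu).2 r hr]
  rw [h1]
  exact hu

omit hA in
theorem tc_a {a b c : Pt k m} (hab : a ≠ b) (hac : a ≠ c) : (Equiv.swap a b * Equiv.swap b c) a = b := by
  rw [Equiv.Perm.mul_apply, Equiv.swap_apply_of_ne_of_ne hab hac, Equiv.swap_apply_left]

omit hA in
theorem tc_b {a b c : Pt k m} (hbc : b ≠ c) (hac : a ≠ c) : (Equiv.swap a b * Equiv.swap b c) b = c := by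
  rw [Equiv.Perm.mul_apply, Equiv.swap_apply_left, Equiv.swap_apply_of_ne_of_ne hac.symm hbc.symm]

omit hA in
theorem tc_c {a b c : Pt k m} : (Equiv.swap a b * Equiv.swap b c) c = a := by
  rw [Equiv.Perm.mul_apply, Equiv.swap_apply_right, Equiv.swap_apply_right]

omit hA in
theorem tc_ne {a b c z : Pt k m} (ha : z ≠ a) (hb : z ≠ b) (hc : z ≠ c) :
    (Equiv.swap a b * Equiv.swap b c) z = z := by
  rw [Equiv.Perm.mul_apply, Equiv.swap_apply_of_ne_of_ne hb hc, Equiv.swap_apply_of_ne_of_ne ha hb]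

/-- **irreducibility under the 3-cycles** -/
theorem blk_le_of_tc (hm : 2 ≤ m) {j : Fin k} {U R : Subgroup G} (hU : U ≤ blk M j) (hne : U ≠ ⊥)
    (hRH : R ≤ H) (hRU : R ≤ normalizer (U : Set G))
    (htc : ∀ a b c : Pt k m, a.1 = j → b.1 = j → c.1 = j → a ≠ b → b ≠ c → a ≠ c →
      ∃ g ∈ R, Mv M g (Equiv.swap a b * Equiv.swap b c)) : blk M j ≤ U := by
  obtain ⟨u, hu, hu1⟩ := (Subgroup.bot_or_exists_ne_one U).resolve_left hne
  obtain ⟨a, b, c, ⟨haj, hbj, hcj⟩, hab, hbc, hac, ha, hb, hc⟩ := exists_three (by omega) (hU hu) hu1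
  -- one pair
  have hpair : ∃ p ∈ U, IsC M p b c := by
    obtain ⟨g, hg, hgA⟩ := htc a b c haj hbj hcj hab hbc hac
    have hgu : g * u * g⁻¹ ∈ U := (mem_normalizer_iff.1 (hRU hg) u).1 hu
    refine ⟨g * u * g⁻¹ * u, mul_mem hgu hu, mul_mem (hU hgu).1 (hU hu).1, fun r => ?_⟩
    rw [E_mul M (hU hgu).1 (hU hu).1]
    have hv := hgA u (hU hu).1
    by_cases hza : r = a
    · subst hza
      have h1 := hv c
      rw [tc_c, hc] at h1
      rw [h1, ha, if_neg hab, if_neg hac]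
      decide
    by_cases hzb : r = b
    · subst hzb
      have h1 := hv a
      rw [tc_a hab hac, ha] at h1
      rw [h1, hb, if_pos rfl, if_neg hbc]
    by_cases hzc : r = c
    · subst hzc
      have h1 := hv b
      rw [tc_b hbc hac, hb] at h1
      rw [h1, hc, if_pos rfl, if_neg hbc.symm]
    have h1 := hv r
    rw [tc_ne hza hzb hzc] at h1
    rw [h1, if_neg hzb, if_neg hzc, CharTwo.add_self_eq_zero]
    rfl
  obtain ⟨p, hp, hpe⟩ := hpair
  obtain ⟨i, b⟩ := b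
  change i = j at hbj
  subst hbj
  refine blk_le_of_pairs hU b fun y hyb => ?_
  by_cases hyc : ((i, y) : Pt k m) = c
  · rw [hyc]
    exact ⟨p, hp, hpe⟩
  -- `c → y → z → c`, `z ≠ b, c, y`
  obtain ⟨z, z', -, ⟨hz1, hz2, hz3⟩, -⟩ := exists_two hm b c.2 y
  have hyb' : ((i, y) : Pt k m) ≠ (i, b) := fun h => hyb (congrArg Prod.snd h)
  have hzb' : ((i, z) : Pt k m) ≠ (i, b) := fun h => hz1 (congrArg Prod.snd h)
  have hzc' : ((i, z) : Pt k m) ≠ c := fun h => hz2 (congrArg Prod.snd h)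
  have hzy' : ((i, z) : Pt k m) ≠ (i, y) := fun h => hz3 (congrArg Prod.snd h)
  obtain ⟨g, hg, hgA⟩ := htc c (i, y) (i, z) hcj rfl rfl (Ne.symm hyc) (Ne.symm hzy') (Ne.symm hzc')
  refine ⟨g * p * g⁻¹, (mem_normalizer_iff.1 (hRU hg) p).1 hp, ?_⟩
  have h1 := hpe.conj hA (hRH hg) hgA
  rwa [tc_ne hbc (Ne.symm hyb') (Ne.symm hzb'), tc_a (Ne.symm hyc) (Ne.symm hzc')] at h1

end tr

end Cfsg.Agent.Omega.NO3S.SFive.TyS

end

section


/-!
# Even-subset blocks: `TyD` (helper422, #22571 (2)-(5); GammaFF (S5))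

`tyD_sym` : `SymKM`, two minimal offenders `A`, `B` in `S`: `∃ N K, TyD S P A B N K`.
The cells are the sets of three letters `{p', q', x}`, `B = (p' q')`; `K` = all `A^y` inducing `(p' q')`, `(p' x)`,
`(q' x)` for some `x`.
-/

set_option autoImplicit false

namespace Cfsg.Agent.Omega.NO3S.SFive.TyS

open Subgroup Cfsg Cfsg.Agent.ZN Cfsg.Agent.ZN.ChoiceBase
open Cfsg.Agent.Omega.FFThm (ElemM OffM NoOverM ConclM SymK SymKM ActsSym)
open Cfsg.Agent.Omega.Half (Amb)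
open Cfsg.Agent.Omega.Half.SymA
open Cfsg.Agent.Omega.NOThreeL.NF (MinOffM)
open Cfsg.Agent.Omega.NOThreeL.NF.SymRP
open Cfsg.Agent.Omega.MinPar
open scoped Classical commutatorElement Pointwise

universe u

variable {G : Type u} [Group G]

section k

variable {T H V : Subgroup G} {k m : ℕ}

/-- `K` -/
def KK (M : SymK T H V ⊥ k m) (p q p' q' : Pt k m) (A : Subgroup G) : Subgroup G :=
  ⨆ x : {x : Pt k m // Tri p' q' x}, ⨆ a : Cell M p q p' q' x, MulAut.conj (a : G) • A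

variable {M : SymK T H V ⊥ k m} (hA : Amb T H V) {A : Subgroup G} {p q p' q' : Pt k m}
include hA

theorem KK_le_ab (hm : 1 ≤ m) (h : Tr M A p q) : KK M p q p' q' A ≤ Ab M hA p'.1 := by
  refine iSup_le fun x => iSup_le fun a => ?_
  obtain ⟨a, haH, π, hπ, h1, h2⟩ := a
  refine (h.conj hA haH hm hπ).le_ab hA ?_
  exact x.2.blk_of h1 (Or.inl rfl)

theorem exists_sw_mem (hm : 1 ≤ m) (h : Tr M A p q) {x : Pt k m} (t : Tri p' q' x) {a b : Pt k m} (hab : a ≠ b)
    (ha : In3 p' q' x a) (hb : In3 p' q' x b) : ∃ g ∈ KK M p q p' q' A, Mv M g (Equiv.swap a b) := by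
  obtain ⟨y, hy, π, hπ, h1, h2⟩ := exists_map (M := M) hA hm h.ne h.blk hab (t.blk_of ha hb)
  obtain ⟨g, hg, hg1⟩ := (h.conj hA hy hm hπ).ex
  rw [h1, h2] at hg1
  have h3 : MulAut.conj y • A ≤ KK M p q p' q' A :=
    (le_iSup (fun a : Cell M p q p' q' x => MulAut.conj (a : G) • A)
      ⟨y, hy, π, hπ, by rw [h1]; exact ha, by rw [h2]; exact hb⟩).trans
      (le_iSup (fun x : {x : Pt k m // Tri p' q' x} => ⨆ a : Cell M p q p' q' x, MulAut.conj (a : G) • A) ⟨x, t⟩)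
  exact ⟨g, h3 hg, hg1⟩

omit hA in
theorem exists_tri (hm : 1 ≤ m) (hne : p' ≠ q') (hb : p'.1 = q'.1) : ∃ x, Tri p' q' x := by
  obtain ⟨c, hc1, hc2⟩ := exists_third hm p'.2 q'.2
  exact ⟨(p'.1, c), ⟨hne, fun h => hc1 (congrArg Prod.snd h), fun h => hc2 (congrArg Prod.snd h), hb, rfl⟩⟩

/-- `K` is transitive on the ordered pairs of points of the block -/
theorem exists_K_map (hm : 1 ≤ m) (h : Tr M A p q) (hne : p' ≠ q') (hb : p'.1 = q'.1) {r s : Pt k m} (hrs : r ≠ s)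
    (hr : r.1 = p'.1) (hs : s.1 = p'.1) :
    ∃ y ∈ KK M p q p' q' A, ∃ π, Mv M y π ∧ π p' = r ∧ π q' = s := by
  have hKH : KK M p q p' q' A ≤ H := fun g hg => (KK_le_ab hA hm h hg).1
  -- first step
  obtain ⟨y₁, hy₁, π₁, hπ₁, h1⟩ : ∃ y ∈ KK M p q p' q' A, ∃ π, Mv M y π ∧ π p' = r := by
    by_cases hrp : r = p'
    · exact ⟨1, one_mem _, 1, Mv_one M, hrp.symm⟩
    by_cases hrq : r = q'
    · obtain ⟨x, t⟩ := exists_tri hm hne hb
      obtain ⟨g, hg, hg1⟩ := exists_sw_mem hA hm h t hne (Or.inl rfl) (Or.inr (Or.inl rfl))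
      exact ⟨g, hg, _, hg1, by rw [Equiv.swap_apply_left, hrq]⟩
    · obtain ⟨g, hg, hg1⟩ := exists_sw_mem hA hm h (x := r) ⟨hne, hrp, hrq, hb, hr⟩ (Ne.symm hrp) (Or.inl rfl)
        (Or.inr (Or.inr rfl))
      exact ⟨g, hg, _, hg1, Equiv.swap_apply_left _ _⟩
  have hs' : π₁ (π₁⁻¹ s) = s := π₁.apply_symm_apply s
  obtain ⟨s', hs'e⟩ : ∃ s', s' = π₁⁻¹ s := ⟨_, rfl⟩
  rw [← hs'e] at hs'
  have hsp : s' ≠ p' := by
    rintro rfl
    exact hrs (h1.symm.trans hs')
  have hsb : s'.1 = p'.1 := by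
    have h2 := (hπ₁.inv hA (hKH hy₁)).fst hA hm (inv_mem (hKH hy₁)) (p := s) (q := r) (by rw [hs, hr])
    rw [← hs'e] at h2
    rw [h2, ← h1, show π₁⁻¹ (π₁ p') = p' from π₁.symm_apply_apply p']
  obtain ⟨y₂, hy₂, π₂, hπ₂, h2, h3⟩ : ∃ y ∈ KK M p q p' q' A, ∃ π, Mv M y π ∧ π q' = s' ∧ π p' = p' := by
    by_cases hsq : s' = q'
    · exact ⟨1, one_mem _, 1, Mv_one M, hsq.symm, rfl⟩
    · obtain ⟨g, hg, hg1⟩ := exists_sw_mem hA hm h (x := s') ⟨hne, hsp, hsq, hb, hsb⟩ (Ne.symm hsq)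
        (Or.inr (Or.inl rfl)) (Or.inr (Or.inr rfl))
      exact ⟨g, hg, _, hg1, Equiv.swap_apply_left _ _, Equiv.swap_apply_of_ne_of_ne hne hsp.symm⟩
  refine ⟨y₁ * y₂, mul_mem hy₁ hy₂, π₁ * π₂, hπ₁.mul hA hπ₂ (hKH hy₂), ?_, ?_⟩
  · rw [Equiv.Perm.mul_apply, h3, h1]
  · rw [Equiv.Perm.mul_apply, h2, hs']

/-- `Λ` induces all transpositions -/
theorem exists_Lam (hm : 1 ≤ m) (h : Tr M A p q) {B : Subgroup G} (hB : Tr M B p' q') {r s : Pt k m} (hrs : r ≠ s)
    (hr : r.1 = p'.1) (hs : s.1 = p'.1) : ∃ g ∈ Lam B (KK M p q p' q' A), Mv M g (Equiv.swap r s) := by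
  obtain ⟨y, hy, π, hπ, h1, h2⟩ := exists_K_map hA hm h hB.ne hB.blk hrs hr hs
  have hyH : y ∈ H := (KK_le_ab hA hm h hy).1
  obtain ⟨g, hg, hg1⟩ := (hB.conj hA hyH hm hπ).ex
  rw [h1, h2] at hg1
  exact ⟨g, le_iSup (fun y : KK M p q p' q' A => MulAut.conj (y : G) • B) ⟨y, hy⟩ hg, hg1⟩

theorem Lam_le_ab (hm : 1 ≤ m) (h : Tr M A p q) {B : Subgroup G} (hB : Tr M B p' q') :
    Lam B (KK M p q p' q' A) ≤ Ab M hA p'.1 := by
  refine iSup_le fun y => ?_
  rintro _ ⟨b, hb, rfl⟩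
  have hy := KK_le_ab hA hm h y.2
  exact mul_mem (mul_mem hy (hB.le_ab hA rfl hb)) (inv_mem hy)

theorem Der_le_ab (hm : 1 ≤ m) (h : Tr M A p q) {B : Subgroup G} (hB : Tr M B p' q') :
    Der B (KK M p q p' q' A) ≤ Ab M hA p'.1 := by
  rw [Der, commutator_le]
  intro a ha b hb
  have ha' := Lam_le_ab hA hm h hB ha
  have hb' := Lam_le_ab hA hm h hB hb
  rw [commutatorElement_def]
  exact mul_mem (mul_mem (mul_mem ha' hb') (inv_mem ha')) (inv_mem hb')

/-- `⁅Λ, Λ⁆` induces all 3-cycles -/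
theorem exists_tc (hm : 1 ≤ m) (h : Tr M A p q) {B : Subgroup G} (hB : Tr M B p' q') {a b c : Pt k m}
    (ha : a.1 = p'.1) (hb : b.1 = p'.1) (hc : c.1 = p'.1) (hab : a ≠ b) (hbc : b ≠ c) (hac : a ≠ c) :
    ∃ g ∈ Der B (KK M p q p' q' A), Mv M g (Equiv.swap a b * Equiv.swap b c) := by
  obtain ⟨s, hs, hs1⟩ := exists_Lam hA hm h hB hab ha hb
  obtain ⟨t, ht, ht1⟩ := exists_Lam hA hm h hB hac ha hc
  have hsH := (Lam_le_ab hA hm h hB hs).1
  have htH := (Lam_le_ab hA hm h hB ht).1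
  refine ⟨⁅s, t⁆, commutator_mem_commutator hs ht, ?_⟩
  have h1 := ((hs1.mul hA ht1 htH).mul hA (hs1.inv hA hsH) (inv_mem hsH)).mul hA (ht1.inv hA htH) (inv_mem htH)
  rw [commutatorElement_def]
  have e : Equiv.swap a b * Equiv.swap a c * (Equiv.swap a b)⁻¹ * (Equiv.swap a c)⁻¹ =
      Equiv.swap a b * Equiv.swap b c := by
    rw [Equiv.swap_inv, Equiv.swap_inv]
    have h2 := Equiv.swap_mul_swap_mul_swap (x := b) (y := a) (z := c) hab.symm hbc
    rw [mul_assoc, mul_assoc, ← mul_assoc (Equiv.swap a c)]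
    rw [Equiv.swap_comm a b, h2, Equiv.swap_comm c b]
  rwa [e] at h1

end k

variable [Finite G] {S : Sylow 2 G} {P : Subgroup G} {k m : ℕ}

/-- **The type data for even-subset blocks.** -/
theorem tyD_of {A B : Subgroup G} {M : SymK (S : Subgroup G) P (zl (S : Subgroup G) P) ⊥ k m}
    (hA : Amb (S : Subgroup G) P (zl (S : Subgroup G) P)) (hm : 2 ≤ m) {p q p' q' : Pt k m} (h : Tr M A p q)
    (hB : Tr M B p' q') :
    TyD (S : Subgroup G) P A B (blk M p'.1) (KK M p q p' q' A) := by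
  have hm1 : 1 ≤ m := by omega
  obtain ⟨c, hc⟩ := exists_isC (M := M) hB.blk
  obtain ⟨x, t⟩ := exists_tri hm1 hB.ne hB.blk
  refine ⟨fun v hv => hv.1, ?_, (KK_le_ab hA hm1 h).trans (ab_norm hA _), ?_, ?_, ?_, ?_, gen hA hm1 _⟩
  · rw [hB.comm_eq hA hm1 hc, zpowers_le]
    exact pair_mem_blk rfl hB.blk.symm hc
  · exact ⟨{x : Pt k m // Tri p' q' x}, fun x => Cell M p q p' q' x, fun _ _ ha => ha.1, rfl,
      fun x a ha b hb => cell_two hA hm1 h x.2 ha hb, fun x => cell_out hA hm1 h x.2 hB,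
      fun x => cell_fix hA hm h x.2 hB⟩
  · intro U hU hne hUn
    exact blk_le_of_tc hA hm hU hne (fun g hg => (Der_le_ab hA hm1 h hB hg).1) hUn
      fun a b c ha hb hc hab hbc hac => exists_tc hA hm1 h hB ha hb hc hab hbc hac
  · intro hcon
    obtain ⟨g, hg, hg1⟩ := exists_tc hA hm1 h hB (a := p') (b := q') (c := x) rfl hB.blk.symm t.xb hB.ne
      t.xq.symm t.xp.symm
    have h1 := mem_centralizer_iff.1 (hcon hg) c (pair_mem_blk rfl hB.blk.symm hc)
    have h2 := hg1 c hc.1 x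
    rw [← h1, mul_inv_cancel_right, tc_c, hc.left hB.ne, hc.zero t.xp t.xq] at h2
    exact one_ne_zero h2
  · intro y hy
    obtain ⟨π, hπ, -⟩ := exists_mv (M := M) hy
    rw [smul_blk hA hm1 hy hπ]
    by_cases hj : (π p').1 = p'.1
    · left; rw [hj]
    · right
      exact (Der_le_ab hA hm1 h hB).trans (ab_cent hA hj)

/-- a minimal offender acts as a transposition -/
theorem exists_tr (M : SymKM (S : Subgroup G) P (zl (S : Subgroup G) P) ⊥ k m)
    (hA : Amb (S : Subgroup G) P (zl (S : Subgroup G) P)) (hm : 1 ≤ m) {A : Subgroup G}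
    (h : MinOffM (zl (S : Subgroup G) P) (S : Subgroup G) A) : ∃ p q, Tr M.toSymK A p q := by
  obtain ⟨⟨p, q, had⟩, -⟩ := exists_ad M hA hm h
  exact ⟨p, q, had.le.trans hA.TH, had.sw.1, had.sw.2.1, had.ex, had.all⟩

/-- **`TyD` for even-subset blocks** (S5). -/
theorem tyD_sym (hG : IsCharacteristicTwoType G) (hP : IsParS (S : Subgroup G) P)
    (hcv : FrameFF.cv (S : Subgroup G) P = ⊥) (hm : 2 ≤ m)
    (M : SymKM (S : Subgroup G) P (zl (S : Subgroup G) P) (FrameFF.cv (S : Subgroup G) P) k m) {A B : Subgroup G}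
    (hAo : MinOffM (zl (S : Subgroup G) P) (S : Subgroup G) A)
    (hBo : MinOffM (zl (S : Subgroup G) P) (S : Subgroup G) B) :
    ∃ N K : Subgroup G, TyD (S : Subgroup G) P A B N K := by
  rw [hcv] at M
  have hA : Amb (S : Subgroup G) P (zl (S : Subgroup G) P) := Half.amb_of_loc hG S hP.isLoc
  obtain ⟨p, q, h⟩ := exists_tr M hA (by omega) hAo
  obtain ⟨p', q', hB⟩ := exists_tr M hA (by omega) hBo
  exact ⟨_, _, tyD_of hA hm h hB⟩

end Cfsg.Agent.Omega.NO3S.SFive.TyS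

end

end

-- merged: Cfsg.Agent.Mrg.Omega.NO3S.SFive.GamC
section

section


/-!
# GammaFF (S5): `B` at a bad chamber is a minimal offender on `L` (helper75 #22081 (2), cut #23010)

`B ≤ S`, `L ≰ E` and `[L ∩ E, B] = 1`.

* `Fv.idx` : `|I : F| = |V : E| = |L : L ∩ E|`;
* `Fv.gam_of` : `B` is a minimal offender on `L`, `[L, B] ∩ F = 1`, `|[L, B]| = |I : F|`.
-/

set_option autoImplicit false
set_option linter.unusedSectionVars false

namespace Cfsg.Agent.Omega.NO3S.SFive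

open Subgroup Cfsg Cfsg.Agent.ZN Cfsg.Agent.Omega.MinPar Cfsg.Agent.Omega.Frame Cfsg.Agent.Omega.FrameNOFF
open Cfsg.Agent.Omega.NOne.Flat (EE NN BadX)
open Cfsg.Agent.Omega.NOne.NearFF (c c_def)
open Cfsg.Agent.Omega.FFThm (ElemM OffM NoOverM ConclM relIndex_le_iff)
open Cfsg.Agent.Omega.NOThreeL.NF (MinOffM RP)
open Cfsg.Agent.Omega.NOThreeL.Low.Key (BH c_eq_one' comm_of_c)
open scoped Pointwise commutatorElement

universe u

variable {G : Type u} [Group G] [Finite G] {S : Sylow 2 G} {P V M F B : Subgroup G}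

theorem card_inf_mul' (X C : Subgroup G) : Nat.card ↥(X ⊓ C) * C.relIndex X = Nat.card X := by
  rw [← inf_relIndex_left X C]
  exact NOne.Flat.card_mul_relIndex' inf_le_left

namespace Fv

variable (h : Fv S P V M F)
include h

theorem rp : RP (S : Subgroup G) P := rp_of h.ct h.par h.cvb h.noOver h.concl

theorem tpL : NOThreeL.Low.Tp (S : Subgroup G) P := by
  have h1 := h.concl
  unfold ConclM at h1
  rw [h.cvb] at h1
  exact h1

/-- `|I : F| ≤ |L : L ∩ E|` -/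
theorem three_le (bh : BH V F B) (hsq : ∀ b ∈ B, b ^ 2 = 1) (hBS : B ≤ (S : Subgroup G))
    (hUE : ¬ zl (S : Subgroup G) P ≤ EE V F) : F.relIndex (V ⊓ B) ≤ (EE V F).relIndex (zl (S : Subgroup G) P) :=
  Pas.three h.ct h.par h.tpL bh hsq hBS h.LV hUE

/-- `|L : L ∩ E| ≤ |V : E|` -/
theorem relIndex_L_le : (EE V F).relIndex (zl (S : Subgroup G) P) ≤ (EE V F).relIndex V :=
  Subgroup.relIndex_le_of_le_right h.LV (rne _ _)

/-- `|V : E| = |I : F| = |L : L ∩ E|` -/
theorem idx (bh : BH V F B) (hsq : ∀ b ∈ B, b ^ 2 = 1) (hBS : B ≤ (S : Subgroup G))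
    (hUE : ¬ zl (S : Subgroup G) P ≤ EE V F) (hI : ¬ V ⊓ B ≤ F) :
    (EE V F).relIndex (zl (S : Subgroup G) P) = F.relIndex (V ⊓ B) ∧ (EE V F).relIndex V = F.relIndex (V ⊓ B) := by
  have h1 := h.three_le bh hsq hBS hUE
  have h2 := h.relIndex_L_le
  have h3 := bh.relIndex_V_le hI
  omega

/-- `C_L(B) ≤ E` -/
theorem cent_le_EE (bh : BH V F B) (hI : ¬ V ⊓ B ≤ F) {v : G} (hv : v ∈ V) (hvB : v ∈ centralizer (B : Set G)) :
    v ∈ EE V F := by
  obtain ⟨b, hb, hbN⟩ := bh.exists_not_mem_NN hI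
  refine bh.mem_E_of_c hv hb hbN ?_
  rw [c_eq_one' (mem_centralizer_iff.1 hvB b hb).symm]
  exact one_mem _

/-- **`B` is a minimal offender on `L`.** -/
theorem gam_of (bh : BH V F B) (hsq : ∀ b ∈ B, b ^ 2 = 1) (hBS : B ≤ (S : Subgroup G))
    (hUE : ¬ zl (S : Subgroup G) P ≤ EE V F) (hI : ¬ V ⊓ B ≤ F)
    (h1 : zl (S : Subgroup G) P ⊓ EE V F ≤ centralizer (B : Set G)) :
    MinOffM (zl (S : Subgroup G) P) (S : Subgroup G) B ∧ ⁅zl (S : Subgroup G) P, B⁆ ⊓ F = ⊥ ∧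
      (EE V F).relIndex V ≤ (EE V F).relIndex (zl (S : Subgroup G) P) ∧
      F.relIndex (V ⊓ B) ≤ Nat.card ↥(⁅zl (S : Subgroup G) P, B⁆ : Subgroup G) := by
  set L := zl (S : Subgroup G) P with hL
  have hLV : L ≤ V := h.LV
  obtain ⟨hi1, hi2⟩ := h.idx bh hsq hBS hUE hI
  obtain ⟨w, hw, hwE⟩ := SetLike.not_le_iff_exists.1 hUE
  have hBP : B ≤ P := hBS.trans h.SP
  -- `C_L(B) = L ∩ E`
  have hCL : L ⊓ centralizer (B : Set G) = L ⊓ EE V F :=
    le_antisymm (le_inf inf_le_left fun v hv => h.cent_le_EE bh hI (hLV hv.1) hv.2) (le_inf inf_le_left h1)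
  have hidx : (centralizer (B : Set G)).relIndex L = F.relIndex (V ⊓ B) := by
    rw [← hi1, ← inf_relIndex_left L, hCL, inf_relIndex_left]
  -- `C_B(L) ≤ N`
  have hCN : ∀ b ∈ B, b ∈ centralizer (L : Set G) → b ∈ NN V F := by
    intro b hb hbL
    refine bh.mem_NN_of_c (hLV hw) hwE hb ?_
    rw [c_eq_one' (mem_centralizer_iff.1 hbL w hw)]
    exact one_mem _
  have hle1 : (NN V F).relIndex B ≤ (centralizer (L : Set G)).relIndex B := by
    rw [← inf_relIndex_right (centralizer (L : Set G)) B, ← inf_relIndex_right (NN V F) B]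
    exact Subgroup.relIndex_le_of_le_left (fun b hb => ⟨hCN b hb.2 hb.1, hb.2⟩) (rne _ _)
  have hne : ¬ B ≤ centralizer (L : Set G) := by
    intro h2
    exact hwE (h.cent_le_EE bh hI (hLV hw) (le_centralizer_iff.1 h2 hw))
  have hel : ElemM L B :=
    { sq := fun b hb => by rw [hsq b hb]; exact one_mem _
      comm := fun a ha b hb => by
        have e : a * b * a⁻¹ * b⁻¹ = 1 := by rw [bh.B_comm ha hb]; group
        rw [e]; exact one_mem _ }
  have hoff : OffM L B :=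
    { toElemM := hel
      ne := hne
      le := relIndex_le_iff.2 (by rw [hidx, ← bh.relIndex_B]; exact hle1) }
  have hle2 : (centralizer (L : Set G)).relIndex B ≤ (NN V F).relIndex B := by
    have h2 := relIndex_le_iff.1 (h.noOver B hBP hel)
    rw [bh.relIndex_B, ← hidx]
    exact h2
  have heq : (centralizer (L : Set G)).relIndex B = F.relIndex (V ⊓ B) := by
    rw [← bh.relIndex_B]; exact le_antisymm hle2 hle1
  -- `B ∩ N = C_B(L)`
  have hNC : ∀ b ∈ B, b ∈ NN V F → b ∈ centralizer (L : Set G) := by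
    have h2 : centralizer (L : Set G) ⊓ B ≤ NN V F ⊓ B := fun b hb => ⟨hCN b hb.2 hb.1, hb.2⟩
    have h3 := card_inf_mul' B (centralizer (L : Set G))
    have h4 := card_inf_mul' B (NN V F)
    have h5 : Nat.card ↥(NN V F ⊓ B) ≤ Nat.card ↥(centralizer (L : Set G) ⊓ B) := by
      rw [heq] at h3
      rw [bh.relIndex_B] at h4
      rw [inf_comm] at h3 h4
      have h6 : 0 < F.relIndex (V ⊓ B) := Nat.pos_of_ne_zero (rne _ _)
      exact Nat.le_of_mul_le_mul_right (by rw [h3, h4]) h6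
    intro b hb hbN
    have h6 := Subgroup.eq_of_le_of_card_ge h2 h5
    have h7 : b ∈ NN V F ⊓ B := ⟨hbN, hb⟩
    rw [← h6] at h7
    exact h7.1
  have hmin : MinOffM L (S : Subgroup G) B :=
    { le := hBS
      off := hoff
      min := by
        intro A hA hoA
        obtain ⟨a, ha, haL⟩ := SetLike.not_le_iff_exists.1 hoA.ne
        have h2 : (centralizer (B : Set G)).relIndex L ≤ (centralizer (A : Set G)).relIndex L := by
          rw [← inf_relIndex_left L (centralizer (B : Set G)), ← inf_relIndex_left L (centralizer (A : Set G))]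
          refine Subgroup.relIndex_le_of_le_left (le_inf inf_le_left fun v hv => ?_) (rne _ _)
          refine h1 ⟨hv.1, bh.mem_E_of_c (hLV hv.1) (hA ha) (fun hN => haL (hNC a (hA ha) hN)) ?_⟩
          rw [c_eq_one' (mem_centralizer_iff.1 hv.2 a ha).symm]
          exact one_mem _
        have h3 := relIndex_le_iff.1 hoA.le
        rw [heq, ← hidx]
        exact h2.trans h3 }
  have hrp := h.rp
  have hcard : Nat.card ↥(⁅L, B⁆ : Subgroup G) = F.relIndex (V ⊓ B) := by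
    rw [hrp.card B hmin, heq]
  refine ⟨hmin, ?_, by rw [hi1, hi2], hcard.ge⟩
  rw [eq_bot_iff]
  rintro y ⟨hy, hyF⟩
  have hwB : w ∉ centralizer (B : Set G) := fun h2 => hwE (h.cent_le_EE bh hI (hLV hw) h2)
  obtain ⟨b, hb, h2⟩ := hrp.surj B hmin w hw hwB y hy
  have h3 : c w b = y⁻¹ := by rw [← h2, c]; group
  have h4 : b ∈ NN V F := bh.mem_NN_of_c (hLV hw) hwE hb (by rw [h3]; exact inv_mem hyF)
  have h5 := mem_centralizer_iff.1 (hNC b hb h4) w hw
  rw [mem_bot, ← h2, ← h5]; group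

end Fv

end Cfsg.Agent.Omega.NO3S.SFive

end

section


/-!
# GammaFF (S5): the output `OutD` from the frame (helper75 #22081, cut #23010)

* `Fv.act_one` : `W_F ≤ S` moves `L`: `BetaFF.Act S P V F`;
* `Fv.out_of` : `OutD` from `[L ∩ E', B'] = 1` at the bad chamber and `C_E(b) ≤ I`, `b ∈ B - N`.
-/

set_option autoImplicit false
set_option linter.unusedSectionVars false

namespace Cfsg.Agent.Omega.NO3S.SFive

open Subgroup Cfsg Cfsg.Agent.ZN Cfsg.Agent.Omega.MinPar Cfsg.Agent.Omega.Frame Cfsg.Agent.Omega.FrameNOFF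
open Cfsg.Agent.Omega.NoFF.Basic (conj_conj mem_conj conj_le_iff comm_symm comm_mono)
open Cfsg.Agent.Omega.NOne.Flat (EE NN BadX EE_conj)
open Cfsg.Agent.Omega.FFThm (ElemM OffM NoOverM ConclM relIndex_le_iff)
open Cfsg.Agent.Omega.NOThreeL.NF (MinOffM RP)
open Cfsg.Agent.Omega.NOThreeL.Low.Key (BH)
open scoped Pointwise commutatorElement

universe u

variable {G : Type u} [Group G] [Finite G] {S : Sylow 2 G} {P V M F B : Subgroup G}

theorem relIndex_conj' (g : G) (A B : Subgroup G) :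
    (MulAut.conj g • A).relIndex (MulAut.conj g • B) = A.relIndex B := by
  rw [Subgroup.relIndex_pointwise_smul]

namespace Fv

variable (h : Fv S P V M F)
include h

theorem one_mem_DW (hWS : NOne.Flat.WW V F ≤ (S : Subgroup G)) : (1 : G) ∈ DW S V M F :=
  ⟨one_mem _, by rw [conj_one]; exact hWS⟩

theorem act_one (hWS : NOne.Flat.WW V F ≤ (S : Subgroup G))
    (hmov : ¬ NOne.Flat.WW V F ≤ centralizer (zl (S : Subgroup G) P : Set G)) : BetaFF.Act S P V F where
  char2 := h.ct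
  par := h.par
  cv := h.cvb
  hyp := h.toHyp
  PV := h.PM.trans h.MV
  LE := by
    have h1 := h.good_DW (h.one_mem_DW hWS)
    rwa [conj_one] at h1
  WS := hWS
  mov := hmov
  lines := by
    intro x hx
    have h1 := h.comm_DW (h.one_mem_DW hWS) (h.one_mem_DW hWS) hx
    rw [mul_one, conj_one] at h1
    exact le_centralizer_iff.1 h1

/-- **(0) of #22571** -/
theorem out_of' (hWS : NOne.Flat.WW V F ≤ (S : Subgroup G))
    (hmov : ¬ NOne.Flat.WW V F ≤ centralizer (zl (S : Subgroup G) P : Set G))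
    (gam : ∀ m ∈ M, BB S P V M (MulAut.conj m • F) ≤ (S : Subgroup G) →
      ¬ zl (S : Subgroup G) P ≤ EE V (MulAut.conj m • F) →
        zl (S : Subgroup G) P ⊓ EE V (MulAut.conj m • F) ≤
          centralizer ((BB S P V M (MulAut.conj m • F) : Subgroup G) : Set G))
    (four : ∀ b ∈ BB S P V M F, b ∉ NN V F → ∀ e ∈ EE V F, e * b = b * e → e ∈ BB S P V M F) :
    ∃ F' B s, OutD S P V M F F' B s := by
  have a := h.act_one hWS hmov
  have hLF : ¬ zl (S : Subgroup G) P ≤ F := by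
    intro h1
    exact hmov (NOne.Flat.Hyp.W_le_X.trans (centralizer_le h1))
  have ha : ∃ m ∈ DW S V M F, ¬ MulAut.conj m • zl (S : Subgroup G) P ≤ F :=
    ⟨1, h.one_mem_DW hWS, by rwa [conj_one]⟩
  have hI : ¬ V ⊓ BB S P V M F ≤ F := h.not_le_F ha le_rfl
  have hLB : zl (S : Subgroup G) P ≤ BB S P V M F := by
    have h1 := le_BL' (S := S) (P := P) (F := F) (h.one_mem_DW hWS)
    rwa [conj_one] at h1
  obtain ⟨m, hm, hBS, hBm, hUE⟩ := h.exists_bad ha
  have hg := gam m hm hBS hUE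
  have h' := h.conj hm
  have hI' : ¬ V ⊓ BB S P V M (MulAut.conj m • F) ≤ MulAut.conj m • F := h'.not_le_F (h.act_conj hm ha) le_rfl
  obtain ⟨h1, h2, h3, h4⟩ := h'.gam_of h'.bh h'.sq_BB hBS hUE hI' hg
  obtain ⟨h5, h6⟩ := h'.idx h'.bh h'.sq_BB hBS hUE hI'
  have e1 : (EE V (MulAut.conj m • F)).relIndex V = (EE V F).relIndex V := by
    have h7 := relIndex_conj' m (EE V F) V
    rwa [h.conj_V hm, EE_conj (h.MV hm)] at h7
  have e2 : (MulAut.conj m • F).relIndex (V ⊓ MulAut.conj m • BB S P V M F) = F.relIndex (V ⊓ BB S P V M F) := by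
    have h7 := relIndex_conj' m F (V ⊓ BB S P V M F)
    rwa [Subgroup.smul_inf, h.conj_V hm] at h7
  rw [h.BB_conj hm] at hBS hg h1 h2 h4 h6
  have hkey : F.relIndex (V ⊓ BB S P V M F) = (EE V F).relIndex V := by
    rw [← e1, ← e2, h6]
  refine ⟨_, _, _, out_of h.MV a h.noOver h.rp h.bh hLB hkey.le four hm hBS h1 hg h2 h3 ?_⟩
  rw [← e2]
  exact h4

end Fv

end Cfsg.Agent.Omega.NO3S.SFive

end

section


/-!
# GammaFF (S5): `[L ∩ E, B] = 1` at a bad chamber (helper75 #22081 (2), cut #23010)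

* `Fv.rho` : the centre `ρ = [E, b]` of `W`, `|ρ| = |[L, A]|` for the minimal offenders `A ≤ S` on `L`;
* `Fv.rho_le` : `[L ∩ E, B] ≠ 1` ⟹ `ρ ≤ L`; `Fv.comm_le` : then `[V, B] ≤ L`.
-/

set_option autoImplicit false
set_option linter.unusedSectionVars false

namespace Cfsg.Agent.Omega.NO3S.SFive

open Subgroup Cfsg Cfsg.Agent.ZN Cfsg.Agent.Omega.MinPar Cfsg.Agent.Omega.Frame Cfsg.Agent.Omega.FrameNOFF
open Cfsg.Agent.Omega.NoFF.Basic (conj_conj mem_conj conj_le_iff comm_symm comm_mono)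
open Cfsg.Agent.Omega.NOne.Flat (EE NN BadX EE_conj WW_conj)
open Cfsg.Agent.Omega.NOne.NearFF (c c_def)
open Cfsg.Agent.Omega.FFThm (ElemM OffM NoOverM ConclM relIndex_le_iff NatKM SymKM)
open Cfsg.Agent.Omega.NOThreeL.NF (MinOffM RP)
open Cfsg.Agent.Omega.NOThreeL.Low.Key (BH c_eq_one' comm_of_c)
open scoped Pointwise commutatorElement

universe u

variable {G : Type u} [Group G] [Finite G] {S : Sylow 2 G} {P V M F B : Subgroup G}

theorem card_conj' (g : G) (A : Subgroup G) : Nat.card ↥(MulAut.conj g • A : Subgroup G) = Nat.card A :=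
  (Nat.card_congr (A.equivMapOfInjective _ (MulAut.conj g).injective).toEquiv).symm

theorem relIndex_conj'' (g : G) (A C : Subgroup G) :
    (MulAut.conj g • A).relIndex (MulAut.conj g • C) = A.relIndex C := by
  rw [Subgroup.relIndex_pointwise_smul]

namespace Fv

variable (h : Fv S P V M F)
include h

theorem root (bh : BH V F B) (hI : ¬ V ⊓ B ≤ F) (hle : F.relIndex (V ⊓ B) ≤ (EE V F).relIndex V) :
    Pas.Root V F (V ⊓ B) := by
  obtain ⟨b, hb, hbN⟩ := bh.exists_not_mem_NN hI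
  intro r hr hrF r' hr' hrF' s hs
  obtain ⟨e, he, h1⟩ := (bh.root hle hr hrF hb hbN (c r s)).1 ⟨s, hs, rfl⟩
  exact (bh.root hle hr' hrF' hb hbN (c r s)).2 ⟨e, he, h1⟩

/-- **The centre `ρ`.** -/
theorem rho (bh : BH V F B) (hle : F.relIndex (V ⊓ B) ≤ (EE V F).relIndex V)
    (ha : ∃ m ∈ M, NOne.Flat.WW V F ≤ MulAut.conj m • (S : Subgroup G) ∧
      MulAut.conj m • zl (S : Subgroup G) P ≤ B ∧ ¬ MulAut.conj m • zl (S : Subgroup G) P ≤ F) :
    ∃ ρ : Subgroup G, (∀ e ∈ EE V F, ∀ b ∈ B, c e b ∈ ρ) ∧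
      (∃ A, MinOffM (zl (S : Subgroup G) P) (S : Subgroup G) A ∧
        Nat.card ρ = Nat.card ↥(⁅zl (S : Subgroup G) P, A⁆ : Subgroup G)) ∧ Nat.card ρ ≤ F.relIndex (V ⊓ B) := by
  obtain ⟨m, hm, hW, hLB, hLF⟩ := ha
  set L := zl (S : Subgroup G) P with hL
  have hmi := inv_mem hm
  have hmV := h.MV hmi
  have h' := h.conj hmi
  have hLI : MulAut.conj m • L ≤ V ⊓ B := le_inf (h.conjLV hm) hLB
  have hI : ¬ V ⊓ B ≤ F := fun h1 => hLF (hLI.trans h1)
  have hroot := h.root bh hI hle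
  have hroot' := hroot.conj hmV
  -- `W' = W^(m⁻¹) ≤ S`
  have hW' : NOne.Flat.WW V (MulAut.conj m⁻¹ • F) ≤ (S : Subgroup G) := by
    rw [← WW_conj hmV]
    have h1 := (conj_le_iff (g := m⁻¹)).2 hW
    rwa [conj_conj, inv_mul_cancel, conj_one] at h1
  have hLI' : L ≤ MulAut.conj m⁻¹ • (V ⊓ B) := by
    have h1 := (conj_le_iff (g := m⁻¹)).2 hLI
    rwa [conj_conj, inv_mul_cancel, conj_one] at h1
  have hIE' : MulAut.conj m⁻¹ • (V ⊓ B) ≤ EE V (MulAut.conj m⁻¹ • F) := by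
    rw [← EE_conj hmV]
    exact conj_le_iff.2 bh.I_le_E
  have hLF' : ¬ L ≤ MulAut.conj m⁻¹ • F := by
    intro h1
    apply hLF
    have h2 := (conj_le_iff (g := m)).2 h1
    rwa [conj_conj, mul_inv_cancel, conj_one] at h2
  have hmov : ¬ NOne.Flat.WW V (MulAut.conj m⁻¹ • F) ≤ centralizer (L : Set G) := by
    intro h1
    apply hLF'
    rw [← h'.toHyp.cent_VW]
    exact le_inf h.LV (le_centralizer_iff.1 h1)
  have hmin := Pas.minOff_of_root h.ct h.par h.cvb h.concl h'.toHyp hroot' hIE' hLI' hW' hmov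
  refine ⟨MulAut.conj m • ⁅L, NOne.Flat.WW V (MulAut.conj m⁻¹ • F)⁆, ?_, ⟨_, hmin, card_conj' _ _⟩, ?_⟩
  · intro e he b hb
    by_cases hbN : b ∈ NN V F
    · rw [c_eq_one' (mem_centralizer_iff.1 hbN.2 e he)]
      exact one_mem _
    · obtain ⟨v, hv, hvF⟩ := SetLike.not_le_iff_exists.1 hLF'
      have hr : m * v * m⁻¹ ∈ V ⊓ B := by
        refine hLI ?_
        rw [mem_conj]
        have e1 : m⁻¹ * (m * v * m⁻¹) * m = v := by group
        rwa [e1]
      have hrF : m * v * m⁻¹ ∉ F := by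
        intro h1
        apply hvF
        rw [mem_conj, inv_inv]
        exact h1
      obtain ⟨s, hs, h1⟩ := (bh.root hle hr hrF hb hbN (c e b)).2 ⟨e, he, rfl⟩
      rw [← h1, mem_conj]
      have hs' : m⁻¹ * s * m ∈ NOne.Flat.WW V (MulAut.conj m⁻¹ • F) := by
        rw [← WW_conj hmV, mem_conj, inv_inv]
        have e1 : m * (m⁻¹ * s * m) * m⁻¹ = s := by group
        rwa [e1]
      have e1 : m⁻¹ * c (m * v * m⁻¹) s * m = ⁅v, m⁻¹ * s * m⁆ := by
        rw [c, commutatorElement_def]; group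
      rw [e1]
      exact commutator_mem_commutator hv hs'
  · rw [card_conj', h.rp.card _ hmin]
    have h1 := relIndex_le_iff.1 (h.noOver _ (hW'.trans h.SP) hmin.off.toElemM)
    refine h1.trans ?_
    have h2 : (centralizer (NOne.Flat.WW V (MulAut.conj m⁻¹ • F) : Set G)).relIndex L ≤
        (MulAut.conj m⁻¹ • F).relIndex L := by
      rw [← inf_relIndex_left L (centralizer _), ← inf_relIndex_left L (MulAut.conj m⁻¹ • F)]
      refine Subgroup.relIndex_le_of_le_left (le_inf inf_le_left fun x hx => ?_) (rne _ _)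
      have h3 : x ∈ V ⊓ centralizer (NOne.Flat.WW V (MulAut.conj m⁻¹ • F) : Set G) := by
        rw [h'.toHyp.cent_VW]
        exact hx.2
      exact h3.2
    refine h2.trans ((Subgroup.relIndex_le_of_le_right hLI' (rne _ _)).trans ?_)
    rw [relIndex_conj'']

/-- `[L ∩ E, B] ≠ 1` ⟹ `ρ ≤ L` -/
theorem rho_le (bh : BH V F B) (hsq : ∀ b ∈ B, b ^ 2 = 1) (hBS : B ≤ (S : Subgroup G))
    (hUE : ¬ zl (S : Subgroup G) P ≤ EE V F) {ρ : Subgroup G} (hρ : ∀ e ∈ EE V F, ∀ b ∈ B, c e b ∈ ρ)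
    (hA : ∃ A, MinOffM (zl (S : Subgroup G) P) (S : Subgroup G) A ∧
        Nat.card ρ = Nat.card ↥(⁅zl (S : Subgroup G) P, A⁆ : Subgroup G))
    (hρi : Nat.card ρ ≤ F.relIndex (V ⊓ B))
    (hne : ¬ zl (S : Subgroup G) P ⊓ EE V F ≤ centralizer (B : Set G)) : ρ ≤ zl (S : Subgroup G) P := by
  obtain ⟨A, hA, hAc⟩ := hA
  -- the case `|ρ| = 2`
  have two : Nat.card ρ = 2 → ρ ≤ zl (S : Subgroup G) P := by
    intro h2
    obtain ⟨e, he, heB⟩ := SetLike.not_le_iff_exists.1 hne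
    obtain ⟨b, hb, hbe⟩ : ∃ b ∈ B, c e b ≠ 1 := by
      by_contra hall
      push Not at hall
      apply heB
      rw [mem_centralizer_iff]
      exact fun b hb => (comm_of_c (hall b hb)).symm
    have h3 := hρ e he.2 b hb
    have h4 : c e b ∈ zl (S : Subgroup G) P := by
      have h5 := (mem_normalizer_iff.1 (h.SL (hBS hb)) e⁻¹).1 (inv_mem he.1)
      have e1 : c e b = e * (b * e⁻¹ * b⁻¹) := by rw [c]; group
      rw [e1]
      exact mul_mem he.1 h5
    have h6 : 2 ≤ Nat.card ↥(zpowers (c e b)) := by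
      rw [Nat.card_zpowers]
      have h7 := orderOf_pos (c e b)
      have h8 : orderOf (c e b) ≠ 1 := fun h9 => hbe (orderOf_eq_one_iff.1 h9)
      omega
    have h7 : zpowers (c e b) = ρ := Subgroup.eq_of_le_of_card_ge (zpowers_le.2 h3) (by rw [h2]; exact h6)
    rw [← h7]
    exact zpowers_le.2 h4
  rcases h.tpL with ⟨K, fK, fiK, cK, k, hk, ⟨N⟩⟩ | ⟨k, m, hk, hm, ⟨N⟩⟩
  · obtain ⟨i, hr⟩ := NOThreeL.NF.NatR.Rt.of (M := N) h.PL h.SP hA
    have h1 : Nat.card ρ = Nat.card K := by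
      rw [hAc, hr.comm_eq h.PL h.SP, NOThreeL.NF.NatR.card_ln]
    by_cases hK : 4 ≤ Nat.card K
    · exact Cfsg.Agent.Omega.NO3S.SFive.alpha hK N h.ct h.par bh hsq hBS h.LV hUE (h1 ▸ hρi) hρ h1.le hne
    · refine two ?_
      rcases card_field' (F := K) with h5 | h5
      · rw [h1, h5]
      · exact absurd h5 hK
  · refine two ?_
    have hAm := Half.amb_of_loc h.ct S h.par.isLoc
    obtain ⟨-, h2⟩ := NOThreeL.NF.SymRP.exists_ad N hAm (by omega) hA
    rw [hAc, h.rp.card A hA, h2]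

/-- `[L ∩ E, B] ≠ 1` ⟹ `[V, B] ≤ L` -/
theorem comm_le (bh : BH V F B) (hsq : ∀ b ∈ B, b ^ 2 = 1) (hBS : B ≤ (S : Subgroup G))
    (hUE : ¬ zl (S : Subgroup G) P ≤ EE V F)
    (ha : ∃ m ∈ M, NOne.Flat.WW V F ≤ MulAut.conj m • (S : Subgroup G) ∧
      MulAut.conj m • zl (S : Subgroup G) P ≤ B ∧ ¬ MulAut.conj m • zl (S : Subgroup G) P ≤ F)
    (hne : ¬ zl (S : Subgroup G) P ⊓ EE V F ≤ centralizer (B : Set G)) :
    ∀ v ∈ V, ∀ b ∈ B, c v b ∈ zl (S : Subgroup G) P := by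
  have hI : ¬ V ⊓ B ≤ F := by
    obtain ⟨m, hm, -, h1, h2⟩ := ha
    exact fun h3 => h2 ((le_inf (h.conjLV hm) h1).trans h3)
  obtain ⟨hi1, hi2⟩ := h.idx bh hsq hBS hUE hI
  obtain ⟨ρ, hρ, hA, hρi⟩ := h.rho bh hi2.ge ha
  have hle := h.rho_le bh hsq hBS hUE hρ hA hρi hne
  intro v hv b hb
  -- `v = l e`
  have hV : ∃ l ∈ zl (S : Subgroup G) P, l⁻¹ * v ∈ EE V F := by
    have hcos : NOne.Flat.Cos id (zl (S : Subgroup G) P) (EE V F) V (EE V F) :=
      ⟨fun u hu => h.LV hu, fun u _ u' _ => Iff.rfl⟩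
    exact hcos.surj (by rw [hi1, hi2]) hv
  obtain ⟨l, hl, hle'⟩ := hV
  have e1 : v = l * (l⁻¹ * v) := by group
  rw [e1, h.toHyp.c_mul_left (h.LV hl) hle'.1 (bh.le_W hb)]
  refine mul_mem ?_ (hle (hρ _ hle' b hb))
  have h5 := (mem_normalizer_iff.1 (h.SL (hBS hb)) l⁻¹).1 (inv_mem hl)
  have e2 : c l b = l * (b * l⁻¹ * b⁻¹) := by rw [c]; group
  rw [e2]
  exact mul_mem hl h5

end Fv

end Cfsg.Agent.Omega.NO3S.SFive

end

section


/-!
# GammaFF (S5): `[V, B] ≤ L` is impossible (helper31, (A2); LEMMA (PB) of helper422 #22571)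

* `Fv.not_VB` : for `B ≤ S`, `B` not centralising `L`: not all `c v b`, `v ∈ V`, `b ∈ B`, lie in `L`.

All types of `L`, any number of blocks.  `trv V ∩ S ≰ O₂(P)`, so `O²(P) ≤ trv V`; then `pbN` with
`D = O²(P) ∩ (the elements acting on one block only)`.
-/

set_option autoImplicit false
set_option linter.unusedSectionVars false

namespace Cfsg.Agent.Omega.NO3S.SFive

open Subgroup Cfsg Cfsg.Agent.ZN Cfsg.Agent.Omega.MinPar Cfsg.Agent.Omega.Frame Cfsg.Agent.Omega.FrameNOFF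
open Cfsg.Agent.Omega.FFThm (ElemM OffM NoOverM ConclM NatK NatKM SymK SymKM)
open Cfsg.Agent.MinSimple.VModule (oddGen mem_oddGen oddGen_le oddGen_le_of_sup le_normalizer_oddGen)
open scoped Pointwise commutatorElement

universe u

/-! ### Odd powers -/

section odd

theorem exists_odd_pow {G : Type*} [Group G] [Finite G] (g : G) : ∃ n : ℕ, Odd (orderOf (g ^ 4 ^ n)) := by
  obtain ⟨a, m, hm, h⟩ := Nat.exists_eq_two_pow_mul_odd (orderOf_pos g).ne'
  refine ⟨a, Odd.of_dvd_nat hm (orderOf_dvd_of_pow_eq_one ?_)⟩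
  have e : 4 ^ a * m = orderOf g * 2 ^ a := by
    rw [h, show (4 : ℕ) = 2 * 2 from rfl, mul_pow]; ring
  rw [← pow_mul, e, pow_mul, pow_orderOf_eq_one, one_pow]

theorem pow_four_pow {H : Type*} [Monoid H] {T : H} (hT : T ^ 3 = 1) (n : ℕ) : T ^ 4 ^ n = T := by
  induction n with
  | zero => rw [pow_zero, pow_one]
  | succ n ih =>
    rw [pow_succ, pow_mul, ih]
    calc T ^ 4 = T ^ 3 * T := pow_succ T 3
      _ = T := by rw [hT, one_mul]

end odd

/-! ### Natural modules -/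

namespace NatVB

open Cfsg.Agent.ZN.ChoiceBase
open Cfsg.Agent.Omega.Half (Amb)
open Cfsg.Agent.Omega.Half.NatA (fac mem_fac Mv Mv.conj Mv.inv Mv.unique)
open Cfsg.Agent.Omega.NOThreeL.NF.NatR
open Cfsg.Agent.Omega.NatPair (ap ap_mul ap_one ap_inv_ap ap_zero' ap_one' ext2 exists_ap dt)
open Cfsg.Agent.Omega.NO1.NSix (em em_mem e_em_self e_em_ne em_fac em_eq mem_of_em)
open Cfsg.Agent.Lib.SL2Mat
open NatD

section field

variable {F : Type} [Field F]

theorem pow_three_of_trace (X : Matrix.SpecialLinearGroup (Fin 2) F) (h : ent X 0 0 + ent X 1 1 = -1) : X ^ 3 = 1 := by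
  have hd := det_eq X
  rw [pow_succ, pow_two]
  apply ext_ent
  · simp only [ent_mul, ent_one_00]
    linear_combination ((ent X 0 0 + ent X 1 1 - 1) * ent X 0 0 - (ent X 0 0 * ent X 1 1 - ent X 0 1 * ent X 1 0)) * h +
      (1 - ent X 0 0) * hd
  · simp only [ent_mul, ent_one_01]
    linear_combination ((ent X 0 0 + ent X 1 1 - 1) * ent X 0 1) * h - ent X 0 1 * hd
  · simp only [ent_mul, ent_one_10]
    linear_combination ((ent X 0 0 + ent X 1 1 - 1) * ent X 1 0) * h - ent X 1 0 * hd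
  · simp only [ent_mul, ent_one_11]
    linear_combination ((ent X 0 0 + ent X 1 1 - 1) * ent X 1 1 - (ent X 0 0 * ent X 1 1 - ent X 0 1 * ent X 1 0)) * h +
      (1 - ent X 1 1) * hd

/-- an element of order 3 with `x ↦ y` -/
theorem exists_three_ap {x y : Fin 2 → F} (h : dt x y ≠ 0) :
    ∃ T : Matrix.SpecialLinearGroup (Fin 2) F, T ^ 3 = 1 ∧ ap T x = y := by
  obtain ⟨c, hc⟩ : ∃ c, c * dt x y = 1 := ⟨(dt x y)⁻¹, inv_mul_cancel₀ h⟩
  unfold dt at hc
  refine ⟨mk (c * (y 1 * y 0 + x 1 * (x 0 + y 0))) (-(c * (y 0 * y 0 + x 0 * (x 0 + y 0))))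
    (c * (y 1 * y 1 + x 1 * (x 1 + y 1))) (-(c * (y 0 * y 1 + x 0 * (x 1 + y 1)))) ?_, ?_, ?_⟩
  · linear_combination (c * (x 0 * y 1 - x 1 * y 0) + 1) * hc
  · apply pow_three_of_trace
    rw [mk_00, mk_11]
    linear_combination -hc
  · apply ext2
    · rw [ap_zero', mk_00, mk_01]
      linear_combination (y 0) * hc
    · rw [ap_one', mk_10, mk_11]
      linear_combination (y 1) * hc

end field

section grp

variable {G : Type u} [Group G] {F : Type} [Field F] {S P W : Subgroup G} {k : ℕ} {M : NatKM F S P W ⊥ k}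
  {hPW : P ≤ normalizer (W : Set G)} {j : Fin k}

theorem ac_pow {g : G} {X : Matrix.SpecialLinearGroup (Fin 2) F} (hPW : P ≤ normalizer (W : Set G)) (hg : g ∈ P)
    (h : Ac M g (Pi.mulSingle j X)) (n : ℕ) : Ac M (g ^ n) (Pi.mulSingle j (X ^ n)) := by
  induction n with
  | zero =>
    rw [pow_zero, pow_zero, Pi.mulSingle_one]
    exact ac_one (one_mem _)
  | succ n ih =>
    rw [pow_succ, pow_succ, Pi.mulSingle_mul]
    exact Ac.mul hPW hg ih h

/-- an element of order 3 of `SL₂(F)` is induced by an element of odd order -/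
theorem exists_odd_ac [Finite G] (hPW : P ≤ normalizer (W : Set G)) {T : Matrix.SpecialLinearGroup (Fin 2) F}
    (hT : T ^ 3 = 1) : ∃ g ∈ oneG M hPW j ⊓ oddGen P, Ac M g (Pi.mulSingle j T) := by
  obtain ⟨g, hg, hac⟩ := lift_ac (M := M) (Pi.mulSingle j T)
  obtain ⟨n, hn⟩ := exists_odd_pow g
  have h1 := ac_pow hPW hg hac (4 ^ n)
  rw [pow_four_pow hT] at h1
  have h2 : g ^ 4 ^ n ∈ P := pow_mem hg _
  exact ⟨g ^ 4 ^ n, mem_inf.2 ⟨⟨h2, T, h1⟩, mem_oddGen h2 hn⟩, h1⟩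

/-- `O²(P) ∩ oneG j` is irreducible on the block `j`. -/
theorem irr [Finite G] {U : Subgroup G} (hU : U ≤ fac M.toNatK {j}) (hne : U ≠ ⊥)
    (hn : oneG M hPW j ⊓ oddGen P ≤ normalizer (U : Set G)) : fac M.toNatK {j} ≤ U := by
  obtain ⟨⟨u, hu⟩, hu1'⟩ := U.ne_bot_iff_exists_ne_one.1 hne
  have hu1 : u ≠ 1 := fun h1 => hu1' (Subtype.ext h1)
  have huW : u ∈ W := (hU hu).1
  have hx : M.e u j ≠ 0 := by
    intro h0
    apply hu1
    refine e_inj (M := M) huW (one_mem _) ?_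
    rw [e_one]
    funext i
    by_cases hi : i = j
    · rw [hi, h0]; rfl
    · exact (hU hu).2 i hi
  have step : ∀ w ∈ U, ∀ y : Fin 2 → F, dt (M.e w j) y ≠ 0 → em M.toNatK j y ∈ U := by
    intro w hw y hy
    have hwW : w ∈ W := (hU hw).1
    obtain ⟨T, hT, hTy⟩ := exists_three_ap hy
    obtain ⟨g, hg, hac⟩ := exists_odd_ac (M := M) (j := j) hPW hT
    have h1 : g * w * g⁻¹ ∈ U := (mem_normalizer_iff.1 (hn hg) w).1 hw
    have h2 : em M.toNatK j y = g * w * g⁻¹ := by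
      refine e_inj (M := M) (em_mem _ _ _) (hU h1).1 ?_
      funext i
      by_cases hi : i = j
      · subst hi
        rw [ac_self hac hwW, hTy]
        exact e_em_self _ _ _
      · rw [ac_other hac hwW hi, (hU hw).2 i hi]
        exact e_em_ne _ hi _
    rw [h2]; exact h1
  have all : ∀ y : Fin 2 → F, y ≠ 0 → em M.toNatK j y ∈ U := by
    intro y hy
    obtain ⟨z, hz1, hz2⟩ := NatD.exists_third hx hy
    have h1 := step u hu z hz1
    refine step _ h1 y ?_
    have e : M.e (em M.toNatK j z) j = z := e_em_self _ _ _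
    rwa [e]
  intro v hv
  by_cases h0 : M.e v j = 0
  · have : v = 1 := by
      refine e_inj (M := M) hv.1 (one_mem _) ?_
      rw [e_one]
      funext i
      by_cases hi : i = j
      · rw [hi, h0]; rfl
      · exact hv.2 i hi
    rw [this]; exact one_mem _
  · have h1 := all _ h0
    have h2 := em_eq M.toNatK hv.1 (i := j) fun i hi => hv.2 i hi
    rwa [h2] at h1

theorem nt [Finite G] : ¬ oneG M hPW j ⊓ oddGen P ≤ centralizer (fac M.toNatK {j} : Set G) := by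
  intro hc
  have h01 : dt (![1, 0] : Fin 2 → F) ![0, 1] ≠ 0 := by simp [dt]
  obtain ⟨T, hT, hTy⟩ := exists_three_ap h01
  obtain ⟨g, hg, hac⟩ := exists_odd_ac (M := M) (j := j) hPW hT
  have hvN : em M.toNatK j ![1, 0] ∈ fac M.toNatK {j} := em_fac _ _ _
  have hve : M.e (em M.toNatK j ![1, 0]) j = ![1, 0] := e_em_self _ _ _
  have h1 := mem_centralizer_iff.1 (hc hg) _ hvN
  have h2 := ac_self hac hvN.1
  rw [← h1, mul_inv_cancel_right, hve, hTy] at h2
  have h3 := congrFun h2 0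
  exact one_ne_zero h3

theorem dis (hA : Amb S P W) {p : G} (hp : p ∈ P) :
    MulAut.conj p • fac M.toNatK {j} = fac M.toNatK {j} ∨
      oneG M hPW j ⊓ oddGen P ≤ centralizer ((MulAut.conj p • fac M.toNatK {j} : Subgroup G) : Set G) := by
  obtain ⟨σ, hσ⟩ := M.perm p hp
  rw [exists_conj_fac hA hp hσ]
  by_cases h1 : σ j = j
  · left; rw [h1]
  · right
    exact inf_le_left.trans (le_centralizer_iff.1 fun v hv => cent_oneG hv.1 (hv.2 j fun h => h1 h.symm))

theorem gen (hA : Amb S P W) (j : Fin k) : W ≤ ⨆ p : P, MulAut.conj (p : G) • fac M.toNatK {j} := by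
  intro v hv
  refine mem_of_em M.toNatK hv fun i => ?_
  obtain ⟨s, hs, hsi⟩ := M.trans j i
  obtain ⟨σ, hσ⟩ := M.perm s (hA.TH hs)
  have h1 : σ j = i := Mv.unique M.toNatK hA hσ (hA.TH hs) hsi
  have h2 := exists_conj_fac hA (hA.TH hs) hσ j
  rw [h1] at h2
  have h3 : em M.toNatK i (M.e v i) ∈ fac M.toNatK {i} := em_fac _ _ _
  rw [← h2] at h3
  exact (le_iSup (fun p : P => MulAut.conj (p : G) • fac M.toNatK {j}) ⟨s, hA.TH hs⟩) h3

end grp

end NatVB

/-! ### Even-subset blocks -/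

namespace SymVB

open Cfsg.Agent.ZN.ChoiceBase
open Cfsg.Agent.Omega.Half (Amb)
open Cfsg.Agent.Omega.Half.SymA
open Cfsg.Agent.Omega.NOThreeL.NF.SymRP
open TyS
open scoped Classical

variable {G : Type u} [Group G] {T H V : Subgroup G} {k m : ℕ} {M : SymK T H V ⊥ k m} (hA : Amb T H V)

theorem tc_three {a b c : Pt k m} (hab : a ≠ b) (hbc : b ≠ c) (hac : a ≠ c) :
    (Equiv.swap a b * Equiv.swap b c) ^ 3 = 1 := by
  have h1 := Equiv.Perm.isThreeCycle_swap_mul_swap_same hab.symm hbc hac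
  rw [Equiv.swap_comm b a] at h1
  rw [← h1.orderOf, pow_orderOf_eq_one]

include hA

theorem mv_pow {g : G} {π : Equiv.Perm (Pt k m)} (hg : g ∈ H) (h : Mv M g π) (n : ℕ) : Mv M (g ^ n) (π ^ n) := by
  induction n with
  | zero =>
    rw [pow_zero, pow_zero]
    exact Mv_one M
  | succ n ih =>
    rw [pow_succ, pow_succ]
    exact ih.mul hA h hg

/-- 3-cycles are induced by elements of odd order -/
theorem exists_odd_tc [Finite G] {j : Fin k} {a b c : Pt k m} (ha : a.1 = j) (hb : b.1 = j) (hc : c.1 = j)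
    (hab : a ≠ b) (hbc : b ≠ c) (hac : a ≠ c) :
    ∃ g ∈ Ab M hA j ⊓ oddGen H, Mv M g (Equiv.swap a b * Equiv.swap b c) := by
  obtain ⟨s, hs, hs1⟩ := exists_swap (M := M) (p := a) (q := b) (ha.trans hb.symm)
  obtain ⟨t, ht, ht1⟩ := exists_swap (M := M) (p := b) (q := c) (hb.trans hc.symm)
  have h0 : s * t ∈ H := mul_mem hs ht
  have h1 := hs1.mul hA ht1 ht
  obtain ⟨n, hn⟩ := exists_odd_pow (s * t)
  have h2 := mv_pow hA h0 h1 (4 ^ n)
  rw [pow_four_pow (tc_three hab hbc hac)] at h2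
  have h3 : (s * t) ^ 4 ^ n ∈ H := pow_mem h0 _
  refine ⟨(s * t) ^ 4 ^ n, mem_inf.2 ⟨⟨h3, _, h2, fun r hr => ?_⟩, mem_oddGen h3 hn⟩, h2⟩
  refine tc_ne ?_ ?_ ?_
  · rintro rfl; exact hr ha
  · rintro rfl; exact hr hb
  · rintro rfl; exact hr hc

theorem irr [Finite G] (hm : 2 ≤ m) {j : Fin k} {U : Subgroup G} (hU : U ≤ blk M j) (hne : U ≠ ⊥)
    (hn : Ab M hA j ⊓ oddGen H ≤ normalizer (U : Set G)) : blk M j ≤ U :=
  blk_le_of_tc hA hm hU hne (inf_le_right.trans (oddGen_le H)) hn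
    fun _ _ _ ha hb hc hab hbc hac => exists_odd_tc hA ha hb hc hab hbc hac

theorem nt [Finite G] (hm : 2 ≤ m) {j : Fin k} : ¬ Ab M hA j ⊓ oddGen H ≤ centralizer (blk M j : Set G) := by
  intro hcon
  obtain ⟨y, z, hyz, ⟨hy1, -, -⟩, hz1, -, -⟩ := exists_two hm 0 0 0
  obtain ⟨c, hc⟩ := exists_isC (M := M) (p := (j, 0)) (q := (j, y)) rfl
  have n1 : ((j, 0) : Pt k m) ≠ (j, y) := fun h => hy1 (congrArg Prod.snd h).symm
  have n2 : ((j, y) : Pt k m) ≠ (j, z) := fun h => hyz (congrArg Prod.snd h)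
  have n3 : ((j, 0) : Pt k m) ≠ (j, z) := fun h => hz1 (congrArg Prod.snd h).symm
  obtain ⟨g, hg, hg1⟩ := exists_odd_tc (M := M) hA (j := j) (a := (j, 0)) (b := (j, y)) (c := (j, z)) rfl rfl rfl n1 n2 n3
  have h1 := mem_centralizer_iff.1 (hcon hg) c (pair_mem_blk (j := j) (a := (j, 0)) (b := (j, y)) rfl rfl hc)
  have h2 := hg1 c hc.1 (j, z)
  rw [← h1, mul_inv_cancel_right, tc_c, hc.left n1, hc.zero n3.symm n2.symm] at h2
  exact one_ne_zero h2

theorem dis (hm : 1 ≤ m) {j : Fin k} {p : G} (hp : p ∈ H) :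
    MulAut.conj p • blk M j = blk M j ∨
      Ab M hA j ⊓ oddGen H ≤ centralizer ((MulAut.conj p • blk M j : Subgroup G) : Set G) := by
  obtain ⟨π, hπ, -⟩ := exists_mv (M := M) hp
  have h0 := smul_blk hA hm hp hπ ((j, 0) : Pt k m)
  change MulAut.conj p • blk M j = _ at h0
  rw [h0]
  by_cases hj : (π (j, 0)).1 = j
  · left; rw [hj]
  · right
    exact inf_le_left.trans (ab_cent hA hj)

end SymVB

/-! ### The theorem -/

variable {G : Type u} [Group G] [Finite G] {S : Sylow 2 G} {P V M F : Subgroup G}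

namespace Fv

variable (h : Fv S P V M F)
include h

/-- if `[V, B] ≤ L`, `B` not centralising `L`, then `[V, O²(P)] ≤ L` -/
theorem oddGen_le_trv {B : Subgroup G} (hBS : B ≤ (S : Subgroup G))
    (hBL : ¬ B ≤ centralizer (zl (S : Subgroup G) P : Set G))
    (hc : ∀ v ∈ V, ∀ b ∈ B, NOne.NearFF.c v b ∈ zl (S : Subgroup G) P) : oddGen P ≤ trv h.PL V := by
  have hBt : B ≤ trv h.PL V := by
    intro b hb
    refine ⟨h.SP (hBS hb), fun v hv => ?_⟩
    have h1 := inv_mem (hc v hv b hb)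
    have e : (NOne.NearFF.c v b)⁻¹ = ph v b := by simp only [ph, NOne.NearFF.c_def]; group
    rwa [e] at h1
  have hn : P ≤ normalizer (trv h.PL V : Set G) := by
    refine le_normalizer_of' fun p hp r hr => ⟨mul_mem (mul_mem hp hr.1) (inv_mem hp), fun v hv => ?_⟩
    have h1 : p⁻¹ * v * p ∈ V := by
      have h2 := (mem_normalizer_iff.1 (h.MV (h.PM (inv_mem hp))) v).1 hv
      rwa [inv_inv] at h2
    have h2 := (mem_normalizer_iff.1 (h.PL hp) _).1 (hr.2 _ h1)
    have e : p * ph (p⁻¹ * v * p) r * p⁻¹ = ph v (p * r * p⁻¹) := by simp only [ph]; group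
    rwa [e] at h2
  have hle : trv h.PL V ≤ P := fun r hr => hr.1
  rcases h.par.toIsPar.sup_eq_or_inf_le S hle hn with h1 | h1
  · exact oddGen_le_of_sup hn h1.ge h.SP hle S.isPGroup'
  · exfalso
    refine hBL fun b hb => ?_
    have h2 : b ∈ o2 P := h1 (mem_inf.2 ⟨hBS hb, hBt hb⟩)
    rw [← h.par.inf_centralizer S h.ct] at h2
    exact (mem_inf.1 h2).2

/-- every nontrivial `P`-invariant subgroup of `V` meets `L` -/
theorem inf_zl_ne {U : Subgroup G} (hU : U ≤ V) (hne : U ≠ ⊥) (hPU : P ≤ normalizer (U : Set G)) :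
    U ⊓ zl (S : Subgroup G) P ≠ ⊥ := by
  obtain ⟨x, hx, hx1, hxf⟩ := NOThreeL.AdjTransv.exists_fixed (S := (S : Subgroup G)) (N := U) S.isPGroup' hne
    (fun n hn => by rw [← pow_two]; exact h.sq_V (hU hn))
    (fun s hs n hn => (mem_normalizer_iff.1 (hPU (h.SP hs)) n).1 hn)
  have h1 : x ∈ zc (S : Subgroup G) := MinSimple.VModule.mem_zc.2
    ⟨h.VS (hU hx), fun s hs => mul_inv_eq_iff_eq_mul.1 (hxf s hs), h.sq_V (hU hx)⟩
  intro h2
  have h3 : x ∈ U ⊓ zl (S : Subgroup G) P := mem_inf.2 ⟨hx, MinSimple.VModule.zc_le_zl _ _ h1⟩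
  rw [h2, mem_bot] at h3
  exact hx1 h3

theorem block_false (ht : oddGen P ≤ trv h.PL V) {D N : Subgroup G} (hD : D ≤ oddGen P)
    (hNL : N ≤ zl (S : Subgroup G) P) (hgen : zl (S : Subgroup G) P ≤ ⨆ p : P, MulAut.conj (p : G) • N)
    (hirr : ∀ U ≤ N, U ≠ ⊥ → D ≤ normalizer (U : Set G) → N ≤ U) (hDN : D ≤ normalizer (N : Set G))
    (hnt : ¬ D ≤ centralizer (N : Set G))
    (hdis : ∀ p ∈ P, MulAut.conj p • N = N ∨ D ≤ centralizer ((MulAut.conj p • N : Subgroup G) : Set G)) :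
    False := by
  refine h.ne (pbN (Q := o2 P) h.toHyp.comm (fun v hv => h.sq_V hv) (h.PM.trans h.MV) h.PL h.LV (o2_le P)
    ?_ h.t6 (hD.trans (oddGen_le P)) hNL hgen hirr hDN hnt hdis ?_ (fun U hU hne hn => h.inf_zl_ne hU hne hn)
    fun A hA' => h.noOff A ((hA'.trans h.PM).trans h.MV))
  · rw [← h.par.inf_centralizer S h.ct]
    exact inf_le_right
  · rw [commutator_le]
    intro v hv d hd
    have h1 := inv_mem ((ht (hD hd)).2 v hv)
    have e : (ph v d)⁻¹ = ⁅v, d⁆ := by rw [commutatorElement_def]; simp only [ph]; group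
    rwa [e] at h1

theorem nat_false' (ht : oddGen P ≤ trv h.PL V) {K : Type} [Field K] {k : ℕ} (j : Fin k)
    (MM : NatKM K (S : Subgroup G) P (zl (S : Subgroup G) P) ⊥ k)
    (hA : Half.Amb (S : Subgroup G) P (zl (S : Subgroup G) P)) : False := by
  have h1 : Half.NatA.fac MM.toNatK {j} ≤ zl (S : Subgroup G) P := fun v hv => hv.1
  have h2 := NatVB.gen (M := MM) hA j
  have h3 : ∀ U ≤ Half.NatA.fac MM.toNatK {j}, U ≠ ⊥ →
      NatD.oneG MM hA.HV j ⊓ oddGen P ≤ normalizer (U : Set G) → Half.NatA.fac MM.toNatK {j} ≤ U :=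
    fun U hU hne hn => NatVB.irr (M := MM) (hPW := hA.HV) (j := j) hU hne hn
  have h4 : NatD.oneG MM hA.HV j ⊓ oddGen P ≤ normalizer (Half.NatA.fac MM.toNatK {j} : Set G) :=
    inf_le_left.trans (NatD.oneG_norm (M := MM) (hPW := hA.HV) (j := j))
  have h5 := NatVB.nt (M := MM) (hPW := hA.HV) (j := j)
  have h6 := fun p (hp : p ∈ P) => NatVB.dis (M := MM) (hPW := hA.HV) (j := j) hA hp
  exact h.block_false ht inf_le_right h1 h2 h3 h4 h5 h6

theorem nat_false (ht : oddGen P ≤ trv h.PL V) {K : Type} [Field K] {k : ℕ} (hk : 0 < k)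
    (MM : NatKM K (S : Subgroup G) P (zl (S : Subgroup G) P) ⊥ k) : False :=
  h.nat_false' ht ⟨0, hk⟩ MM (Half.amb_of_loc h.ct S h.par.isLoc)

theorem sym_false (ht : oddGen P ≤ trv h.PL V) {k m : ℕ} (hk : 0 < k) (hm : 2 ≤ m)
    (MM : SymK (S : Subgroup G) P (zl (S : Subgroup G) P) ⊥ k m) : False := by
  have hA : Half.Amb (S : Subgroup G) P (zl (S : Subgroup G) P) := Half.amb_of_loc h.ct S h.par.isLoc
  have hm1 : 1 ≤ m := by omega
  exact h.block_false ht (D := TyS.Ab MM hA ⟨0, hk⟩ ⊓ oddGen P) (N := TyS.blk MM ⟨0, hk⟩)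
    inf_le_right (fun v hv => hv.1) (TyS.gen hA hm1 _) (fun U hU hne hn => SymVB.irr hA hm hU hne hn)
    (inf_le_left.trans (TyS.ab_norm hA _)) (SymVB.nt hA hm) fun p hp => SymVB.dis hA hm1 hp

/-- **`[V, O²(P)] ≤ L` is impossible.** -/
theorem not_oddGen_le (ht : oddGen P ≤ trv h.PL V) : False := by
  have hcc := h.concl
  unfold ConclM at hcc
  rw [h.cvb] at hcc
  rcases hcc with ⟨K, _, _, _, k, hk, ⟨MM⟩⟩ | ⟨k, m, hk, hm, ⟨MM⟩⟩
  · exact h.nat_false ht hk MM
  · exact h.sym_false ht hk hm MM.toSymK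

/-- **(A2)** -/
theorem not_VB {B : Subgroup G} (hBS : B ≤ (S : Subgroup G))
    (hBL : ¬ B ≤ centralizer (zl (S : Subgroup G) P : Set G)) :
    ¬ ∀ v ∈ V, ∀ b ∈ B, NOne.NearFF.c v b ∈ zl (S : Subgroup G) P :=
  fun hc => h.not_oddGen_le (h.oddGen_le_trv hBS hBL hc)

end Fv

end Cfsg.Agent.Omega.NO3S.SFive

end

end

-- merged: Cfsg.Agent.Mrg.Omega.NO3S.SFive.OneB
section

/-!
# GammaFF (S5): one block, over a subgroup `T ≥ O²(P)`

* `exists_pow_odd` : some `g^(4^n)` has odd order;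
* `OneB S P T` : the input of `pbN` with `D ≤ T` : a block `N` and `D ≤ P ∩ T`, irreducible on `N`, trivial on the
  other blocks;
* `oneB_nat`, `oneB_sym`, **`oneB`** : `OneB` for natural^k and for even-subset^k, if `T` contains all elements of odd
  order of `P`.
-/

set_option autoImplicit false
set_option linter.unusedSectionVars false

namespace Cfsg.Agent.Omega.NO3S.SFive

open Subgroup Cfsg Cfsg.Agent.ZN Cfsg.Agent.ZN.ChoiceBase
open Cfsg.Agent.Omega.FFThm (NatK NatKM SymKM ConclM)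
open Cfsg.Agent.Omega.Half (Amb)
open Cfsg.Agent.Omega.MinPar
open scoped Pointwise

universe u

variable {G : Type u} [Group G]

/-- some `g^(4^n)` has odd order -/
theorem exists_pow_odd [Finite G] (g : G) : ∃ n : ℕ, Odd (orderOf (g ^ 4 ^ n)) := by
  obtain ⟨a, m, hm, ho⟩ := Nat.exists_eq_two_pow_mul_odd (orderOf_pos g).ne'
  refine ⟨a, Odd.of_dvd_nat hm (orderOf_dvd_of_pow_eq_one ?_)⟩
  have e : 4 ^ a * m = orderOf g * 2 ^ a := by
    rw [ho]
    have : (4 : ℕ) ^ a = 2 ^ a * 2 ^ a := by rw [← mul_pow]; norm_num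
    rw [this]; ring
  rw [← pow_mul, e, pow_mul, pow_orderOf_eq_one, one_pow]

theorem four_pow (n : ℕ) : ∃ l, 4 ^ n = 3 * l + 1 := by
  induction n with
  | zero => exact ⟨0, by norm_num⟩
  | succ n ih =>
    obtain ⟨l, hl⟩ := ih
    exact ⟨4 * l + 1, by rw [pow_succ, hl]; ring⟩

/-- the input of `pbN` inside `T` -/
def OneB (S P T : Subgroup G) : Prop :=
  ∃ N D : Subgroup G, D ≤ T ∧ D ≤ P ∧ N ≤ zl S P ∧ zl S P ≤ (⨆ p : P, MulAut.conj (p : G) • N) ∧
    (∀ U ≤ N, U ≠ ⊥ → D ≤ normalizer (U : Set G) → N ≤ U) ∧ D ≤ normalizer (N : Set G) ∧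
    ¬ D ≤ centralizer (N : Set G) ∧
    ∀ p ∈ P, MulAut.conj p • N = N ∨ D ≤ centralizer ((MulAut.conj p • N : Subgroup G) : Set G)

/-! ### Natural -/

section nat

open NatD
open Cfsg.Agent.Omega.Half.NatA (fac mem_fac Mv Mv.conj Mv.inv Mv.unique)
open Cfsg.Agent.Omega.NOThreeL.NF.NatR
open Cfsg.Agent.Omega.NatPair (ap ap_mul ap_one ap_inv_ap ap_zero' ap_one' ext2 exists_ap dt)
open Cfsg.Agent.Omega.NO1.NSix (em em_mem e_em_self e_em_ne em_fac em_eq mem_of_em)
open Cfsg.Agent.Lib.SL2Mat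

/-- an element of order three: `x ↦ y ↦ x + y ↦ x` -/
theorem exists_three {K : Type} [Field K] [CharP K 2] {x y : Fin 2 → K} (h : dt x y ≠ 0) :
    ∃ X : Matrix.SpecialLinearGroup (Fin 2) K, ap X x = y ∧ ap X y = x + y ∧ ap X (x + y) = x := by
  have h2 : (2 : K) = 0 := CharTwo.two_eq_zero
  set c : K := (dt x y)⁻¹ with hc
  have hcd : c * dt x y = 1 := inv_mul_cancel₀ h
  have e1 : dt (x + y) x = dt x y := by
    simp only [dt, Pi.add_apply]
    linear_combination (x 1 * y 0 - x 0 * y 1) * h2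
  have e2 : dt (x + y) y = dt x y := by simp only [dt, Pi.add_apply]; ring
  have e3 : dt (x + y) (x + y) = 0 := by simp only [dt, Pi.add_apply]; ring
  have e4 : dt y y = 0 := by simp only [dt]; ring
  have e5 : dt y x = dt x y := by
    simp only [dt]
    linear_combination (x 1 * y 0 - x 0 * y 1) * h2
  have e6 : dt y (x + y) = dt x y := by
    simp only [dt, Pi.add_apply]
    linear_combination (x 1 * y 0 - x 0 * y 1) * h2
  have f1 : x + (x + y) = y := by
    funext i; simp only [Pi.add_apply]; linear_combination (x i) * h2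
  have f2 : y + (x + y) = x := by
    funext i; simp only [Pi.add_apply]; linear_combination (y i) * h2
  have f3 : x + y + y = x := by
    funext i; simp only [Pi.add_apply]; linear_combination (y i) * h2
  refine ⟨tv y c * tv (x + y) c, ?_, ?_, ?_⟩
  · rw [ap_mul, ap_tv (x + y), e1, hcd, one_smul, f1, ap_tv, e4, mul_zero, zero_smul, add_zero]
  · rw [ap_mul, ap_tv (x + y), e2, hcd, one_smul, f2, ap_tv, e5, hcd, one_smul]
  · rw [ap_mul, ap_tv (x + y), e3, mul_zero, zero_smul, add_zero, ap_tv, e6, hcd, one_smul, f3]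

theorem ap_pow_four {K : Type} [Field K] {x y : Fin 2 → K} {X : Matrix.SpecialLinearGroup (Fin 2) K} (h1 : ap X x = y)
    (h2 : ap X y = x + y) (h3 : ap X (x + y) = x) (n : ℕ) : ap (X ^ 4 ^ n) x = y := by
  have h4 : ∀ l : ℕ, ap (X ^ (3 * l)) x = x := by
    intro l
    induction l with
    | zero => rw [mul_zero, pow_zero, ap_one]
    | succ l ih =>
      have e : X ^ (3 * (l + 1)) = X * (X * (X * X ^ (3 * l))) := by
        rw [← pow_succ', ← pow_succ', ← pow_succ']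
        congr 1
      rw [e, ap_mul, ap_mul, ap_mul, ih, h1, h2, h3]
  obtain ⟨l, hl⟩ := four_pow n
  rw [hl, pow_succ', ap_mul, h4, h1]

variable {K : Type} [Field K] {S P W : Subgroup G} {k : ℕ} {M : NatKM K S P W ⊥ k} {hPW : P ≤ normalizer (W : Set G)}
  {j : Fin k}

theorem ac_pow (hPW : P ≤ normalizer (W : Set G)) {g : G} (hg : g ∈ P) {X : Matrix.SpecialLinearGroup (Fin 2) K}
    (h : Ac M g (Pi.mulSingle j X)) (n : ℕ) : Ac M (g ^ n) (Pi.mulSingle j (X ^ n)) := by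
  induction n with
  | zero =>
    rw [pow_zero, pow_zero, Pi.mulSingle_one]
    exact ac_one (one_mem _)
  | succ n ih =>
    rw [pow_succ, pow_succ, Pi.mulSingle_mul]
    exact Ac.mul hPW hg ih h

/-- `D` moves independent vectors of the block -/
structure Tw (M : NatKM K S P W ⊥ k) (hPW : P ≤ normalizer (W : Set G)) (j : Fin k) (D : Subgroup G) : Prop where
  le : D ≤ oneG M hPW j
  ex : ∀ x y : Fin 2 → K, dt x y ≠ 0 → ∃ g ∈ D, ∃ X, Ac M g (Pi.mulSingle j X) ∧ ap X x = y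

theorem tw_of [Finite G] [CharP K 2] {T : Subgroup G} (hT : ∀ g ∈ P, Odd (orderOf g) → g ∈ T) :
    Tw M hPW j (oneG M hPW j ⊓ T) := by
  refine ⟨inf_le_left, fun x y h => ?_⟩
  obtain ⟨X, h1, h2, h3⟩ := exists_three h
  obtain ⟨g, hg, hac⟩ := lift_ac (M := M) (Pi.mulSingle j X)
  obtain ⟨n, hn⟩ := exists_pow_odd g
  have h4 := ac_pow hPW hg hac (4 ^ n)
  have h5 := pow_mem hg (4 ^ n)
  exact ⟨g ^ 4 ^ n, mem_inf.2 ⟨⟨h5, _, h4⟩, hT _ h5 hn⟩, _, h4, ap_pow_four h1 h2 h3 n⟩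

theorem Tw.irr {D : Subgroup G} (h : Tw M hPW j D) {U : Subgroup G} (hU : U ≤ fac M.toNatK {j})
    (hne : U ≠ ⊥) (hn : D ≤ normalizer (U : Set G)) : fac M.toNatK {j} ≤ U := by
  obtain ⟨⟨u, hu⟩, hu1'⟩ := U.ne_bot_iff_exists_ne_one.1 hne
  have hu1 : u ≠ 1 := fun h1 => hu1' (Subtype.ext h1)
  have huW : u ∈ W := (hU hu).1
  have hx : M.e u j ≠ 0 := by
    intro h0
    apply hu1
    refine e_inj (M := M) huW (one_mem _) ?_
    rw [e_one]
    funext i
    by_cases hi : i = j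
    · rw [hi, h0]; rfl
    · exact (hU hu).2 i hi
  -- one step
  have step : ∀ w ∈ U, ∀ y : Fin 2 → K, dt (M.e w j) y ≠ 0 → em M.toNatK j y ∈ U := by
    intro w hw y hy
    have hwW : w ∈ W := (hU hw).1
    obtain ⟨g, hg, X, hac, hX⟩ := h.ex _ _ hy
    have h1 : g * w * g⁻¹ ∈ U := (mem_normalizer_iff.1 (hn hg) w).1 hw
    have h2 : em M.toNatK j y = g * w * g⁻¹ := by
      refine e_inj (M := M) (em_mem _ _ _) (hU h1).1 ?_
      funext i
      by_cases hi : i = j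
      · subst hi
        rw [ac_self hac hwW, hX]
        exact e_em_self _ _ _
      · rw [ac_other hac hwW hi, (hU hw).2 i hi]
        exact e_em_ne _ hi _
    rw [h2]; exact h1
  have all : ∀ y : Fin 2 → K, y ≠ 0 → em M.toNatK j y ∈ U := by
    intro y hy
    obtain ⟨z, hz1, hz2⟩ := exists_third hx hy
    have h1 := step u hu z hz1
    refine step _ h1 y ?_
    have e : M.e (em M.toNatK j z) j = z := e_em_self _ _ _
    rwa [e]
  intro v hv
  by_cases h0 : M.e v j = 0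
  · have : v = 1 := by
      refine e_inj (M := M) hv.1 (one_mem _) ?_
      rw [e_one]
      funext i
      by_cases hi : i = j
      · rw [hi, h0]; rfl
      · exact hv.2 i hi
    rw [this]; exact one_mem _
  · have h1 := all _ h0
    have h2 := em_eq M.toNatK hv.1 (i := j) fun i hi => hv.2 i hi
    rwa [h2] at h1

theorem Tw.nt {D : Subgroup G} (h : Tw M hPW j D) : ¬ D ≤ centralizer (fac M.toNatK {j} : Set G) := by
  intro hc
  have h01 : dt (![1, 0] : Fin 2 → K) ![0, 1] ≠ 0 := by simp [dt]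
  obtain ⟨g, hg, X, hac, hX⟩ := h.ex _ _ h01
  have hv : em M.toNatK j ![1, 0] ∈ fac M.toNatK {j} := em_fac _ _ _
  have h1 := mem_centralizer_iff.1 (hc hg) _ hv
  have h2 := ac_self hac hv.1
  have e : M.e (em M.toNatK j ![1, 0]) j = ![1, 0] := e_em_self _ _ _
  rw [← h1, mul_inv_cancel_right, e, hX] at h2
  have h3 := congrFun h2 0
  exact one_ne_zero h3

theorem oneB_nat [Finite G] [Finite K] [CharP K 2] {T : Subgroup G} (M : NatKM K S P (zl S P) ⊥ k) (hk : 0 < k)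
    (hAmb : Amb S P (zl S P)) (hT : ∀ g ∈ P, Odd (orderOf g) → g ∈ T) : OneB S P T := by
  have hPW := hAmb.HV
  have hSP := hAmb.TH
  set j : Fin k := ⟨0, hk⟩ with hj
  have tw : Tw M hPW j (oneG M hPW j ⊓ T) := tw_of hT
  refine ⟨fac M.toNatK {j}, oneG M hPW j ⊓ T, inf_le_right, inf_le_left.trans oneG_le, fun v hv => hv.1, ?_,
    fun U hU hne hn => tw.irr hU hne hn, inf_le_left.trans oneG_norm, tw.nt, ?_⟩
  · intro v hv
    refine mem_of_em M.toNatK hv fun i => ?_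
    obtain ⟨s, hs, hsi⟩ := M.trans j i
    obtain ⟨σ, hσ⟩ := M.perm s (hSP hs)
    have h1 : σ j = i := Mv.unique M.toNatK hAmb hσ (hSP hs) hsi
    have h2 := exists_conj_fac hAmb (hSP hs) hσ j
    rw [h1] at h2
    have h3 : em M.toNatK i (M.e v i) ∈ fac M.toNatK {i} := em_fac _ _ _
    rw [← h2] at h3
    exact (le_iSup (fun p : P => MulAut.conj (p : G) • fac M.toNatK {j}) ⟨s, hSP hs⟩) h3
  · intro p hp
    obtain ⟨σ, hσ⟩ := M.perm p hp
    rw [exists_conj_fac hAmb hp hσ]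
    by_cases h1 : σ j = j
    · left; rw [h1]
    · right
      refine (inf_le_left.trans (le_centralizer_iff.1 fun v hv => cent_oneG hv.1 (hv.2 j fun h => h1 h.symm)))

end nat

/-! ### Even subsets -/

section sym

open TyS
open Cfsg.Agent.Omega.FFThm (SymK)
open Cfsg.Agent.Omega.Half.SymA
open Cfsg.Agent.Omega.NOThreeL.NF.SymRP
open scoped Classical

variable {T H V : Subgroup G} {k m : ℕ}

theorem tc_four {a b c : Pt k m} (hab : a ≠ b) (hbc : b ≠ c) (hac : a ≠ c) (n : ℕ) :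
    (Equiv.swap a b * Equiv.swap b c) ^ 4 ^ n = Equiv.swap a b * Equiv.swap b c := by
  obtain ⟨π, hπ⟩ : ∃ π, π = Equiv.swap a b * Equiv.swap b c := ⟨_, rfl⟩
  have h1 : π a = b := by rw [hπ]; exact tc_a hab hac
  have h2 : π b = c := by rw [hπ]; exact tc_b hbc hac
  have h3 : π c = a := by rw [hπ]; exact tc_c
  have h4 : ∀ z, z ≠ a → z ≠ b → z ≠ c → π z = z := fun z ha hb hc => by rw [hπ]; exact tc_ne ha hb hc
  have h5 : π ^ 3 = 1 := by
    ext1 z
    rw [pow_succ, pow_two, Equiv.Perm.mul_apply, Equiv.Perm.mul_apply, Equiv.Perm.one_apply]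
    by_cases ha : z = a
    · rw [ha, h1, h2, h3]
    by_cases hb : z = b
    · rw [hb, h2, h3, h1]
    by_cases hc : z = c
    · rw [hc, h3, h1, h2]
    rw [h4 z ha hb hc, h4 z ha hb hc, h4 z ha hb hc]
  obtain ⟨l, hl⟩ := four_pow n
  rw [← hπ, hl, pow_add, pow_mul, h5, one_pow, one_mul, pow_one]

variable {M : SymK T H V ⊥ k m} (hA : Amb T H V)

include hA in
theorem exists_tc_T [Finite G] {X : Subgroup G} (hX : ∀ g ∈ H, Odd (orderOf g) → g ∈ X) {j : Fin k} {a b c : Pt k m}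
    (ha : a.1 = j) (hb : b.1 = j) (hc : c.1 = j) (hab : a ≠ b) (hbc : b ≠ c) (hac : a ≠ c) :
    ∃ g ∈ Ab M hA j ⊓ X, Mv M g (Equiv.swap a b * Equiv.swap b c) := by
  obtain ⟨s, hs, hs1⟩ := exists_swap (M := M) (p := a) (q := b) (ha.trans hb.symm)
  obtain ⟨t, ht, ht1⟩ := exists_swap (M := M) (p := b) (q := c) (hb.trans hc.symm)
  have h1 := hs1.mul hA ht1 ht
  have h2 := mul_mem hs ht
  obtain ⟨n, hn⟩ := exists_pow_odd (s * t)
  have h3 := h1.pow hA h2 (4 ^ n)
  rw [tc_four hab hbc hac] at h3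
  have h4 := pow_mem h2 (4 ^ n)
  refine ⟨_, mem_inf.2 ⟨⟨h4, _, h3, fun r hr => tc_ne ?_ ?_ ?_⟩, hX _ h4 hn⟩, h3⟩
  · rintro rfl; exact hr ha
  · rintro rfl; exact hr hb
  · rintro rfl; exact hr hc

theorem oneB_sym [Finite G] {S P T : Subgroup G} {k m : ℕ} (M : SymK S P (zl S P) ⊥ k m) (hk : 0 < k) (hm : 2 ≤ m)
    (hA : Amb S P (zl S P)) (hT : ∀ g ∈ P, Odd (orderOf g) → g ∈ T) : OneB S P T := by
  have hm1 : 1 ≤ m := by omega
  set j : Fin k := ⟨0, hk⟩ with hj
  have htc := fun {a b c : Pt k m} => exists_tc_T (M := M) hA hT (j := j) (a := a) (b := b) (c := c)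
  have hAP : Ab M hA j ≤ P := by
    intro g hg
    exact hg.1
  refine ⟨blk M j, Ab M hA j ⊓ T, inf_le_right, inf_le_left.trans hAP, fun v hv => hv.1,
    gen hA hm1 _, ?_, inf_le_left.trans (ab_norm hA _), ?_, ?_⟩
  · intro U hU hne hUn
    exact blk_le_of_tc hA hm hU hne (inf_le_left.trans hAP) hUn
      fun a b c ha hb hc hab hbc hac => htc ha hb hc hab hbc hac
  · intro hcon
    obtain ⟨y, z, hyz, ⟨hy1, -, -⟩, hz1, -, -⟩ := exists_two hm (0 : Fin (2 ^ m + 1)) 0 0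
    set a : Pt k m := (j, 0) with ha
    set b : Pt k m := (j, y) with hb
    set c : Pt k m := (j, z) with hc
    have hab : a ≠ b := fun h1 => hy1 (congrArg Prod.snd h1).symm
    have hac : a ≠ c := fun h1 => hz1 (congrArg Prod.snd h1).symm
    have hbc : b ≠ c := fun h1 => hyz (congrArg Prod.snd h1)
    obtain ⟨v, hv⟩ := exists_isC (M := M) (p := a) (q := b) rfl
    obtain ⟨g, hg, hg1⟩ := htc (a := a) (b := b) (c := c) rfl rfl rfl hab hbc hac
    have hvb : v ∈ blk M j := pair_mem_blk (a := a) (b := b) rfl rfl hv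
    have h1 := mem_centralizer_iff.1 (hcon hg) v hvb
    have h2 := hg1 v hv.1 c
    rw [← h1, mul_inv_cancel_right, tc_c, hv.left hab, hv.zero hac.symm hbc.symm] at h2
    exact one_ne_zero h2
  · intro y hy
    obtain ⟨π, hπ, -⟩ := exists_mv (M := M) hy
    have h1 := smul_blk hA hm1 hy hπ ((j, 0) : Pt k m)
    change MulAut.conj y • blk M j = _ at h1
    rw [h1]
    by_cases hj : (π ((j, 0) : Pt k m)).1 = j
    · left; rw [hj]
    · right
      exact inf_le_left.trans (ab_cent hA hj)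

end sym

/-- **One block inside `T ≥ O²(P)`.** -/
theorem oneB [Finite G] {S : Sylow 2 G} {P : Subgroup G} (hG : IsCharacteristicTwoType G)
    (hP : IsParS (S : Subgroup G) P) (hcv : FrameFF.cv (S : Subgroup G) P = ⊥) (hc : ConclM (S : Subgroup G) P)
    {T : Subgroup G} (hT : ∀ g ∈ P, Odd (orderOf g) → g ∈ T) : OneB (S : Subgroup G) P T := by
  have hA : Amb (S : Subgroup G) P (zl (S : Subgroup G) P) := Half.amb_of_loc hG S hP.isLoc
  rcases hc with ⟨K, _, _, _, k, hk, ⟨M⟩⟩ | ⟨k, m, hk, hm, ⟨M⟩⟩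
  · rw [hcv] at M
    exact oneB_nat M hk hA hT
  · rw [hcv] at M
    exact oneB_sym M.toSymK hk hm hA hT

end Cfsg.Agent.Omega.NO3S.SFive

end

-- merged: Cfsg.Agent.Mrg.Omega.NO3S.SFive.Gam
section

/-!
# GammaFF (S5): a bad chamber (helper31 #23010 (G))

* `Fv.pbo` : `B ≤ S` which moves `L` does not satisfy `[V, B] ≤ L`;
* `card_comm_nat`, `card_comm_sym` : `|[L, A]| = |K|`, `= 2` for a minimal offender `A`;
* `Fv.rhoG` : the root group `ρ` : `[E, B] ≤ ρ`, `|ρ| = q₀ ≤ |I : F|`;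
* **`Fv.gam`** : at a bad chamber `B` is a minimal offender on `L`, `L ∩ E ≤ C(B)`, `[L, B] ∩ F = 1`.
-/

set_option autoImplicit false
set_option linter.unusedSectionVars false

namespace Cfsg.Agent.Omega.NO3S.SFive

open Subgroup Cfsg Cfsg.Agent.ZN Cfsg.Agent.ZN.ChoiceBase
open Cfsg.Agent.Omega.MinPar
open Cfsg.Agent.Omega.FFThm (ConclM NoOverM OffM ElemM relIndex_le_iff NatKM SymKM)
open Cfsg.Agent.Omega.NOne.Flat (Hyp EE NN Cos conj_eq_of_norm EE_conj WW_conj conj_centralizer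
  card_mul_relIndex')
open Cfsg.Agent.Omega.NOne.NearFF (c c_def)
open Cfsg.Agent.Omega.NOThreeL.NF (MinOffM RP)
open Cfsg.Agent.Omega.NOThreeL.Low (Tp)
open Cfsg.Agent.Omega.NOThreeL.Low.Key (BH c_eq_one')
open Cfsg.Agent.Omega.NoFF.Basic (conj_conj mem_conj conj_le_iff conj_le_centralizer)
open Cfsg.Agent.Omega.Half (Amb)
open Cfsg.Agent.MinSimple.VModule (oddGen mem_oddGen oddGen_le_of_sup zc_le_zl)
open scoped Pointwise commutatorElement

universe u

variable {G : Type u} [Group G] [Finite G] {S : Sylow 2 G} {P V M F : Subgroup G}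

theorem o2_le_cent (hG : IsCharacteristicTwoType G) (hP : IsParS (S : Subgroup G) P) :
    o2 P ≤ centralizer (zl (S : Subgroup G) P : Set G) := by
  have h1 : zl (S : Subgroup G) P ≤ zc (o2 P) := hP.isLoc.zl_le S hG
  intro q hq
  rw [mem_centralizer_iff]
  intro v hv
  exact ((ChoiceBase.mem_zc.1 (h1 hv)).2.2 q hq).symm

theorem ph_eq (v b : G) : ph v b = (c v b)⁻¹ := by
  rw [ph, c_def]; group

/-- **`[V, B] ≰ L`** if `B ≤ S` moves `L` -/
theorem Fv.pbo (h : Fv S P V M F) {B : Subgroup G} (hBS : B ≤ (S : Subgroup G))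
    (hne : ¬ B ≤ centralizer (zl (S : Subgroup G) P : Set G))
    (hVB : ∀ v ∈ V, ∀ b ∈ B, c v b ∈ zl (S : Subgroup G) P) : False := by
  have hPV := h.PM.trans h.MV
  have hPL : P ≤ normalizer (zl (S : Subgroup G) P : Set G) := MinSimple.VModule.le_normalizer_zl _ _
  have hSP : (S : Subgroup G) ≤ P := h.par.le
  have hTP : trv hPL V ≤ P := fun g hg => hg.1
  have hPT : P ≤ normalizer (trv hPL V : Set G) := by
    refine le_normalizer_of' fun p hp t ht => ⟨mul_mem (mul_mem hp ht.1) (inv_mem hp), fun v hv => ?_⟩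
    have h1 : p⁻¹ * v * p⁻¹⁻¹ ∈ V := (mem_normalizer_iff.1 (hPV (inv_mem hp)) v).1 hv
    have h2 := (mem_normalizer_iff.1 (hPL hp) _).1 (ht.2 _ h1)
    have e : ph v (p * t * p⁻¹) = p * ph (p⁻¹ * v * p⁻¹⁻¹) t * p⁻¹ := by simp only [ph]; group
    rwa [e]
  have hBT : B ≤ trv hPL V := fun b hb => ⟨hSP (hBS hb), fun v hv => by
    rw [ph_eq]; exact inv_mem (hVB v hv b hb)⟩
  have hQL := o2_le_cent h.ct h.par
  rcases h.par.toIsPar.sup_eq_or_inf_le S hTP hPT with h1 | h1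
  · have hT : ∀ g ∈ P, Odd (orderOf g) → g ∈ trv hPL V := fun g hg ho =>
      oddGen_le_of_sup hPT h1.ge hSP hTP S.isPGroup' (mem_oddGen hg ho)
    obtain ⟨N, D, hDT, hDP, hNL, hgen, hirr, hDN, hnt, hdis⟩ := oneB h.ct h.par h.cvb h.concl hT
    have hVD : ⁅V, D⁆ ≤ zl (S : Subgroup G) P := by
      rw [commutator_le]
      intro v hv d hd
      have h2 := (hDT hd).2 v hv
      have e : ⁅v, d⁆ = (ph v d)⁻¹ := by rw [commutatorElement_def, ph]; group
      rw [e]
      exact inv_mem h2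
    refine h.ne (pbN h.comm h.sq hPV hPL h.LV (ZN.o2_le P) hQL h.t6 hDP hNL hgen hirr hDN hnt hdis hVD ?_
      fun A hA => h.noOff A (hA.trans hPV))
    intro U hU hU1 hPU
    have h1 := exists_fix (hU.trans h.VS) (fun v hv => h.sq v (hU hv)) hU1 (hSP.trans hPU)
    intro h2
    apply h1
    rw [eq_bot_iff, ← h2]
    exact inf_le_inf le_rfl (zc_le_zl _ _)
  · exact hne fun b hb => hQL (h1 ⟨hBS hb, hBT hb⟩)

/-! ### The order of the root group -/

theorem card_comm_nat {K : Type} [Field K] [Finite K] [CharP K 2] {k : ℕ}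
    (N : NatKM K (S : Subgroup G) P (zl (S : Subgroup G) P) ⊥ k) (hSP : (S : Subgroup G) ≤ P) {A : Subgroup G}
    (hA : MinOffM (zl (S : Subgroup G) P) (S : Subgroup G) A) :
    Nat.card ↥(⁅zl (S : Subgroup G) P, A⁆ : Subgroup G) = Nat.card K := by
  have hPW : P ≤ normalizer (zl (S : Subgroup G) P : Set G) := MinSimple.VModule.le_normalizer_zl _ _
  obtain ⟨j, hj⟩ := NOThreeL.NF.NatR.Rt.of (M := N) hPW hSP hA
  rw [hj.comm_eq hPW hSP, NOThreeL.NF.NatR.card_ln]

theorem card_comm_sym {k m : ℕ} (N : SymKM (S : Subgroup G) P (zl (S : Subgroup G) P) ⊥ k m) (hm : 1 ≤ m)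
    (hAmb : Amb (S : Subgroup G) P (zl (S : Subgroup G) P)) {A : Subgroup G}
    (hA : MinOffM (zl (S : Subgroup G) P) (S : Subgroup G) A) :
    Nat.card ↥(⁅zl (S : Subgroup G) P, A⁆ : Subgroup G) = 2 := by
  obtain ⟨p, q, h⟩ := TyS.exists_tr N hAmb hm hA
  obtain ⟨d, hd⟩ := NOThreeL.NF.SymRP.exists_isC (M := N.toSymK) h.blk
  rw [h.comm_eq hAmb hm hd, TyS.card_zp hAmb hd h.ne]

/-- a group of order `≤ 3` which meets `L` is in `L` -/
theorem le_of_card_le_three {ρ L : Subgroup G} (h3 : Nat.card ρ ≤ 3) (h : ρ ⊓ L ≠ ⊥) : ρ ≤ L := by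
  have h1 : Nat.card ↥(ρ ⊓ L) ∣ Nat.card ρ := card_dvd_of_le inf_le_left
  have h2 : Nat.card ↥(ρ ⊓ L) ≠ 1 := fun h4 => h (card_eq_one.1 h4)
  have h4 : 0 < Nat.card ↥(ρ ⊓ L) := Nat.card_pos
  have h5 : Nat.card ρ = Nat.card ↥(ρ ⊓ L) := by
    obtain ⟨d, hd⟩ := h1
    have h6 : d = 1 := by
      by_contra hd1
      have h7 : d ≠ 0 := by
        rintro rfl
        rw [mul_zero] at hd
        exact absurd hd (Nat.card_pos (α := ρ)).ne'
      have h8 : 2 * 2 ≤ Nat.card ↥(ρ ⊓ L) * d := Nat.mul_le_mul (by omega) (by omega)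
      omega
    rw [hd, h6, mul_one]
  have h6 : ρ ⊓ L = ρ := Subgroup.eq_of_le_of_card_ge inf_le_left h5.le
  rw [← h6]
  exact inf_le_right

theorem tp_of (hcv : FrameFF.cv (S : Subgroup G) P = ⊥) (hc : ConclM (S : Subgroup G) P) :
    Tp (S : Subgroup G) P := by
  unfold ConclM at hc
  rwa [hcv] at hc

section main

variable {B : Subgroup G}

/-- `|V : E| = |L : L ∩ E| = |I : F|` -/
theorem Fv.idxG (h : Fv S P V M F) (bh : BH V F B) (hsq : ∀ b ∈ B, b ^ 2 = 1) (hBS : B ≤ (S : Subgroup G))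
    (hUE : ¬ zl (S : Subgroup G) P ≤ EE V F) (hI : ¬ V ⊓ B ≤ F) :
    (EE V F).relIndex (zl (S : Subgroup G) P) = F.relIndex (V ⊓ B) ∧ (EE V F).relIndex V = F.relIndex (V ⊓ B) := by
  have h3 := Pas.three h.ct h.par (tp_of h.cvb h.concl) bh hsq hBS h.LV hUE
  have h4 : (EE V F).relIndex (zl (S : Subgroup G) P) ≤ (EE V F).relIndex V :=
    relIndex_le_of_le_right h.LV (rne _ _)
  have h5 := bh.relIndex_V_le hI
  omega

/-- **the root group** -/
theorem Fv.rhoG (h : Fv S P V M F) (bh : BH V F B) (hkey : F.relIndex (V ⊓ B) ≤ (EE V F).relIndex V)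
    {m : G} (hm : m ∈ M) (hWm : NOne.Flat.WW V F ≤ MulAut.conj m • (S : Subgroup G))
    (hmB : MulAut.conj m • zl (S : Subgroup G) P ≤ B) (hmF : ¬ MulAut.conj m • zl (S : Subgroup G) P ≤ F) :
    ∃ ρ A : Subgroup G, MinOffM (zl (S : Subgroup G) P) (S : Subgroup G) A ∧
      Nat.card ρ = Nat.card ↥(⁅zl (S : Subgroup G) P, A⁆ : Subgroup G) ∧ (∀ e ∈ EE V F, ∀ b ∈ B, c e b ∈ ρ) ∧
      Nat.card ρ ≤ F.relIndex (V ⊓ B) := by
  set L := zl (S : Subgroup G) P with hL
  have hmV := h.MV hm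
  have hmV' := h.MV (inv_mem hm)
  have hcV : MulAut.conj m • V = V := conj_eq_of_norm hmV
  have hmLV : MulAut.conj m • L ≤ V := by
    rw [← hcV]; exact conj_le_iff.2 h.LV
  have hmI : MulAut.conj m • L ≤ V ⊓ B := le_inf hmLV hmB
  have hI : ¬ V ⊓ B ≤ F := fun h1 => hmF (hmI.trans h1)
  obtain ⟨b₀, hb₀, hb₀N⟩ := bh.exists_not_mem_NN hI
  have hyp' := h.toHyp.conj hmV'
  have hr : Pas.Root V F (V ⊓ B) :=
    Pas.Root.of_key (fun r hr hrF b hb hbN y => bh.root hkey hr hrF hb hbN y) ⟨b₀, hb₀, hb₀N⟩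
  have hr' := hr.conj hmV'
  have hIE' : MulAut.conj m⁻¹ • (V ⊓ B) ≤ EE V (MulAut.conj m⁻¹ • F) := by
    rw [← EE_conj hmV']; exact conj_le_iff.2 bh.I_le_E
  have hLI' : L ≤ MulAut.conj m⁻¹ • (V ⊓ B) := by
    have := conj_le_iff (g := m⁻¹).2 hmI
    rwa [conj_conj, inv_mul_cancel, map_one, one_smul] at this
  have hWS' : NOne.Flat.WW V (MulAut.conj m⁻¹ • F) ≤ (S : Subgroup G) := by
    rw [← WW_conj hmV']
    have := conj_le_iff (g := m⁻¹).2 hWm
    rwa [conj_conj, inv_mul_cancel, map_one, one_smul] at this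
  have hLF' : ¬ L ≤ MulAut.conj m⁻¹ • F := by
    intro h1
    apply hmF
    have := conj_le_iff (g := m).2 h1
    rwa [conj_conj, mul_inv_cancel, map_one, one_smul] at this
  have hmov' : ¬ NOne.Flat.WW V (MulAut.conj m⁻¹ • F) ≤ centralizer (L : Set G) := by
    intro h1
    apply hLF'
    rw [← hyp'.cent_VW]
    exact le_inf h.LV (le_centralizer_iff.1 h1)
  have hmin := Pas.minOff_of_root h.ct h.par h.cvb h.concl hyp' hr' hIE' hLI' hWS' hmov'
  have rp := Pas.rp_of_concl h.ct h.par h.cvb h.concl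
  obtain ⟨l, hl, hlF⟩ := SetLike.not_le_iff_exists.1 hLF'
  have hrI : m * l * m⁻¹ ∈ V ⊓ B := hmI (by
    rw [mem_conj]
    have e : m⁻¹ * (m * l * m⁻¹) * m = l := by group
    rwa [e])
  have hrF : m * l * m⁻¹ ∉ F := by
    intro h1
    apply hlF
    rw [mem_conj]
    have e : m⁻¹⁻¹ * l * m⁻¹ = m * l * m⁻¹ := by group
    rwa [e]
  have hcard : Nat.card ↥(MulAut.conj m • ⁅L, NOne.Flat.WW V (MulAut.conj m⁻¹ • F)⁆ : Subgroup G) =
      Nat.card ↥(⁅L, NOne.Flat.WW V (MulAut.conj m⁻¹ • F)⁆ : Subgroup G) := NOne.Choice.card_conj _ _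
  refine ⟨MulAut.conj m • ⁅L, NOne.Flat.WW V (MulAut.conj m⁻¹ • F)⁆, NOne.Flat.WW V (MulAut.conj m⁻¹ • F), hmin,
    hcard, ?_, ?_⟩
  · intro e he b hb
    by_cases hbN : b ∈ NN V F
    · rw [c_eq_one' (mem_centralizer_iff.1 hbN.2 e he)]
      exact one_mem _
    · obtain ⟨s, hs, h1⟩ := (bh.root hkey hrI hrF hb hbN (c e b)).2 ⟨e, he, rfl⟩
      rw [← h1, mem_conj]
      have e1 : m⁻¹ * c (m * l * m⁻¹) s * m = c l (m⁻¹ * s * m) := by rw [c_def, c_def]; group
      rw [e1]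
      refine commutator_mem_commutator hl ?_
      rw [← WW_conj hmV', mem_conj]
      have e2 : m⁻¹⁻¹ * (m⁻¹ * s * m) * m⁻¹ = s := by group
      rwa [e2]
  · rw [hcard, rp.card _ hmin]
    have h1 := relIndex_le_iff.1 (h.noOver _ (hWS'.trans h.par.le) hmin.off.toElemM)
    refine h1.trans ?_
    have h2 : (centralizer (NOne.Flat.WW V (MulAut.conj m⁻¹ • F) : Set G)).relIndex L =
        (MulAut.conj m⁻¹ • F).relIndex L := by
      rw [← inf_relIndex_right, ← inf_relIndex_right (MulAut.conj m⁻¹ • F)]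
      congr 1
      have h3 := hyp'.cent_VW
      apply le_antisymm
      · rintro x ⟨hx1, hx2⟩
        refine ⟨?_, hx2⟩
        have h4 : x ∈ V ⊓ centralizer (NOne.Flat.WW V (MulAut.conj m⁻¹ • F) : Set G) := ⟨h.LV hx2, hx1⟩
        rwa [h3] at h4
      · rintro x ⟨hx1, hx2⟩
        refine ⟨?_, hx2⟩
        have h4 : x ∈ V ⊓ centralizer (NOne.Flat.WW V (MulAut.conj m⁻¹ • F) : Set G) := by rw [h3]; exact hx1
        exact h4.2
    rw [h2]
    have h3 : (MulAut.conj m⁻¹ • F).relIndex L ≤ (MulAut.conj m⁻¹ • F).relIndex (MulAut.conj m⁻¹ • (V ⊓ B)) :=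
      relIndex_le_of_le_right hLI' (rne _ _)
    rwa [relIndex_pointwise_smul] at h3

/-- `L ∩ E` is centralised by `B` -/
theorem Fv.cent_LE (h : Fv S P V M F) (bh : BH V F B) (hsq : ∀ b ∈ B, b ^ 2 = 1) (hBS : B ≤ (S : Subgroup G))
    (hUE : ¬ zl (S : Subgroup G) P ≤ EE V F) {m : G} (hm : m ∈ M)
    (hWm : NOne.Flat.WW V F ≤ MulAut.conj m • (S : Subgroup G))
    (hmB : MulAut.conj m • zl (S : Subgroup G) P ≤ B) (hmF : ¬ MulAut.conj m • zl (S : Subgroup G) P ≤ F)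
    (hI : ¬ V ⊓ B ≤ F) : zl (S : Subgroup G) P ⊓ EE V F ≤ centralizer (B : Set G) := by
  by_contra hne
  obtain ⟨i1, i2⟩ := h.idxG bh hsq hBS hUE hI
  obtain ⟨ρ, A, hA, hρA, hρ, hρi⟩ := h.rhoG bh i2.ge hm hWm hmB hmF
  have hSP : (S : Subgroup G) ≤ P := h.par.le
  have hPL : P ≤ normalizer (zl (S : Subgroup G) P : Set G) := MinSimple.VModule.le_normalizer_zl _ _
  have hcL : ∀ v ∈ zl (S : Subgroup G) P, ∀ b ∈ B, c v b ∈ zl (S : Subgroup G) P := fun v hv b hb =>
    NOThreeL.Low.Key.c_mem_left hv (hPL (hSP (hBS hb)))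
  have hmeet : ρ ⊓ zl (S : Subgroup G) P ≠ ⊥ := by
    intro h0
    apply hne
    intro v hv
    rw [mem_centralizer_iff]
    intro b hb
    have h1 : c v b ∈ ρ ⊓ zl (S : Subgroup G) P := ⟨hρ v hv.2 b hb, hcL v hv.1 b hb⟩
    rw [h0, mem_bot] at h1
    exact (NOThreeL.Low.Key.comm_of_c h1).symm
  have hρL : ρ ≤ zl (S : Subgroup G) P := by
    rcases h.concl with ⟨K, _, _, _, k, hk, ⟨N⟩⟩ | ⟨k, n, hk, hn, ⟨N⟩⟩
    · rw [h.cvb] at N
      have h1 := card_comm_nat N hSP hA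
      by_cases h4 : 4 ≤ Nat.card K
      · exact alpha h4 N h.ct h.par bh hsq hBS h.LV hUE (by omega) hρ (by omega) hne
      · exact le_of_card_le_three (by omega) hmeet
    · rw [h.cvb] at N
      have hAmb : Amb (S : Subgroup G) P (zl (S : Subgroup G) P) := Half.amb_of_loc h.ct S h.par.isLoc
      have h1 := card_comm_sym N (by omega) hAmb hA
      exact le_of_card_le_three (by omega) hmeet
  obtain ⟨b₀, hb₀, hb₀N⟩ := bh.exists_not_mem_NN hI
  obtain ⟨w₀, hw₀, hw₀E⟩ := SetLike.not_le_iff_exists.1 hUE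
  refine h.pbo hBS (fun h1 => hb₀N (bh.mem_NN_of_c (h.LV hw₀) hw₀E hb₀ ?_)) ?_
  · rw [c_eq_one' (mem_centralizer_iff.1 (h1 hb₀) w₀ hw₀)]
    exact one_mem _
  · intro v hv b hb
    have hcos : Cos id (zl (S : Subgroup G) P) (EE V F) V (EE V F) := ⟨fun l hl => h.LV hl, fun _ _ _ _ => Iff.rfl⟩
    obtain ⟨l, hl, h1⟩ := hcos.surj (by omega) hv
    have h1' : l⁻¹ * v ∈ EE V F := h1
    have hve : v = l * (l⁻¹ * v) := by group
    rw [hve, h.toHyp.c_mul_left (h.LV hl) h1'.1 (bh.le_W hb)]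
    exact mul_mem (hcL l hl b hb) (hρL (hρ _ h1' b hb))

/-- **A bad chamber.** -/
theorem Fv.gam (h : Fv S P V M F) {B : Subgroup G} (bh : BH V F B) (hsq : ∀ b ∈ B, b ^ 2 = 1)
    (hBS : B ≤ (S : Subgroup G)) (hUE : ¬ zl (S : Subgroup G) P ≤ EE V F)
    (ha : ∃ m ∈ M, NOne.Flat.WW V F ≤ MulAut.conj m • (S : Subgroup G) ∧
      MulAut.conj m • zl (S : Subgroup G) P ≤ B ∧ ¬ MulAut.conj m • zl (S : Subgroup G) P ≤ F) :
    zl (S : Subgroup G) P ⊓ EE V F ≤ centralizer (B : Set G) ∧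
      MinOffM (zl (S : Subgroup G) P) (S : Subgroup G) B ∧
      ⁅zl (S : Subgroup G) P, B⁆ ⊓ F = ⊥ ∧
      (EE V F).relIndex V ≤ (EE V F).relIndex (zl (S : Subgroup G) P) ∧
      F.relIndex (V ⊓ B) ≤ Nat.card ↥(⁅zl (S : Subgroup G) P, B⁆ : Subgroup G) := by
  obtain ⟨m, hm, hWm, hmB, hmF⟩ := ha
  have hI : ¬ V ⊓ B ≤ F := by
    intro h1
    apply hmF
    refine (le_inf ?_ hmB).trans h1
    rw [← conj_eq_of_norm (h.MV hm)]
    exact conj_le_iff.2 h.LV
  obtain ⟨i1, i2⟩ := h.idxG bh hsq hBS hUE hI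
  have hLE := h.cent_LE bh hsq hBS hUE hm hWm hmB hmF hI
  set L := zl (S : Subgroup G) P with hL
  have rp := Pas.rp_of_concl h.ct h.par h.cvb h.concl
  obtain ⟨b₀, hb₀, hb₀N⟩ := bh.exists_not_mem_NN hI
  obtain ⟨w₀, hw₀, hw₀E⟩ := SetLike.not_le_iff_exists.1 hUE
  -- `C_L(A) ≤ E` for `A ≤ B`, `A ≰ N`
  have hcen : ∀ A ≤ B, ∀ a ∈ A, a ∉ NN V F → L ⊓ centralizer (A : Set G) ≤ EE V F := by
    rintro A hAB a ha haN w ⟨hw, hwA⟩
    refine bh.mem_E_of_c (h.LV hw) (hAB ha) haN ?_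
    rw [c_eq_one' (mem_centralizer_iff.1 hwA a ha).symm]
    exact one_mem _
  have hle : ∀ A ≤ B, ∀ a ∈ A, a ∉ NN V F → F.relIndex (V ⊓ B) ≤ (centralizer (A : Set G)).relIndex L := by
    intro A hAB a ha haN
    rw [← i1]
    have h1 : (L ⊓ centralizer (A : Set G)).relIndex L = (centralizer (A : Set G)).relIndex L := by
      rw [inf_comm, inf_relIndex_right]
    rw [← h1]
    exact relIndex_le_of_le_left (hcen A hAB a ha haN) (rne _ _)
  have hB1 : (centralizer (B : Set G)).relIndex L = F.relIndex (V ⊓ B) := by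
    refine le_antisymm ?_ (hle B le_rfl b₀ hb₀ hb₀N)
    rw [← i1]
    have h1 : (L ⊓ EE V F).relIndex L = (EE V F).relIndex L := by rw [inf_comm, inf_relIndex_right]
    rw [← h1]
    exact relIndex_le_of_le_left hLE (rne _ _)
  -- `C_B(L) ≤ N`
  have hCN : B ⊓ centralizer (L : Set G) ≤ NN V F := by
    rintro b ⟨hb, hbL⟩
    refine bh.mem_NN_of_c (h.LV hw₀) hw₀E hb ?_
    rw [c_eq_one' (mem_centralizer_iff.1 hbL w₀ hw₀)]
    exact one_mem _
  have hne : ¬ B ≤ centralizer (L : Set G) := fun h1 => hb₀N (hCN ⟨hb₀, h1 hb₀⟩)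
  have hB2 : F.relIndex (V ⊓ B) ≤ (centralizer (L : Set G)).relIndex B := by
    rw [← bh.relIndex_B]
    have h1 : (B ⊓ centralizer (L : Set G)).relIndex B = (centralizer (L : Set G)).relIndex B := by
      rw [inf_comm, inf_relIndex_right]
    rw [← h1]
    exact relIndex_le_of_le_left hCN (rne _ _)
  have hoff : OffM L B :=
    { sq := fun b hb => by rw [hsq b hb]; exact one_mem _
      comm := fun a ha b hb => by
        have e : a * b * a⁻¹ * b⁻¹ = 1 := by rw [bh.B_comm ha hb]; group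
        rw [e]; exact one_mem _
      ne := hne
      le := relIndex_le_iff.2 (by rw [hB1]; exact hB2) }
  have hB3 : (centralizer (L : Set G)).relIndex B = F.relIndex (V ⊓ B) := by
    refine le_antisymm ?_ hB2
    have h1 := relIndex_le_iff.1 (h.noOver _ (hBS.trans h.par.le) hoff.toElemM)
    rwa [hB1] at h1
  -- `C_B(L) = B ∩ N`
  have hNC : B ⊓ NN V F ≤ centralizer (L : Set G) := by
    have h1 : B ⊓ centralizer (L : Set G) ≤ B ⊓ NN V F := le_inf inf_le_left hCN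
    have h2 : (B ⊓ centralizer (L : Set G)).relIndex B = (B ⊓ NN V F).relIndex B := by
      rw [inf_comm, inf_relIndex_right, hB3, inf_comm B, inf_relIndex_right, bh.relIndex_B]
    have h3 := card_mul_relIndex' (inf_le_left : B ⊓ centralizer (L : Set G) ≤ B)
    have h4 := card_mul_relIndex' (inf_le_left : B ⊓ NN V F ≤ B)
    have h5 : B ⊓ centralizer (L : Set G) = B ⊓ NN V F := by
      refine Subgroup.eq_of_le_of_card_ge h1 ?_
      rw [h2] at h3
      have h6 : 0 < (B ⊓ NN V F).relIndex B := Nat.pos_of_ne_zero (rne _ _)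
      have h7 := h3.trans h4.symm
      exact (Nat.eq_of_mul_eq_mul_right h6 h7).ge
    rw [← h5]
    exact inf_le_right
  have hmin : MinOffM L (S : Subgroup G) B := by
    refine ⟨hBS, hoff, fun A hAB hA => ?_⟩
    rw [hB3]
    obtain ⟨a, ha, haN⟩ : ∃ a ∈ A, a ∉ NN V F := by
      by_contra hcon
      push Not at hcon
      exact hA.ne fun a ha => hNC ⟨hAB ha, hcon a ha⟩
    exact (hle A hAB a ha haN).trans (relIndex_le_iff.1 hA.le)
  refine ⟨hLE, hmin, ?_, by omega, ?_⟩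
  · rw [eq_bot_iff]
    rintro x ⟨hx1, hx2⟩
    have hw₀B : w₀ ∉ centralizer (B : Set G) := fun h1 => hw₀E (hcen B le_rfl b₀ hb₀ hb₀N ⟨hw₀, h1⟩)
    obtain ⟨a, ha, h1⟩ := rp.surj B hmin w₀ hw₀ hw₀B x hx1
    have h2 : c w₀ a = x⁻¹ := by rw [← h1, c_def]; group
    have haN : a ∈ NN V F := bh.mem_NN_of_c (h.LV hw₀) hw₀E ha (by rw [h2]; exact inv_mem hx2)
    have h3 : c w₀ a = 1 := c_eq_one' (mem_centralizer_iff.1 (hNC ⟨ha, haN⟩) w₀ hw₀)
    rw [h2, inv_eq_one] at h3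
    exact h3
  · rw [rp.card B hmin, hB3]

end main

end Cfsg.Agent.Omega.NO3S.SFive

end

-- merged: Cfsg.Agent.Mrg.Omega.NO3S.SFive.Four
section

/-!
# GammaFF (S5), (4) of helper75 #22081 (helper31 #23010)

`B = BB`, `I = V ∩ B`, `N = NN V F`; `GamO S P V F B` : the output of `Fv.gam` at a chamber `B ≤ S` with `L ≰ E`.

* `Fv.cent_WA` : `C_E(B)` centralises `W_w(I) = {s ∈ W | [w, s] ∈ I} = B N`;
* `Fv.perp` : `C_E(B) = I`;
* `Fv.relIndex_W` : `|W : C_W(I)| = |I : F|`; `Fv.relIndex_E` : `|E : I| = |I : F|`, `Fv.relIndex_EF` : `|E : F| = |I : F|²`;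
* **`Fv.four`** : `C_E(b) ≤ I` for all `b ∈ B - N`.
-/

set_option autoImplicit false
set_option linter.unusedSectionVars false

namespace Cfsg.Agent.Omega.NO3S.SFive

open Subgroup Cfsg Cfsg.Agent.ZN Cfsg.Agent.Omega.MinPar Cfsg.Agent.Omega.Frame Cfsg.Agent.Omega.FrameNOFF
open Cfsg.Agent.Omega.NOne.Flat (EE NN BadX Cos WA conj_eq_of_norm conj_centralizer WW_conj EE_conj conj_eq_of_cent
  card_mul_relIndex')
open Cfsg.Agent.Omega.NOne.NearFF (c c_def)
open Cfsg.Agent.Omega.NoFF.Basic (conj_conj mem_conj conj_le_iff conj_le_centralizer comm_symm comm_mono)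
open Cfsg.Agent.Omega.FFThm (ElemM OffM NoOverM ConclM relIndex_le_iff)
open Cfsg.Agent.Omega.NOThreeL.NF (MinOffM RP)
open Cfsg.Agent.Omega.NOThreeL.Low.Key (BH)
open scoped Pointwise commutatorElement

universe u

variable {G : Type u} [Group G] [Finite G]

/-- **The output of `Fv.gam`** at a chamber `B ≤ S` with a bad line `L`. -/
structure GamO (S P V F B : Subgroup G) : Prop where
  cent : zl S P ⊓ EE V F ≤ centralizer (B : Set G)
  min : MinOffM (zl S P) S B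
  dis : ⁅zl S P, B⁆ ⊓ F = ⊥
  idx : (EE V F).relIndex V ≤ (EE V F).relIndex (zl S P)
  card : F.relIndex (V ⊓ B) ≤ Nat.card ↥(⁅zl S P, B⁆ : Subgroup G)

variable {S : Sylow 2 G} {P V M F : Subgroup G}

/-- `C_E(B)` centralises `{s ∈ W | [w, s] ∈ I} = B N`. -/
theorem cent_WA {B : Subgroup G} (bh : BH V F B) {w : G} (hw : w ∈ V) (hwE : w ∉ EE V F) {e : G}
    (he : e ∈ EE V F) (heB : e ∈ centralizer (B : Set G)) : e ∈ centralizer (WA V F w (V ⊓ B) : Set G) := by
  rw [mem_centralizer_iff]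
  intro t ht
  obtain ⟨htW, htI⟩ := (bh.toHyp.mem_WA hw bh.F_le_I).1 ht
  obtain ⟨b, hb, h1⟩ := bh.surj hw hwE htI
  have hbt : b⁻¹ * t ∈ NN V F := by
    rw [bh.toHyp.c_iff hw (bh.le_W hb) htW] at h1
    exact (bh.toHyp.c_mem_F_iff hw hwE (mul_mem (inv_mem (bh.le_W hb)) htW)).1 h1
  have h2 : e * (b⁻¹ * t) = b⁻¹ * t * e := mem_centralizer_iff.1 hbt.2 e he
  have h3 : b * e = e * b := mem_centralizer_iff.1 heB b hb
  have e1 : t = b * (b⁻¹ * t) := by group
  calc t * e = b * (b⁻¹ * t * e) := by group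
    _ = b * (e * (b⁻¹ * t)) := by rw [h2]
    _ = b * e * (b⁻¹ * t) := by group
    _ = e * b * (b⁻¹ * t) := by rw [h3]
    _ = e * t := by group

namespace Fv

variable (h : Fv S P V M F)
include h

/-- `C_E(B) ≤ I` at a chamber with `B1 ≤ S`. -/
theorem perp_at (hBS : B1 (S : Sylow 2 G) P V M F ≤ (S : Subgroup G))
    (g : GamO (S : Subgroup G) P V F (BB S P V M F)) :
    EE V F ⊓ centralizer (BB S P V M F : Set G) ≤ BB S P V M F := by
  obtain ⟨w, hwL, hwB, hw⟩ := tl h.ct h.par h.cvb h.concl g.min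
  have hwV : w ∈ V := h.LV hwL
  have hwE : w ∉ EE V F := fun h1 => hwB (g.cent ⟨hwL, h1⟩)
  have hFI := h.bh.F_le_I
  have hLB : (⁅zl (S : Subgroup G) P, BB S P V M F⁆ : Subgroup G) ≤ V ⊓ BB S P V M F := by
    rw [commutator_le]
    intro l hl b hb
    exact h.bh.c_memI (h.LV hl) hb
  have key : ∀ s ∈ B1 S P V M F, c w s ∈ V ⊓ BB S P V M F := by
    intro s hs
    have h1 := hLB (hw s (hBS hs) (centralizer_le hLB hs.2))
    have e1 : c w s = (s * w * s⁻¹ * w⁻¹)⁻¹ := by rw [c_def]; group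
    rw [e1]
    exact inv_mem h1
  rintro e ⟨heE, heB⟩
  obtain ⟨s, hs, hse⟩ := h.toHyp.surj hwV hwE heE
  have h2 : c w s ∈ centralizer (WA V F w (V ⊓ BB S P V M F) : Set G) := by
    have e1 : c w s = c w s * e⁻¹ * e := by group
    rw [e1]
    refine mul_mem ?_ (cent_WA h.bh hwV hwE heE heB)
    rw [mem_centralizer_iff]
    intro t ht
    exact (NOne.Flat.Hyp.F_comm hse (NOne.Flat.Hyp.W_le_X (NOne.Flat.Hyp.WA_le_W ht))).symm
  have h3 := (h.toHyp.cent_iff hwV hwE hFI h.bh.I_le_E hs).2 h2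
  have h4 := key s ⟨hs, h3⟩
  have e1 : e = (c w s * e⁻¹)⁻¹ * c w s := by group
  rw [e1]
  exact mul_mem (inv_mem (F_le_BL hse)) h4.2

/-- **`C_E(B) = I`** -/
theorem perp (ha : ∃ m ∈ DW S V M F, ¬ MulAut.conj m • zl (S : Subgroup G) P ≤ F)
    (gam : ∀ m ∈ M, BB S P V M (MulAut.conj m • F) ≤ (S : Subgroup G) →
      ¬ zl (S : Subgroup G) P ≤ EE V (MulAut.conj m • F) →
      GamO (S : Subgroup G) P V (MulAut.conj m • F) (BB S P V M (MulAut.conj m • F))) :
    EE V F ⊓ centralizer (BB S P V M F : Set G) ≤ V ⊓ BB S P V M F := by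
  obtain ⟨m, hm, h1, h2, h3⟩ := h.three ha
  have h' := h.conj hm
  have h4 := h'.perp_at h1 (gam m hm (h'.BB_le_B1.trans h1) h3)
  rw [h.BB_conj hm, ← EE_conj (h.MV hm), ← conj_centralizer, ← Subgroup.smul_inf, conj_le_iff] at h4
  exact le_inf (inf_le_left.trans inf_le_left) h4

/-- `|I : F| ≤ q₀` -/
theorem exists_min (ha : ∃ m ∈ DW S V M F, ¬ MulAut.conj m • zl (S : Subgroup G) P ≤ F)
    (gam : ∀ m ∈ M, BB S P V M (MulAut.conj m • F) ≤ (S : Subgroup G) →
      ¬ zl (S : Subgroup G) P ≤ EE V (MulAut.conj m • F) →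
      GamO (S : Subgroup G) P V (MulAut.conj m • F) (BB S P V M (MulAut.conj m • F))) :
    ∃ Bm, MinOffM (zl (S : Subgroup G) P) (S : Subgroup G) Bm ∧
      F.relIndex (V ⊓ BB S P V M F) ≤ Nat.card ↥(⁅zl (S : Subgroup G) P, Bm⁆ : Subgroup G) ∧
      F.relIndex (V ⊓ BB S P V M F) ≤ (EE V F).relIndex V := by
  obtain ⟨m, hm, h1, h2, h3⟩ := h.exists_bad ha
  have h' := h.conj hm
  have g := gam m hm h1 h3
  have hI : V ⊓ BB S P V M (MulAut.conj m • F) = MulAut.conj m • (V ⊓ BB S P V M F) := by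
    rw [h.BB_conj hm, Subgroup.smul_inf, h.conj_V hm]
  have h4 := g.card
  rw [hI, relIndex_pointwise_smul] at h4
  refine ⟨_, g.min, h4, ?_⟩
  have h5 := (Pas.three h'.ct h'.par h'.tp h'.bh h'.sq_BB h1 h'.LV h3).trans
    (relIndex_le_of_le_right h'.LV index_ne_zero_of_finite)
  rw [hI, relIndex_pointwise_smul, ← EE_conj (h.MV hm)] at h5
  have e3 : (MulAut.conj m • EE V F).relIndex V = (MulAut.conj m • EE V F).relIndex (MulAut.conj m • V) := by
    rw [h.conj_V hm]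
  rwa [e3, relIndex_pointwise_smul] at h5

end Fv

/-! ### The chamber `S` is active -/

namespace Fv

variable (h : Fv S P V M F) (a : BetaFF.Act S P V F)
  (gam : ∀ m ∈ M, BB S P V M (MulAut.conj m • F) ≤ (S : Subgroup G) →
      ¬ zl (S : Subgroup G) P ≤ EE V (MulAut.conj m • F) →
      GamO (S : Subgroup G) P V (MulAut.conj m • F) (BB S P V M (MulAut.conj m • F)))

include h in
theorem one_DW (hWS : NOne.Flat.WW V F ≤ (S : Subgroup G)) : (1 : G) ∈ DW S V M F :=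
  ⟨one_mem _, by rwa [conj_one]⟩

include h in
theorem L_le_BB (hWS : NOne.Flat.WW V F ≤ (S : Subgroup G)) : zl (S : Subgroup G) P ≤ BB S P V M F := by
  have h1 := le_BL' (S := S) (P := P) (F := F) (h.one_DW hWS)
  rwa [conj_one] at h1

include a in
theorem not_L_le : ¬ zl (S : Subgroup G) P ≤ F := by
  intro h1
  apply a.mov
  exact NOne.Flat.Hyp.W_le_X.trans (centralizer_le h1)

include h a in
theorem act_ex : ∃ m ∈ DW S V M F, ¬ MulAut.conj m • zl (S : Subgroup G) P ≤ F :=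
  ⟨1, h.one_DW a.WS, by rw [conj_one]; exact not_L_le a⟩

include h a gam in
/-- `W` is a minimal offender, `|L : L ∩ F| = |W : C_W(L)| = |[L, W]| = |I : F|`. -/
theorem cards : MinOffM (zl (S : Subgroup G) P) (S : Subgroup G) (NOne.Flat.WW V F) ∧
    Nat.card ↥(⁅zl (S : Subgroup G) P, NOne.Flat.WW V F⁆ : Subgroup G) = F.relIndex (V ⊓ BB S P V M F) ∧
    (centralizer (zl (S : Subgroup G) P : Set G)).relIndex (NOne.Flat.WW V F) = F.relIndex (V ⊓ BB S P V M F) ∧
    F.relIndex (zl (S : Subgroup G) P) = F.relIndex (V ⊓ BB S P V M F) := by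
  obtain ⟨Bm, hBm, hq, -⟩ := h.exists_min (h.act_ex a) gam
  have rp := rp_of h.ct h.par h.cvb h.noOver h.concl
  have hLI : zl (S : Subgroup G) P ≤ V ⊓ BB S P V M F := le_inf h.LV (h.L_le_BB a.WS)
  obtain ⟨h1, h2⟩ := min_W a h.noOver rp hLI hBm hq
  have h3 := rp.card _ h1
  have h4 : (centralizer (zl (S : Subgroup G) P : Set G)).relIndex (NOne.Flat.WW V F) ≤
      F.relIndex (zl (S : Subgroup G) P) := by
    have h5 := relIndex_le_iff.1 (h.noOver _ a.WP a.elemM)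
    rwa [a.relIndex_F] at h5
  have h5 : F.relIndex (zl (S : Subgroup G) P) ≤ F.relIndex (V ⊓ BB S P V M F) :=
    relIndex_le_of_le_right hLI (rne _ _)
  exact ⟨h1, h2, by omega, by omega⟩

include h a gam in
/-- `I = L F` -/
theorem exists_mul {r : G} (hr : r ∈ V ⊓ BB S P V M F) : ∃ l ∈ zl (S : Subgroup G) P, l⁻¹ * r ∈ F := by
  have hLI : zl (S : Subgroup G) P ≤ V ⊓ BB S P V M F := le_inf h.LV (h.L_le_BB a.WS)
  have hcos : Cos id (zl (S : Subgroup G) P) F (V ⊓ BB S P V M F) F := ⟨fun l hl => hLI hl, fun _ _ _ _ => Iff.rfl⟩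
  exact hcos.surj (h.cards a gam).2.2.2.ge hr

include h a gam in
/-- `|W : C_W(I)| = |I : F|` -/
theorem relIndex_W : (centralizer ((V ⊓ BB S P V M F : Subgroup G) : Set G)).relIndex (NOne.Flat.WW V F) =
    F.relIndex (V ⊓ BB S P V M F) := by
  rw [← (h.cards a gam).2.2.1, ← inf_relIndex_right, ← inf_relIndex_right (centralizer (zl (S : Subgroup G) P : Set G))]
  congr 1
  have hLI : zl (S : Subgroup G) P ≤ V ⊓ BB S P V M F := le_inf h.LV (h.L_le_BB a.WS)
  refine le_antisymm (inf_le_inf_right _ (centralizer_le hLI)) ?_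
  rintro s ⟨hs, hsW⟩
  refine ⟨mem_centralizer_iff.2 fun r hr => ?_, hsW⟩
  obtain ⟨l, hl, h1⟩ := h.exists_mul a gam hr
  have h2 := mem_centralizer_iff.1 hs l hl
  have h3 : l⁻¹ * r * s = s * (l⁻¹ * r) := NOne.Flat.Hyp.F_comm h1 (NOne.Flat.Hyp.W_le_X hsW)
  calc r * s = l * (l⁻¹ * r * s) := by group
    _ = l * (s * (l⁻¹ * r)) := by rw [h3]
    _ = l * s * (l⁻¹ * r) := by group
    _ = s * l * (l⁻¹ * r) := by rw [h2]
    _ = s * r := by group

include h a gam in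
/-- `|E : C_E(B)| = |I : F|` -/
theorem relIndex_E : (centralizer (BB S P V M F : Set G)).relIndex (EE V F) = F.relIndex (V ⊓ BB S P V M F) := by
  obtain ⟨w, hw, hwE⟩ := h.toHyp.exists_not_mem
  rw [← h.relIndex_W a gam, ← h.toHyp.relIndex_cent_WA hw hwE h.bh.F_le_I h.bh.I_le_E, ← inf_relIndex_right,
    ← inf_relIndex_right (centralizer (WA V F w (V ⊓ BB S P V M F) : Set G))]
  congr 1
  apply le_antisymm
  · rintro e ⟨heB, heE⟩
    exact ⟨cent_WA h.bh hw hwE heE heB, heE⟩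
  · rintro e ⟨heW, heE⟩
    refine ⟨centralizer_le ?_ heW, heE⟩
    exact fun b hb => (h.toHyp.mem_WA hw h.bh.F_le_I).2 ⟨h.bh.le_W hb, h.bh.c_memI hw hb⟩

include h a gam in
/-- `|E : C_E(b)| = |I : F|` for `b ∈ B - N` -/
theorem relIndex_b {b : G} (hb : b ∈ BB S P V M F) (hbN : b ∉ NN V F) :
    (centralizer ({b} : Set G)).relIndex (EE V F) = F.relIndex (V ⊓ BB S P V M F) := by
  obtain ⟨hmin, hcard, -, -⟩ := h.cards a gam
  obtain ⟨-, -, -, hkey⟩ := h.exists_min (h.act_ex a) gam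
  have rp := rp_of h.ct h.par h.cvb h.noOver h.concl
  have hLI : zl (S : Subgroup G) P ≤ V ⊓ BB S P V M F := le_inf h.LV (h.L_le_BB a.WS)
  obtain ⟨r, hrL, hrF⟩ := SetLike.not_le_iff_exists.1 (not_L_le a)
  have hrc : r ∉ centralizer (NOne.Flat.WW V F : Set G) := by
    intro h1
    apply hrF
    rw [← h.toHyp.cent_VW]
    exact ⟨h.LV hrL, h1⟩
  have hbW := h.bh.le_W hb
  rw [← hcard, ← relIndex_bot_left]
  have hcos : Cos (fun e => c e b) (EE V F) (centralizer ({b} : Set G))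
      (⁅zl (S : Subgroup G) P, NOne.Flat.WW V F⁆ : Subgroup G) ⊥ := by
    refine ⟨fun e he => ?_, fun e he e' he' => ?_⟩
    · obtain ⟨s, hs, h1⟩ := (h.bh.root hkey (hLI hrL) hrF hb hbN (c e b)).2 ⟨e, he, rfl⟩
      rw [← h1]
      exact commutator_mem_commutator hrL hs
    · rw [← h.toHyp.c_inv_left he.1 hbW, ← h.toHyp.c_mul_left (inv_mem he.1) he'.1 hbW, mem_bot,
        mem_centralizer_singleton_iff]
      exact ⟨fun h1 => (NOThreeL.Low.Key.comm_of_c h1), fun h1 => NOThreeL.Low.Key.c_eq_one' h1⟩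
  refine hcos.eq_of_surj fun y hy => ?_
  obtain ⟨s, hs, h1⟩ := rp.surj _ hmin r hrL hrc y⁻¹ (inv_mem hy)
  obtain ⟨e, he, h2⟩ := (h.bh.root hkey (hLI hrL) hrF hb hbN y).1 ⟨s, hs, by
    have e1 : c r s = (s * r * s⁻¹ * r⁻¹)⁻¹ := by rw [c_def]; group
    rw [e1, h1, inv_inv]⟩
  refine ⟨e, he, ?_⟩
  rw [h2, inv_mul_cancel]
  exact one_mem _

include h a gam in
/-- **(4)** `C_E(b) ≤ I` for `b ∈ B - N` -/
theorem four : ∀ b ∈ BB S P V M F, b ∉ NN V F → ∀ e ∈ EE V F, e * b = b * e → e ∈ BB S P V M F := by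
  intro b hb hbN e he heb
  have h1 := h.relIndex_b a gam hb hbN
  rw [← h.relIndex_E a gam] at h1
  -- `C_E(B) = C_E(b)`
  have h2 : EE V F ⊓ centralizer (BB S P V M F : Set G) ≤ EE V F ⊓ centralizer ({b} : Set G) :=
    inf_le_inf_left _ (centralizer_le (Set.singleton_subset_iff.2 hb))
  have e1 := card_mul_relIndex' (inf_le_left : EE V F ⊓ centralizer (BB S P V M F : Set G) ≤ EE V F)
  have e2 := card_mul_relIndex' (inf_le_left : EE V F ⊓ centralizer ({b} : Set G) ≤ EE V F)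
  rw [inf_relIndex_left] at e1 e2
  rw [h1, ← e1] at e2
  have h3 := Nat.eq_of_mul_eq_mul_right (Nat.pos_of_ne_zero (rne _ _)) e2
  have h4 := Subgroup.eq_of_le_of_card_ge h2 h3.le
  have h5 : e ∈ EE V F ⊓ centralizer (BB S P V M F : Set G) := by
    rw [h4]
    exact ⟨he, mem_centralizer_singleton_iff.2 heb⟩
  exact (h.perp (h.act_ex a) gam h5).2

include h a gam in
/-- `|E : F| = |I : F|²` -/
theorem relIndex_EF : F.relIndex (EE V F) = F.relIndex (V ⊓ BB S P V M F) * F.relIndex (V ⊓ BB S P V M F) := by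
  have h1 := relIndex_mul_relIndex F (V ⊓ BB S P V M F) (EE V F) h.bh.F_le_I h.bh.I_le_E
  have h2 : V ⊓ BB S P V M F = EE V F ⊓ centralizer (BB S P V M F : Set G) :=
    le_antisymm (le_inf h.bh.I_le_E (inf_le_right.trans h.bh.abel)) (h.perp (h.act_ex a) gam)
  have h3 : (V ⊓ BB S P V M F).relIndex (EE V F) = F.relIndex (V ⊓ BB S P V M F) := by
    rw [← h.relIndex_E a gam]
    conv_lhs => rw [h2]
    rw [inf_relIndex_left]
  rw [← h1, h3]

end Fv

end Cfsg.Agent.Omega.NO3S.SFive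

end

-- merged: Cfsg.Agent.Mrg.Omega.NO3S.SFive.FinAll
section

section


/-!
# GammaFF (S5): helper75's #22081, complete: the output `OutD` of the frame `Fv`

`Fv.gamAll` : the bad chambers (618's `Fv.gam`); `Fv.outAll` : `∃ F' B s, OutD S P V M F F' B s`;
`out_of_wst` : the same from `WSt S P F`.
-/

set_option autoImplicit false
set_option linter.unusedSectionVars false

namespace Cfsg.Agent.Omega.NO3S.SFive

open Subgroup Cfsg Cfsg.Agent.ZN Cfsg.Agent.Omega.MinPar Cfsg.Agent.Omega.Frame Cfsg.Agent.Omega.FrameNOFF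
open Cfsg.Agent.Omega.NoFF.Basic (conj_conj mem_conj conj_le_iff comm_symm comm_mono)
open Cfsg.Agent.Omega.NOne.Flat (EE NN BadX EE_conj)
open Cfsg.Agent.Omega.NO3S.Level
open scoped Pointwise commutatorElement

universe u

variable {G : Type u} [Group G] [Finite G] {S : Sylow 2 G} {P V M F : Subgroup G}

namespace Fv

/-- **The bad chambers.** -/
theorem gamAll (h : Fv S P V M F) (ha : ∃ m ∈ DW S V M F, ¬ MulAut.conj m • zl (S : Subgroup G) P ≤ F) :
    ∀ m ∈ M, BB S P V M (MulAut.conj m • F) ≤ (S : Subgroup G) →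
      ¬ zl (S : Subgroup G) P ≤ EE V (MulAut.conj m • F) →
      GamO (S : Subgroup G) P V (MulAut.conj m • F) (BB S P V M (MulAut.conj m • F)) := by
  intro m hm hBS hUE
  have h' := h.conj hm
  obtain ⟨n, hn, hn2⟩ := h.act_conj hm ha
  obtain ⟨g1, g2, g3, g4, g5⟩ := h'.gam h'.bh h'.sq_BB hBS hUE ⟨n, hn.1, hn.2, le_BL' hn, hn2⟩
  exact ⟨g1, g2, g3, g4, g5⟩

/-- **The output of helper75's #22081.** -/
theorem outAll (h : Fv S P V M F) (hWS : NOne.Flat.WW V F ≤ (S : Subgroup G))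
    (hmov : ¬ NOne.Flat.WW V F ≤ centralizer (zl (S : Subgroup G) P : Set G)) :
    ∃ F' B s, OutD S P V M F F' B s := by
  have a := h.act_one hWS hmov
  have g := h.gamAll (h.act_ex a)
  exact h.out_of' hWS hmov (fun m hm h1 h2 => (g m hm h1 h2).cent) (h.four a g)

end Fv

/-- **`OutD` from `WSt`.** -/
theorem out_of_wst (w : WSt S P F) (hn : NonLoc P (CZ (S : Subgroup G)))
    (hall : ∀ R, IsParS (S : Subgroup G) R → R ≤ normalizer (zl (S : Subgroup G) P : Set G)) :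
    ∃ F' B s, OutD S P (X0 (S : Subgroup G)) (M0 (S : Subgroup G)) F F' B s :=
  (fv_of w hn hall).outAll w.WS (act_of w hn).mov

end Cfsg.Agent.Omega.NO3S.SFive

end

section


/-!
# GammaFF: THEOREM SMALL (helper58 #21256 (4)) in the W-stage

`WSt S P F`, `V = X₀`, `M = M₀`: `Small V (Cls M F)`.  [`D = ⋂ 𝒳 ≠ 1`: `V ∩ O₂(C_G(D')) ≤ D` for `D' ≤ D`; so `Z(T) ≤ D`
for some chamber `T`, and `Z(T) ≤ D` implies `Z(T^p) ≤ D` for `p ∈ R ∈ P*(T)` (low) and `p ∈ N_M(Z(T))`; so `Z^M ≤ D ≤ F`,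
`V_P ≤ F` is centralised by `W_F`.]
-/

set_option autoImplicit false
set_option linter.unusedSectionVars false

namespace Cfsg.Agent.Omega.NO3S.SFive

open Subgroup Cfsg Cfsg.Agent.ZN Cfsg.Agent.Omega.MinPar Cfsg.Agent.Omega.Frame
open Cfsg.Agent.Omega.FrameNOFF (CZ)
open Cfsg.Agent.ZN.ChoiceBase (cj)
open Cfsg.Agent.Omega.NOne.Flat (conj_eq_of_norm EE_conj WW_conj conj_centralizer)
open Cfsg.Agent.Omega.NoFF.Basic (conj_conj mem_conj conj_le_iff conj_le_centralizer)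
open Cfsg.Agent.Omega.NO3S.Level
open scoped Pointwise

universe u

variable {G : Type u} [Group G] [Finite G] {S : Sylow 2 G} {P F : Subgroup G}

/-- **THEOREM SMALL.** -/
theorem small (w : WSt S P F) : Small (X0 (S : Subgroup G)) (Cls (M0 (S : Subgroup G)) F) := by
  intro 𝒳 h𝒳 hne pp v hv
  by_contra hv1
  have hc := w.ctx.char2
  set V := X0 (S : Subgroup G) with hV
  set M := M0 (S : Subgroup G) with hM
  have hMV : M ≤ normalizer (V : Set G) := M0_norm _
  set D : Subgroup G := sInf 𝒳 with hDdef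
  have hDF : ∀ F' ∈ 𝒳, D ≤ F' := fun F' hF' => sInf_le hF'
  have hvD : v ∈ D := by
    rw [hDdef, mem_sInf]
    exact hv
  have hD1 : D ≠ ⊥ := fun h => hv1 (by rw [h, mem_bot] at hvD; exact hvD)
  have hyp : ∀ F' ∈ 𝒳, NOne.Flat.Hyp V F' := by
    intro F' hF'
    obtain ⟨m, hm, rfl⟩ := h𝒳 hF'
    exact w.hyp.conj (hMV hm)
  obtain ⟨F₁, hF₁⟩ := hne
  have hDV : D ≤ V := (hDF F₁ hF₁).trans (hyp F₁ hF₁).F_le_V
  -- (a)
  have step : ∀ D' : Subgroup G, D' ≤ D → V ⊓ o2 (centralizer (D' : Set G)) ≤ D := by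
    intro D' hD'
    rw [hDdef, le_sInf_iff]
    refine pp _ fun F' hF' => ⟨?_, ?_⟩
    · exact BetaFF.le_EE_of_low (hyp F' hF') inf_le_left (hD'.trans (hDF F' hF')) inf_le_right
    · have h1 : NOne.Flat.WW V F' ≤ normalizer (V : Set G) := (hyp F' hF').W_norm_V
      have h2 : NOne.Flat.WW V F' ≤ centralizer (D' : Set G) :=
        NOne.Flat.Hyp.W_le_X.trans (centralizer_le (hD'.trans (hDF F' hF')))
      have h3 : NOne.Flat.WW V F' ≤ normalizer (o2 (centralizer (D' : Set G)) : Set G) :=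
        h2.trans (MinSimple.VModule.le_normalizer_o2 _)
      intro x hx
      have a1 := mem_normalizer_iff.1 (h1 hx)
      have a2 := mem_normalizer_iff.1 (h3 hx)
      rw [mem_normalizer_iff]
      intro y
      rw [mem_inf, mem_inf, a1 y, a2 y]
  -- (b)
  obtain ⟨m₀, hm₀, hZ₀⟩ : ∃ m ∈ M, MulAut.conj m • zc (S : Subgroup G) ≤ D := by
    have hK : K0 (S : Subgroup G) ≤ centralizer (D : Set G) := (K0_cent _).trans (centralizer_le hDV)
    obtain ⟨T, hT, hKT⟩ := ChoiceSit.exists_syl (S.isPGroup'.to_le (K0_le (S : Subgroup G))) hK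
    have hTM : T ≤ M := w.pgroup_le hT.2.1 hKT
    obtain ⟨n, hn, hnS⟩ := FFThm.exists_conj_le S (S_le_M0 _) hT.2.1 hTM
    refine ⟨n⁻¹, inv_mem hn, ?_⟩
    have hZV : MulAut.conj n⁻¹ • zc (S : Subgroup G) ≤ V := by
      rw [← conj_eq_of_norm (hMV (inv_mem hn))]
      exact conj_le_iff.2 w.zc_le_X0
    have hTS : T ≤ MulAut.conj n⁻¹ • (S : Subgroup G) := by
      have h1 := conj_le_iff (g := n⁻¹).2 (show MulAut.conj n • T ≤ (S : Subgroup G) from hnS)
      rwa [conj_conj, inv_mul_cancel, map_one, one_smul] at h1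
    have hZT : MulAut.conj n⁻¹ • zc (S : Subgroup G) ≤ centralizer (o2 (centralizer (D : Set G)) : Set G) := by
      refine le_trans (conj_le_centralizer (le_centralizer_iff.1 (Level.le_centralizer_zc _))) (centralizer_le ?_)
      exact (ChoiceSit.o2_le_syl hT).trans hTS
    have hZC : MulAut.conj n⁻¹ • zc (S : Subgroup G) ≤ centralizer (D : Set G) :=
      hZV.trans ((X0_comm _).trans (centralizer_le hDV))
    have h2 := w.char2 D hD1 hDV
    exact (le_inf hZV ((le_inf hZC hZT).trans h2)).trans (step D le_rfl)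
  -- (c)
  have hstep : ∀ g ∈ M, MulAut.conj g • zc (S : Subgroup G) ≤ D → ∀ R, IsParS (S : Subgroup G) R → ∀ p ∈ R,
      MulAut.conj (g * p) • zc (S : Subgroup G) ≤ D := by
    intro g hg hZ R hR p hp
    refine le_trans ?_ (step _ hZ)
    have h1 : MulAut.conj (g * p) • zc (S : Subgroup G) ≤ MulAut.conj g • zl (S : Subgroup G) R := by
      rw [← conj_conj]
      exact conj_le_iff.2 (le_iSup (fun g : R => (zc (S : Subgroup G)).map (MulAut.conj (g : G)).toMonoidHom) ⟨p, hp⟩)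
    refine h1.trans (le_inf ?_ ?_)
    · rw [← conj_eq_of_norm (hMV hg)]
      exact conj_le_iff.2 (zl_le_X0 w.hj (par_le hR))
    · have h2 := conj_le_iff (g := g).2 (w.low R hR)
      rwa [NOne.Flat.o2_conj, CZ, conj_centralizer] at h2
  -- (d)
  let Y : Subgroup G :=
    { carrier := {y | y ∈ M ∧ ∀ g ∈ M, MulAut.conj g • zc (S : Subgroup G) ≤ D ↔
        MulAut.conj (g * y) • zc (S : Subgroup G) ≤ D}
      one_mem' := ⟨one_mem _, fun g _ => by rw [mul_one]⟩
      mul_mem' := by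
        rintro a b ⟨ha, ha'⟩ ⟨hb, hb'⟩
        refine ⟨mul_mem ha hb, fun g hg => ?_⟩
        rw [ha' g hg, hb' _ (mul_mem hg ha), mul_assoc]
      inv_mem' := by
        rintro a ⟨ha, ha'⟩
        refine ⟨inv_mem ha, fun g hg => ?_⟩
        rw [ha' _ (mul_mem hg (inv_mem ha)), inv_mul_cancel_right] }
  have hnz : ∀ g y : G, y ∈ normalizer (zc (S : Subgroup G) : Set G) →
      MulAut.conj (g * y) • zc (S : Subgroup G) = MulAut.conj g • zc (S : Subgroup G) := by
    intro g y hy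
    rw [← conj_conj, conj_eq_of_norm hy]
  have hMY : M ≤ Y := by
    refine w.isLoc_M0.le_of_forall S ?_ ?_
    · rintro y ⟨hy, hyS⟩
      refine ⟨hy, fun g _ => ?_⟩
      rw [hnz g y (normalizer_le_normalizer_zc _ hyS)]
    · intro R hR hRM p hp
      by_cases hRZ : R ≤ normalizer (zc (S : Subgroup G) : Set G)
      · refine ⟨hRM hp, fun g _ => ?_⟩
        rw [hnz g p (hRZ hp)]
      · have hRs : IsParS (S : Subgroup G) R := ⟨hR, hRZ⟩
        refine ⟨hRM hp, fun g hg => ⟨fun h => hstep g hg h R hRs p hp, fun h => ?_⟩⟩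
        have h1 := hstep (g * p) (mul_mem hg (hRM hp)) h R hRs p⁻¹ (inv_mem hp)
        rwa [mul_inv_cancel_right] at h1
  have hall : ∀ m ∈ M, MulAut.conj m • zc (S : Subgroup G) ≤ D := by
    intro m hm
    have h1 := ((hMY (mul_mem (inv_mem hm₀) hm)).2 m₀ hm₀).1 hZ₀
    rwa [mul_inv_cancel_left] at h1
  -- (e)
  obtain ⟨n, hn, hF₁e⟩ := h𝒳 hF₁
  have hZF : ∀ m ∈ M, MulAut.conj m • zc (S : Subgroup G) ≤ F := by
    intro m hm
    have h1 := (hall (n * m) (mul_mem hn hm)).trans (hDF F₁ hF₁)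
    rw [hF₁e, ← conj_conj] at h1
    exact conj_le_iff.1 h1
  have hL : zl (S : Subgroup G) P ≤ F := iSup_le fun p => hZF p (par_le w.par p.2)
  apply w.mv
  rw [← IsParS.inf_centralizer S hc w.par]
  refine le_inf w.WS ?_
  exact NOne.Flat.Hyp.W_le_X.trans (centralizer_le hL)

end Cfsg.Agent.Omega.NO3S.SFive

end

section


/-!
# GammaFF (S5): `Ends K FiveP`

* `five_false` : `FiveP G S P` and the type data `TyD` for two minimal offenders ⟹ `False`;
* **`endsFive : Ends K FiveP`**, for every class `K`.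
-/

set_option autoImplicit false

namespace Cfsg.Agent.Omega.NO3S.SFive.EndsFive

open Subgroup Cfsg Cfsg.Agent.ZN Cfsg.Agent.Omega.MinPar Cfsg.Agent.Omega.Frame
open Cfsg.Agent.Omega.NO3S.Level
open Cfsg.Agent.Omega.NOThreeL.NF (MinOffM)

universe u

variable {G : Type u} [Group G] [Finite G]

theorem five_false {S : Sylow 2 G} {P : Subgroup G} (h : FiveP G S P)
    (ty : IsCharacteristicTwoType G → IsParS (S : Subgroup G) P → FrameFF.cv (S : Subgroup G) P = ⊥ →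
      ∀ A B : Subgroup G, MinOffM (zl (S : Subgroup G) P) (S : Subgroup G) A →
        MinOffM (zl (S : Subgroup G) P) (S : Subgroup G) B →
          ∃ N K : Subgroup G, TyD (S : Subgroup G) P A B N K) : False := by
  obtain ⟨hpss, ⟨F, w⟩, hall, -⟩ := h
  have hn := hpss.nonLoc
  obtain ⟨F', B, s, o⟩ := out_of_wst w hn hall
  have v := fv_of w hn hall
  obtain ⟨N, K, t⟩ := ty v.ct v.par v.cvb _ _ o.min o.minB
  exact o.false t (small w) v.VS v.par.le v.PM v.MV v.LV v.ne (o2_le_cent v.ct v.par) v.t6 v.noOff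

/-- **The ends of (S5).** -/
theorem endsFive (K : Cfsg.Agent.Omega.Frame.Cls.{u}) : Ends K FiveP where
  red := WCPlug.redH_five K
  w := WCPlug.wH_five K
  multiTwo := by
    intro G _ _ _ S P h F _ _ _ k hk _ M
    refine (five_false h fun hc hP hcv A B hA hB => ?_).elim
    rw [hcv] at M
    exact NatD.tyd M hk (Half.amb_of_loc hc S hP.isLoc) hA hB
  multiQ := by
    intro G _ _ _ S P h F _ _ _ k hk _ M
    refine (five_false h fun hc hP hcv A B hA hB => ?_).elim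
    rw [hcv] at M
    exact NatD.tyd M hk (Half.amb_of_loc hc S hP.isLoc) hA hB
  symTwo := by
    intro G _ _ _ S P h M
    exact (five_false h fun hc hP hcv A B hA hB => TyS.tyD_sym hc hP hcv le_rfl M hA hB).elim
  symBig := by
    intro G _ _ _ S P h m hm M
    exact (five_false h fun hc hP hcv A B hA hB => TyS.tyD_sym hc hP hcv (by omega) M hA hB).elim
  symMany := by
    intro G _ _ _ S P h k m _ hm M
    exact (five_false h fun hc hP hcv A B hA hB => TyS.tyD_sym hc hP hcv hm M hA hB).elim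

end Cfsg.Agent.Omega.NO3S.SFive.EndsFive

end

section


/-!
# GammaFF (S5): the output of #22081 from the frame (helper75 #22081, helper31 #23010)

`Gw S P V M F` : `[L ∩ E', B'] = 1` at all chambers `B' ≤ S` with `L ≰ E'`.

* `Fv.gamOw` : `GamO` from `Gw`;
* `Fv.gw_of` : `Gw`, if no `B ≤ S` with `[L, B] ≠ 1` has `[V, B] ≤ L` (helper531, `Fv.not_VB`);
* `Fv.perp_of`, `Fv.four_of` : (4) from `Gw`;
* **`Fv.outF`** : `OutD S P V M F F' B s` from `Gw`.
-/

set_option autoImplicit false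

namespace Cfsg.Agent.Omega.NO3S.SFive

open Subgroup Cfsg Cfsg.Agent.ZN Cfsg.Agent.Omega.MinPar Cfsg.Agent.Omega.Frame Cfsg.Agent.Omega.FrameNOFF
open Cfsg.Agent.Omega.NOne.Flat (EE NN)
open Cfsg.Agent.Omega.NOne.NearFF (c)
open scoped Pointwise commutatorElement

universe u

variable {G : Type u} [Group G] [Finite G] {S : Sylow 2 G} {P V M F : Subgroup G}

/-- `[L ∩ E', B'] = 1` at all chambers `B' ≤ S` with `L ≰ E'` -/
def Gw (S : Sylow 2 G) (P V M F : Subgroup G) : Prop :=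
  ∀ m ∈ M, BB S P V M (MulAut.conj m • F) ≤ (S : Subgroup G) →
    ¬ zl (S : Subgroup G) P ≤ EE V (MulAut.conj m • F) →
      zl (S : Subgroup G) P ⊓ EE V (MulAut.conj m • F) ≤
        centralizer ((BB S P V M (MulAut.conj m • F) : Subgroup G) : Set G)

namespace Fv

variable (h : Fv S P V M F)
include h

theorem gamOw (ha : ∃ m ∈ DW S V M F, ¬ MulAut.conj m • zl (S : Subgroup G) P ≤ F) (gw : Gw S P V M F) :
    ∀ m ∈ M, BB S P V M (MulAut.conj m • F) ≤ (S : Subgroup G) →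
      ¬ zl (S : Subgroup G) P ≤ EE V (MulAut.conj m • F) →
      GamO (S : Subgroup G) P V (MulAut.conj m • F) (BB S P V M (MulAut.conj m • F)) := by
  intro m hm hBS hUE
  have h' := h.conj hm
  have hg := gw m hm hBS hUE
  obtain ⟨h1, h2, h3, h4⟩ := h'.gam_of h'.bh h'.sq_BB hBS hUE (h'.not_le_F (h.act_conj hm ha) le_rfl) hg
  exact ⟨hg, h1, h2, h3, h4⟩

/-- `Gw` from: no `B ≤ S` with `[L, B] ≠ 1` has `[V, B] ≤ L` -/
theorem gw_of (ha : ∃ m ∈ DW S V M F, ¬ MulAut.conj m • zl (S : Subgroup G) P ≤ F)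
    (nvb : ∀ B ≤ (S : Subgroup G), ¬ B ≤ centralizer (zl (S : Subgroup G) P : Set G) →
      ¬ ∀ v ∈ V, ∀ b ∈ B, c v b ∈ zl (S : Subgroup G) P) : Gw S P V M F := by
  intro m hm hBS hUE
  have h' := h.conj hm
  have ha' := h.act_conj hm ha
  by_contra hne
  refine nvb _ hBS (fun h1 => hne (inf_le_left.trans (le_centralizer_iff.1 h1))) ?_
  refine h'.comm_le h'.bh h'.sq_BB hBS hUE ?_ hne
  obtain ⟨m', hm', h1⟩ := ha'
  exact ⟨m', hm'.1, hm'.2, le_BL' hm', h1⟩

/-- `C_E(B) = I` -/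
theorem perp_of (ha : ∃ m ∈ DW S V M F, ¬ MulAut.conj m • zl (S : Subgroup G) P ≤ F) (gw : Gw S P V M F) :
    EE V F ⊓ centralizer (BB S P V M F : Set G) ≤ V ⊓ BB S P V M F := h.perp ha (h.gamOw ha gw)

/-- **(4)** -/
theorem four_of (a : BetaFF.Act S P V F) (gw : Gw S P V M F) :
    ∀ b ∈ BB S P V M F, b ∉ NN V F → ∀ e ∈ EE V F, e * b = b * e → e ∈ BB S P V M F :=
  h.four a (h.gamOw (h.act_ex a) gw)

/-- **The output of #22081.** -/
theorem outF (hWS : NOne.Flat.WW V F ≤ (S : Subgroup G))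
    (hmov : ¬ NOne.Flat.WW V F ≤ centralizer (zl (S : Subgroup G) P : Set G)) (gw : Gw S P V M F) :
    ∃ F' B s, OutD S P V M F F' B s :=
  h.out_of' hWS hmov gw (h.four_of (h.act_one hWS hmov) gw)

end Fv

end Cfsg.Agent.Omega.NO3S.SFive

end

section


/-!
# GammaFF: (S5) is impossible (helper422 #22571, helper75 #22081, helper58 #22615; `k = 1`: helper879 #23006)

* `OneK` : the natural case `k = 1` (helper879, `SFive/WC*.lean`);
* `false_of_fiveP` : `FiveP G S P` is impossible;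
* **`gamFive`** : the literal of `GamFive K` (`Node/NO3SGam.lean`).
-/

set_option autoImplicit false

namespace Cfsg.Agent.Omega.NO3S.SFive

open Subgroup Cfsg Cfsg.Agent.ZN Cfsg.Agent.Omega.MinPar Cfsg.Agent.Omega.Frame Cfsg.Agent.Omega.FrameNOFF
open Cfsg.Agent.Omega.NO3S.Level
open Cfsg.Agent.Omega.NOThreeL.Merge (MZ)
open scoped Pointwise

universe u

/-- The natural case `k = 1`. -/
def OneK : Prop :=
  ∀ (G : Type u) [Group G] [Finite G] (S : Sylow 2 G) (P F : Subgroup G), WSt S P F → PSS (S : Subgroup G) P →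
    zl (S : Subgroup G) (MZ (S : Subgroup G)) = zl (S : Subgroup G) P → ∀ (K : Type) [Field K] [Finite K] [CharP K 2],
      4 ≤ Nat.card K → NatP K (zl (S : Subgroup G) P) P → False

section

variable {G : Type u} [Group G] [Finite G] {S : Sylow 2 G} {P F : Subgroup G}

/-- **(S5) is impossible.** -/
theorem false_of_wSt (h1 : OneK.{u}) (w : WSt S P F) (hn : PSS (S : Subgroup G) P)
    (hall : ∀ R, IsParS (S : Subgroup G) R → R ≤ normalizer (zl (S : Subgroup G) P : Set G))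
    (he : zl (S : Subgroup G) (MZ (S : Subgroup G)) = zl (S : Subgroup G) P) : False := by
  have h := fv_of w hn.nonLoc hall
  obtain ⟨F', B, s, o⟩ := out_of_wst w hn.nonLoc hall
  have key : ∀ N K : Subgroup G, TyD (S : Subgroup G) P (NOne.Flat.WW (X0 (S : Subgroup G)) F) B N K → False :=
    fun N K t => o.false t (small w) h.VS h.SP h.PM h.MV h.LV h.ne (o2_le_cent h.ct h.par) h.t6 h.noOff
  rcases h.concl with ⟨K, _, _, _, k, hk, ⟨N⟩⟩ | ⟨k, m, hk, hm, ⟨N⟩⟩
  · rcases Nat.lt_or_ge k 2 with hk2 | hk2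
    · obtain rfl : k = 1 := by omega
      have hH := w.toHypC.hypN w.par hn.nonLoc
      obtain ⟨K', _, _, _, ⟨M⟩⟩ := hH.toHyp.exists_natP N.toNatK.single
      rcases card_field' (F := K') with h5 | h5
      · exact absurd (by rw [M.card, h5]; norm_num) (w.toHypC.four P w.par hn.nonLoc)
      · exact h1 G S P F w hn he K' h5 M
    · rw [h.cvb] at N
      obtain ⟨N', K', t⟩ := NatD.tyd N hk2 (Half.amb_of_loc h.ct S h.par.isLoc) o.min o.minB
      exact key N' K' t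
  · obtain ⟨N', K', t⟩ := TyS.tyD_sym h.ct h.par h.cvb hm N o.min o.minB
    exact key N' K' t

/-- `FiveP` is impossible. -/
theorem false_of_fiveP (h1 : OneK.{u}) (h : FiveP G S P) : False := by
  obtain ⟨hP, ⟨F, w⟩, hall, he⟩ := h
  exact false_of_wSt h1 w hP hall he

/-- **(S5)**, the literal of `GamFive`. -/
theorem false_of_five (h1 : OneK.{u}) (h : WSt S P F) (hff : FFMod (S : Subgroup G) P)
    (hall : ∀ R, IsParS (S : Subgroup G) R → R ≤ normalizer (zl (S : Subgroup G) P : Set G))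
    (he : zl (S : Subgroup G) (MZ (S : Subgroup G)) = zl (S : Subgroup G) P)
    (hR : ∃ R, PSS (S : Subgroup G) R ∧ zl (S : Subgroup G) R = zl (S : Subgroup G) P) : False := by
  obtain ⟨R, hR, hRe⟩ := hR
  obtain ⟨R, hR⟩ := exists_five h hff hall (Or.inl ⟨R, hR, he.trans hRe.symm⟩)
  exact false_of_fiveP h1 hR

end

/-- **`GamFive K`** (`Node/NO3SGam.lean`). -/
theorem gamFive_one (K : Cfsg.Agent.Omega.Frame.Cls.{u}) (h1 : OneK.{u}) :
    ∀ (G : Type u) [Group G] [Finite G], K G → ∀ (S : Sylow 2 G) (P F : Subgroup G), WSt S P F →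
    zc (S : Subgroup G) ⊓ centralizer (P : Set G) = ⊥ → FFMod (S : Subgroup G) P →
      (∀ R, IsParS (S : Subgroup G) R → R ≤ normalizer (zl (S : Subgroup G) P : Set G)) →
        zl (S : Subgroup G) (MZ (S : Subgroup G)) = zl (S : Subgroup G) P →
          (∃ R, PSS (S : Subgroup G) R ∧ zl (S : Subgroup G) R = zl (S : Subgroup G) P) → IsKnownSimple' G :=
  fun _ _ _ _ _ _ _ w _ hff hall he hR => (false_of_five h1 w hff hall he hR).elim

end Cfsg.Agent.Omega.NO3S.SFive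

end

section


/-!
# GammaFF: (S5) is impossible, all types

* `oneK` : the natural case `k = 1` (helper879 #23006: `Wv.norm_le`; helper618: `Fv.exists_move`);
* `not_fiveP`, `not_five` : (S5) is impossible;
* **`gamFive`** : the literal of `GamFive K` (`Node/NO3SGam.lean`), no hypothesis.
-/

set_option autoImplicit false

namespace Cfsg.Agent.Omega.NO3S.SFive

open Subgroup Cfsg Cfsg.Agent.ZN Cfsg.Agent.Omega.MinPar Cfsg.Agent.Omega.Frame Cfsg.Agent.Omega.FrameNOFF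
open Cfsg.Agent.Omega.NO3S.Level
open Cfsg.Agent.Omega.NOThreeL.Merge (MZ)
open scoped Pointwise

universe u

/-- **The natural case `k = 1`.** -/
theorem oneK : OneK.{u} := by
  intro G _ _ S P F w hP he K _ _ _ h4 N
  have hH := (w.toHypC.hypN w.par hP.nonLoc).toHyp
  have hall : ∀ R, IsParS (S : Subgroup G) R → R ≤ normalizer (zl (S : Subgroup G) P : Set G) := by
    intro R hR
    have h1 : R ≤ MZ (S : Subgroup G) := le_sSup hR
    rw [← he]
    exact h1.trans (ZN.le_normalizer_zl _ _)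
  have h := fv_of w hP.nonLoc hall
  obtain ⟨C⟩ := Fld.exists_crd hH N
  have hv : One.Wv S P (X0 (S : Subgroup G)) (M0 (S : Subgroup G)) F C :=
    { toAct := act_of w hP.nonLoc
      four := h4
      PM := h.PM
      MV := h.MV
      VS := h.VS
      WM := h.WM
      goodL := h.good
      noffL := h.noffL
      prin := h.prin }
  obtain ⟨T, hT1, hT2, n, hn, -, hne⟩ := h.exists_move hall
  have h3 := hv.norm_le FF.Glob.ffthmM (fun T h1 h2 => norm_le ((K0_le_o2 w.par).trans h1) h2) hT1 hT2 hn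
  exact hne (NOne.Flat.conj_eq_of_norm h3).le

section

variable {G : Type u} [Group G] [Finite G] {S : Sylow 2 G} {P F : Subgroup G}

/-- `FiveP` is impossible. -/
theorem not_fiveP (h : FiveP G S P) : False := false_of_fiveP oneK h

/-- **(S5) is impossible.** -/
theorem not_five (h : WSt S P F) (hff : FFMod (S : Subgroup G) P)
    (hall : ∀ R, IsParS (S : Subgroup G) R → R ≤ normalizer (zl (S : Subgroup G) P : Set G))
    (he : zl (S : Subgroup G) (MZ (S : Subgroup G)) = zl (S : Subgroup G) P)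
    (hR : ∃ R, PSS (S : Subgroup G) R ∧ zl (S : Subgroup G) R = zl (S : Subgroup G) P) : False :=
  false_of_five oneK h hff hall he hR

end

/-- **`GamFive K`** (`Node/NO3SGam.lean`). -/
theorem gamFive (K : Cfsg.Agent.Omega.Frame.Cls.{u}) :
    ∀ (G : Type u) [Group G] [Finite G], K G → ∀ (S : Sylow 2 G) (P F : Subgroup G), WSt S P F →
    zc (S : Subgroup G) ⊓ centralizer (P : Set G) = ⊥ → FFMod (S : Subgroup G) P →
      (∀ R, IsParS (S : Subgroup G) R → R ≤ normalizer (zl (S : Subgroup G) P : Set G)) →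
        zl (S : Subgroup G) (MZ (S : Subgroup G)) = zl (S : Subgroup G) P →
          (∃ R, PSS (S : Subgroup G) R ∧ zl (S : Subgroup G) R = zl (S : Subgroup G) P) → IsKnownSimple' G :=
  gamFive_one K oneK

end Cfsg.Agent.Omega.NO3S.SFive

end

section


/-!
# GammaFF (S5): the commutator offender (LEMMA (A) of helper800, #23098)

`V` an elementary abelian 2-group, `B` and `a` normalise `V`, `[V, B, B] = 1`, `[V, a, a] = 1`, `[V, a, B] = 1`.  For
`b ∈ B` the commutator `[b, a]` acts on `V` as `v ↦ v [[v, b], a]`.  So, if every `b ∈ B ∖ C(V)` has some `[v, b]` which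
is moved by `a`, and `|V : H| ≤ |B : C_B(V)|` for some `H ≤ V` with `[[H, B], a] = 1`, the group generated by the
`[b, a]`, `b ∈ B`, is an offender on `V`.

* `Dat V B a` : the quadratic data;
* `Dat.cc` : `c v (b a b⁻¹ a⁻¹) = c (c v b) a`;
* **`Dat.exists_off`** : `∃ A ≤ B ⊔ zpowers a, OffM V A`;
* `Dat.exists_off_K`, `Dat.false_of_K` : the same with `|B : B ∩ K|`, `[V, b, a] ≠ 1` for `b ∈ B ∖ K`;
* `Dat.false_of`, **`Dat.false_of_D`** : impossible if `V` has no offender.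
-/

set_option autoImplicit false

namespace Cfsg.Agent.Omega.NO3S.SFive.CommOff

open Subgroup Cfsg
open Cfsg.Agent.Omega.NOne.NearFF (c c_def)
open Cfsg.Agent.Omega.FFThm (OffM ElemM)

universe u

variable {G : Type u} [Group G] {V B : Subgroup G} {a : G}

/-- The quadratic data. -/
structure Dat (V B : Subgroup G) (a : G) : Prop where
  sq : ∀ v ∈ V, v * v = 1
  comm : ∀ v ∈ V, ∀ w ∈ V, v * w = w * v
  BV : B ≤ normalizer (V : Set G)
  aV : a ∈ normalizer (V : Set G)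
  qB : ∀ v ∈ V, ∀ b ∈ B, ∀ b' ∈ B, c (c v b) b' = 1
  qa : ∀ v ∈ V, c (c v a) a = 1
  aB : ∀ v ∈ V, ∀ b ∈ B, c (c v a) b = 1

section basic

/-- `x v x⁻¹ = v [v, x]` -/
theorem cj_eq (sq : ∀ v ∈ V, v * v = 1) {x v : G}
    (hx : x ∈ normalizer (V : Set G)) (hv : v ∈ V) : x * v * x⁻¹ = v * c v x := by
  have h1 : x * v * x⁻¹ ∈ V := (mem_normalizer_iff.1 hx v).1 hv
  have h2 : (x * v * x⁻¹)⁻¹ = x * v * x⁻¹ := inv_eq_of_mul_eq_one_right (sq _ h1)
  have h3 : c v x = v * (x * v * x⁻¹) := by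
    rw [← h2, c_def]; group
  rw [h3, ← mul_assoc, sq v hv, one_mul]

/-- `[v, x] = v (x v x⁻¹)` -/
theorem c_eq (sq : ∀ v ∈ V, v * v = 1) {x v : G} (hx : x ∈ normalizer (V : Set G)) (hv : v ∈ V) :
    c v x = v * (x * v * x⁻¹) := by
  have h1 : x * v * x⁻¹ ∈ V := (mem_normalizer_iff.1 hx v).1 hv
  have h2 : (x * v * x⁻¹)⁻¹ = x * v * x⁻¹ := inv_eq_of_mul_eq_one_right (sq _ h1)
  rw [← h2, c_def]; group

theorem c_mem {x v : G} (hx : x ∈ normalizer (V : Set G)) (hv : v ∈ V) : c v x ∈ V := by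
  have h1 : x * v * x⁻¹ ∈ V := (mem_normalizer_iff.1 hx v).1 hv
  have h3 : c v x = v * (x * v * x⁻¹)⁻¹ := by rw [c_def]; group
  rw [h3]
  exact V.mul_mem hv (V.inv_mem h1)

theorem c_one_right (v : G) : c v 1 = 1 := by rw [c_def]; group

theorem c_one_left (x : G) : c 1 x = 1 := by rw [c_def]; group

theorem c_mul_left (sq : ∀ v ∈ V, v * v = 1) (comm : ∀ v ∈ V, ∀ w ∈ V, v * w = w * v) {x v w : G}
    (hx : x ∈ normalizer (V : Set G)) (hv : v ∈ V) (hw : w ∈ V) : c (v * w) x = c v x * c w x := by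
  have h1 : x * v * x⁻¹ ∈ V := (mem_normalizer_iff.1 hx v).1 hv
  have h2 : x * w * x⁻¹ ∈ V := (mem_normalizer_iff.1 hx w).1 hw
  rw [c_eq sq hx (V.mul_mem hv hw), c_eq sq hx hv, c_eq sq hx hw]
  have e : x * (v * w) * x⁻¹ = (x * v * x⁻¹) * (x * w * x⁻¹) := by group
  rw [e]
  calc v * w * (x * v * x⁻¹ * (x * w * x⁻¹)) = v * (w * (x * v * x⁻¹)) * (x * w * x⁻¹) := by group
    _ = v * ((x * v * x⁻¹) * w) * (x * w * x⁻¹) := by rw [comm w hw _ h1]
    _ = _ := by group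

theorem c_mul_right (sq : ∀ v ∈ V, v * v = 1) {x y v : G}
    (hx : x ∈ normalizer (V : Set G)) (hy : y ∈ normalizer (V : Set G)) (hv : v ∈ V) :
    c v (x * y) = c v x * c v y * c (c v y) x := by
  have hcy := c_mem hy hv
  have hcx := c_mem hx hv
  have h1 : x * y * v * (x * y)⁻¹ = v * (c v x * c v y * c (c v y) x) := by
    calc x * y * v * (x * y)⁻¹ = x * (y * v * y⁻¹) * x⁻¹ := by group
      _ = x * (v * c v y) * x⁻¹ := by rw [cj_eq sq hy hv]
      _ = (x * v * x⁻¹) * (x * c v y * x⁻¹) := by group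
      _ = (v * c v x) * (c v y * c (c v y) x) := by rw [cj_eq sq hx hv, cj_eq sq hx hcy]
      _ = _ := by group
  rw [c_eq sq (mul_mem hx hy) hv, h1, ← mul_assoc, sq v hv, one_mul]

theorem card_rel {H K : Subgroup G} (h : H ≤ K) : H.relIndex K * Nat.card H = Nat.card K := by
  rw [mul_comm, ← relIndex_bot_left, ← relIndex_bot_left]
  exact relIndex_mul_relIndex ⊥ H K bot_le h

/-- centralisers by commutators -/
theorem mem_cent {x : G} : x ∈ centralizer (V : Set G) ↔ ∀ v ∈ V, c v x = 1 := by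
  rw [mem_centralizer_iff]
  constructor
  · intro h v hv
    rw [c_def, h v hv]; group
  · intro h v hv
    have h1 := h v hv
    rw [c_def, mul_inv_eq_one, mul_inv_eq_iff_eq_mul] at h1
    exact h1

end basic

namespace Dat

variable (D : Dat V B a)
include D

theorem cj {x v : G} (hx : x ∈ normalizer (V : Set G)) (hv : v ∈ V) : x * v * x⁻¹ = v * c v x :=
  cj_eq D.sq hx hv

/-- `x` acts on `V` as `v ↦ v [[v, b], a]` -/
def Act (_ : Dat V B a) (x b : G) : Prop := x ∈ normalizer (V : Set G) ∧ ∀ v ∈ V, c v x = c (c v b) a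

/-- **`[v, [b, a]] = [[v, b], a]`** -/
theorem cc {b : G} (hb : b ∈ B) : D.Act (b * a * b⁻¹ * a⁻¹) b := by
  have hbV := D.BV hb
  have hxV : b * a * b⁻¹ * a⁻¹ ∈ normalizer (V : Set G) :=
    mul_mem (mul_mem (mul_mem hbV D.aV) (inv_mem hbV)) (inv_mem D.aV)
  refine ⟨hxV, fun v hv => ?_⟩
  -- `v = w ^ {(a b)}`
  have habV : a * b ∈ normalizer (V : Set G) := mul_mem D.aV hbV
  obtain ⟨w, hw, rfl⟩ : ∃ w ∈ V, v = (a * b) * w * (a * b)⁻¹ := by
    refine ⟨(a * b)⁻¹ * v * (a * b)⁻¹⁻¹, (mem_normalizer_iff.1 (inv_mem habV) v).1 hv, by group⟩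
  have hcb := c_mem hbV hw
  have hca := c_mem D.aV hw
  have hcba := c_mem D.aV hcb
  -- the action of `b a` and `a b`
  have h1 : c w (b * a) = c w b * c w a := by
    rw [c_mul_right D.sq hbV D.aV hw, D.aB w hw b hb, mul_one]
  have h2 : c w (a * b) = c w a * c w b * c (c w b) a := c_mul_right D.sq D.aV hbV hw
  have h3 : (a * b) * w * (a * b)⁻¹ = w * (c w a * c w b * c (c w b) a) := by rw [D.cj habV hw, h2]
  have h4 : c ((a * b) * w * (a * b)⁻¹) b = c w b := by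
    rw [h3, c_mul_left D.sq D.comm hbV hw (V.mul_mem (V.mul_mem hca hcb) hcba),
      c_mul_left D.sq D.comm hbV (V.mul_mem hca hcb) hcba, c_mul_left D.sq D.comm hbV hca hcb,
      D.aB w hw b hb, D.qB w hw b hb b hb, D.aB _ hcb b hb, one_mul, one_mul, mul_one]
  rw [h4, c_eq D.sq hxV hv]
  have h5 : b * a * b⁻¹ * a⁻¹ * (a * b * w * (a * b)⁻¹) * (b * a * b⁻¹ * a⁻¹)⁻¹ = b * a * w * (b * a)⁻¹ := by group
  rw [h5, D.cj (mul_mem hbV D.aV) hw, h1, h3]
  calc w * (c w a * c w b * c (c w b) a) * (w * (c w b * c w a))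
      = w * (c w a * c w b * c (c w b) a) * (c w b * c w a * w) := by
        rw [D.comm w hw _ (V.mul_mem hcb hca)]
    _ = w * (c w a * c w b) * (c (c w b) a * (c w b * c w a)) * w := by group
    _ = w * (c w a * c w b) * ((c w b * c w a) * c (c w b) a) * w := by
        rw [D.comm _ hcba _ (V.mul_mem hcb hca)]
    _ = w * (c w a * (c w b * c w b) * c w a) * c (c w b) a * w := by group
    _ = w * c (c w b) a * w := by rw [D.sq _ hcb, mul_one, D.sq _ hca, mul_one]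
    _ = c (c w b) a * w * w := by rw [D.comm w hw _ hcba]
    _ = c (c w b) a := by rw [mul_assoc, D.sq w hw, mul_one]

theorem Act.one : D.Act 1 1 := ⟨one_mem _, fun v _ => by rw [c_one_right, c_one_left]⟩

/-- the operators compose to zero -/
theorem zero {b b' v : G} (hb : b ∈ B) (hb' : b' ∈ B) (hv : v ∈ V) : c (c (c (c v b) a) b') a = 1 := by
  rw [D.aB _ (c_mem (D.BV hb) hv) b' hb', c_one_left]

theorem Act.mul {x y b b' : G} (hb : b ∈ B) (hb' : b' ∈ B) (h : D.Act x b) (h' : D.Act y b') :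
    D.Act (x * y) (b * b') := by
  refine ⟨mul_mem h.1 h'.1, fun v hv => ?_⟩
  have hbV := D.BV hb
  have hbV' := D.BV hb'
  rw [c_mul_right D.sq h.1 h'.1 hv, h.2 v hv, h'.2 v hv,
    h.2 _ (c_mem D.aV (c_mem hbV' hv)), D.zero hb' hb hv, mul_one,
    c_mul_right D.sq hbV hbV' hv, D.qB v hv b' hb' b hb, mul_one,
    c_mul_left D.sq D.comm D.aV (c_mem hbV hv) (c_mem hbV' hv)]

theorem Act.inv {x b : G} (hb : b ∈ B) (h : D.Act x b) : D.Act x⁻¹ b := by
  refine ⟨inv_mem h.1, fun v hv => ?_⟩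
  have hcx := c_mem h.1 hv
  have h0 : c (c v x) x = 1 := by
    rw [h.2 _ hcx, h.2 v hv, D.zero hb hb hv]
  have h1 : x * (v * c v x) * x⁻¹ = v := by
    calc x * (v * c v x) * x⁻¹ = (x * v * x⁻¹) * (x * c v x * x⁻¹) := by group
      _ = (v * c v x) * (c v x * c (c v x) x) := by rw [D.cj h.1 hv, D.cj h.1 hcx]
      _ = v * (c v x * c v x) := by rw [h0]; group
      _ = v := by rw [D.sq _ hcx, mul_one]
  have h2 : x⁻¹ * v * x⁻¹⁻¹ = v * c v x := by
    rw [inv_inv]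
    calc x⁻¹ * v * x = x⁻¹ * (x * (v * c v x) * x⁻¹) * x := by rw [h1]
      _ = _ := by group
  rw [c_eq D.sq (inv_mem h.1) hv, h2, ← mul_assoc, D.sq v hv, one_mul, h.2 v hv]

/-- the group of the commutators -/
def AA (_ : Dat V B a) : Subgroup G := closure {x | ∃ b ∈ B, x = b * a * b⁻¹ * a⁻¹}

theorem AA_le : D.AA ≤ B ⊔ zpowers a := by
  rw [AA, closure_le]
  rintro x ⟨b, hb, rfl⟩
  have h1 : b ∈ B ⊔ zpowers a := le_sup_left (a := B) hb
  have h2 : a ∈ B ⊔ zpowers a := le_sup_right (a := B) (mem_zpowers a)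
  exact mul_mem (mul_mem (mul_mem h1 h2) (inv_mem h1)) (inv_mem h2)

theorem mem_AA {b : G} (hb : b ∈ B) : b * a * b⁻¹ * a⁻¹ ∈ D.AA := subset_closure ⟨b, hb, rfl⟩

theorem exists_act {x : G} (hx : x ∈ D.AA) : ∃ b ∈ B, D.Act x b := by
  refine closure_induction (p := fun x _ => ∃ b ∈ B, D.Act x b) ?_ ?_ ?_ ?_ hx
  · rintro x ⟨b, hb, rfl⟩
    exact ⟨b, hb, D.cc hb⟩
  · exact ⟨1, one_mem _, Act.one D⟩
  · rintro x y _ _ ⟨b, hb, h⟩ ⟨b', hb', h'⟩
    exact ⟨b * b', mul_mem hb hb', Act.mul D hb hb' h h'⟩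
  · rintro x _ ⟨b, hb, h⟩
    exact ⟨b, hb, Act.inv D hb h⟩

theorem AA_norm : D.AA ≤ normalizer (V : Set G) := fun _ hx => (D.exists_act hx).choose_spec.2.1

theorem elemM : ElemM V D.AA where
  sq := fun x hx => by
    obtain ⟨b, hb, h⟩ := D.exists_act hx
    rw [mem_cent]
    intro v hv
    have hcx := c_mem h.1 hv
    rw [pow_two, c_mul_right D.sq h.1 h.1 hv, D.sq _ hcx, one_mul, h.2 _ hcx, h.2 v hv, D.zero hb hb hv]
  comm := fun x hx y hy => by
    obtain ⟨b, hb, h⟩ := D.exists_act hx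
    obtain ⟨b', hb', h'⟩ := D.exists_act hy
    -- `x y` and `y x` act in the same way
    have key : ∀ v ∈ V, x * y * v * (x * y)⁻¹ = y * x * v * (y * x)⁻¹ := by
      intro v hv
      rw [D.cj (mul_mem h.1 h'.1) hv, D.cj (mul_mem h'.1 h.1) hv, c_mul_right D.sq h.1 h'.1 hv,
        c_mul_right D.sq h'.1 h.1 hv, h.2 _ (c_mem h'.1 hv), h'.2 _ (c_mem h.1 hv), h'.2 v hv, h.2 v hv,
        D.zero hb' hb hv, D.zero hb hb' hv, D.comm _ (c_mem D.aV (c_mem (D.BV hb) hv)) _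
          (c_mem D.aV (c_mem (D.BV hb') hv))]
    have hyx : y * x ∈ normalizer (V : Set G) := mul_mem h'.1 h.1
    rw [mem_centralizer_iff]
    intro v hv
    obtain ⟨w, hw, rfl⟩ : ∃ w ∈ V, v = (y * x) * w * (y * x)⁻¹ :=
      ⟨(y * x)⁻¹ * v * (y * x)⁻¹⁻¹, (mem_normalizer_iff.1 (inv_mem hyx) v).1 hv, by group⟩
    have h1 := key w hw
    have h2 : x * y * x⁻¹ * y⁻¹ * (y * x * w * (y * x)⁻¹) * (x * y * x⁻¹ * y⁻¹)⁻¹ = y * x * w * (y * x)⁻¹ := by
      calc x * y * x⁻¹ * y⁻¹ * (y * x * w * (y * x)⁻¹) * (x * y * x⁻¹ * y⁻¹)⁻¹ = x * y * w * (x * y)⁻¹ := by group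
        _ = _ := h1
    rw [mul_inv_eq_iff_eq_mul] at h2
    exact h2.symm

/-- `|B : B ∩ K| ≤ |A : C_A(V)|` if `a` moves `[V, b]` for `b ∈ B ∖ K` -/
theorem relIndex_le_K [Finite G] {K : Subgroup G} (mv : ∀ b ∈ B, b ∉ K → ∃ v ∈ V, c (c v b) a ≠ 1) :
    K.relIndex B ≤ (centralizer (V : Set G)).relIndex D.AA := by
  set C := centralizer (V : Set G) with hC
  let f : B ⧸ K.subgroupOf B → D.AA ⧸ C.subgroupOf D.AA := fun q =>
    QuotientGroup.mk ⟨(q.out : G) * a * (q.out : G)⁻¹ * a⁻¹, D.mem_AA q.out.2⟩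
  have hf : Function.Injective f := by
    intro q q' h
    have h1 := QuotientGroup.eq.1 h
    rw [mem_subgroupOf] at h1
    simp only [Subgroup.coe_mul, Subgroup.coe_inv] at h1
    set b : G := (q.out : G) with hb
    set b' : G := (q'.out : G) with hb'
    have hbB : b ∈ B := q.out.2
    have hbB' : b' ∈ B := q'.out.2
    have h2 : D.Act ((b * a * b⁻¹ * a⁻¹)⁻¹ * (b' * a * b'⁻¹ * a⁻¹)) (b * b') :=
      Act.mul D hbB hbB' (Act.inv D hbB (D.cc hbB)) (D.cc hbB')
    have h3 : b * b' ∈ K := by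
      by_contra hcon
      obtain ⟨v, hv, hne⟩ := mv _ (mul_mem hbB hbB') hcon
      apply hne
      rw [← h2.2 v hv]
      exact mem_cent.1 h1 v hv
    have h4 : b * b ∈ K := by
      by_contra hcon
      obtain ⟨v, hv, hne⟩ := mv _ (mul_mem hbB hbB) hcon
      apply hne
      have h5 : c v (b * b) = 1 := by
        rw [c_mul_right D.sq (D.BV hbB) (D.BV hbB) hv, D.sq _ (c_mem (D.BV hbB) hv), one_mul,
          D.qB v hv b hbB b hbB]
      rw [h5, c_one_left]
    have h5 : b⁻¹ * b' ∈ K := by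
      have h6 : b⁻¹ * b' = (b * b)⁻¹ * (b * b') := by group
      rw [h6]
      exact mul_mem (inv_mem h4) h3
    have h7 : (QuotientGroup.mk q.out : B ⧸ K.subgroupOf B) = QuotientGroup.mk q'.out := by
      rw [QuotientGroup.eq, mem_subgroupOf]
      exact h5
    rwa [QuotientGroup.out_eq', QuotientGroup.out_eq'] at h7
  exact Nat.card_le_card_of_injective f hf

/-- `|B : C_B(V)| ≤ |A : C_A(V)|` if `a` moves `[V, b]` for `b ∈ B ∖ C(V)` -/
theorem relIndex_le [Finite G] (mv : ∀ b ∈ B, b ∉ centralizer (V : Set G) → ∃ v ∈ V, c (c v b) a ≠ 1) :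
    (centralizer (V : Set G)).relIndex B ≤ (centralizer (V : Set G)).relIndex D.AA := D.relIndex_le_K mv

/-- **LEMMA (A)**: the commutator offender; `K` = the elements `b` with `[V, b, a] = 1`. -/
theorem exists_off_K [Finite G] {K : Subgroup G} (mv : ∀ b ∈ B, b ∉ K → ∃ v ∈ V, c (c v b) a ≠ 1)
    (ne : ¬ B ≤ K) {H : Subgroup G} (hHV : H ≤ V)
    (hH : ∀ h ∈ H, ∀ b ∈ B, c (c h b) a = 1)
    (hcard : H.relIndex V ≤ K.relIndex B) : ∃ A ≤ B ⊔ zpowers a, OffM V A := by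
  refine ⟨D.AA, D.AA_le, D.elemM, ?_, ?_⟩
  · intro hcon
    obtain ⟨b, hb, hbc⟩ := SetLike.not_le_iff_exists.1 ne
    obtain ⟨v, hv, hne⟩ := mv b hb hbc
    apply hne
    rw [← (D.cc hb).2 v hv]
    exact mem_cent.1 (hcon (D.mem_AA hb)) v hv
  · have h1 : H ≤ V ⊓ centralizer (D.AA : Set G) := by
      intro h hh
      refine ⟨hHV hh, mem_centralizer_iff.2 ?_⟩
      intro x hx
      obtain ⟨b, hb, hact⟩ := D.exists_act hx
      have h2 := hact.2 h (hHV hh)
      rw [hH h hh b hb, c_def, mul_inv_eq_one, mul_inv_eq_iff_eq_mul] at h2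
      exact h2.symm
    have h2 := D.relIndex_le_K mv
    have h3 : H.relIndex V * Nat.card H = Nat.card V := card_rel hHV
    have h4 : (centralizer (V : Set G)).relIndex D.AA * Nat.card ↥(D.AA ⊓ centralizer (V : Set G)) =
        Nat.card D.AA := by
      rw [← inf_relIndex_left]
      exact card_rel inf_le_left
    have h5 : Nat.card H ≤ Nat.card ↥(V ⊓ centralizer (D.AA : Set G)) := by
      exact Nat.card_le_card_of_injective (inclusion h1) (inclusion_injective h1)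
    calc Nat.card V * Nat.card ↥(D.AA ⊓ centralizer (V : Set G))
        = H.relIndex V * Nat.card H * Nat.card ↥(D.AA ⊓ centralizer (V : Set G)) := by rw [h3]
      _ ≤ (centralizer (V : Set G)).relIndex D.AA * Nat.card ↥(V ⊓ centralizer (D.AA : Set G)) *
          Nat.card ↥(D.AA ⊓ centralizer (V : Set G)) :=
        Nat.mul_le_mul_right _ (Nat.mul_le_mul (hcard.trans h2) h5)
      _ = (centralizer (V : Set G)).relIndex D.AA * Nat.card ↥(D.AA ⊓ centralizer (V : Set G)) *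
          Nat.card ↥(V ⊓ centralizer (D.AA : Set G)) := by ring
      _ = _ := by rw [h4]

/-- **LEMMA (A)**: the commutator offender. -/
theorem exists_off [Finite G] (mv : ∀ b ∈ B, b ∉ centralizer (V : Set G) → ∃ v ∈ V, c (c v b) a ≠ 1)
    (ne : ¬ B ≤ centralizer (V : Set G)) {H : Subgroup G} (hHV : H ≤ V)
    (hH : ∀ h ∈ H, ∀ b ∈ B, c (c h b) a = 1)
    (hcard : H.relIndex V ≤ (centralizer (V : Set G)).relIndex B) : ∃ A ≤ B ⊔ zpowers a, OffM V A :=
  D.exists_off_K mv ne hHV hH hcard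

/-- **LEMMA (A)** for a `V` without offender, with `K`. -/
theorem false_of_K [Finite G] (noOff : ∀ A ≤ normalizer (V : Set G), ¬ OffM V A) {K : Subgroup G}
    (mv : ∀ b ∈ B, b ∉ K → ∃ v ∈ V, c (c v b) a ≠ 1) (ne : ¬ B ≤ K) {H : Subgroup G} (hHV : H ≤ V)
    (hH : ∀ h ∈ H, ∀ b ∈ B, c (c h b) a = 1) (hcard : H.relIndex V ≤ K.relIndex B) : False := by
  obtain ⟨A, hA, hoff⟩ := D.exists_off_K mv ne hHV hH hcard
  exact noOff A (hA.trans (sup_le D.BV (by rw [zpowers_le]; exact D.aV))) hoff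

/-- **LEMMA (A)** for a `V` without offender. -/
theorem false_of [Finite G] (noOff : ∀ A ≤ normalizer (V : Set G), ¬ OffM V A)
    (mv : ∀ b ∈ B, b ∉ centralizer (V : Set G) → ∃ v ∈ V, c (c v b) a ≠ 1)
    (ne : ¬ B ≤ centralizer (V : Set G)) {H : Subgroup G} (hHV : H ≤ V)
    (hH : ∀ h ∈ H, ∀ b ∈ B, c (c h b) a = 1)
    (hcard : H.relIndex V ≤ (centralizer (V : Set G)).relIndex B) : False :=
  D.false_of_K noOff mv ne hHV hH hcard

/-- **LEMMA (A)** in the notation of #23098: `[V, b] ≥ D₁` for all `b ∈ B ∖ C(V)`, `a` moves `d₀ ∈ D₁`, `a` centralises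
`δ ≥ [H, B]` and `|V : H| ≤ |B : C_B(V)|`. -/
theorem false_of_D [Finite G] (noOff : ∀ A ≤ normalizer (V : Set G), ¬ OffM V A) {D₁ δ H : Subgroup G} {d₀ : G}
    (hD : ∀ b ∈ B, b ∉ centralizer (V : Set G) → ∀ d ∈ D₁, ∃ v ∈ V, c v b = d) (h₀ : d₀ ∈ D₁) (h₀a : c d₀ a ≠ 1)
    (hδ : ∀ d ∈ δ, c d a = 1) (ne : ¬ B ≤ centralizer (V : Set G)) (hHV : H ≤ V)
    (hH : ∀ h ∈ H, ∀ b ∈ B, c h b ∈ δ)
    (hcard : H.relIndex V ≤ (centralizer (V : Set G)).relIndex B) : False := by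
  refine D.false_of noOff ?_ ne hHV (fun h hh b hb => hδ _ (hH h hh b hb)) hcard
  intro b hb hbc
  obtain ⟨v, hv, rfl⟩ := hD b hb hbc _ h₀
  exact ⟨v, hv, h₀a⟩

end Dat

end Cfsg.Agent.Omega.NO3S.SFive.CommOff

end

end
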